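import Cfsg.Agent.Lib.Invol.Suz.Loc.FiveS
import Cfsg.Agent.Lib.Classical.DicksonSmall

/-!
# The centralizer and the normalizer of a Sylow seven-subgroup
-/

set_option autoImplicit false
set_option linter.unusedSectionVars false
set_option linter.style.haveILetI false

namespace Cfsg.Agent.Invol.Suz.Loc

open Cfsg Cfsg.Agent.Classical.BinCoc Cfsg.Agent.Invol.Big Cfsg.Agent.Invol.Big.Code

section General

variable {Y : Type*} [Group Y] [Finite Y]

/-- Elementary involution centralizers of order four: the group is `PSL₂(4)`, or the four-group is normal. -/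
theorem four_cases (hq : ∀ a : Y, orderOf a = 2 → Nat.card (Subgroup.centralizer ({a} : Set Y)) = 4 ∧
      ∀ b ∈ Subgroup.centralizer ({a} : Set Y), b ^ 2 = 1) {t : Y} (ht : orderOf t = 2) :
    Nat.card Y = 60 ∨ ((Subgroup.centralizer ({t} : Set Y)).Normal ∧ (Nat.card Y = 4 ∨ Nat.card Y = 12)) := by
  classical
  haveI : Fact (Nat.Prime 2) := ⟨Nat.prime_two⟩
  set V := Subgroup.centralizer ({t} : Set Y)
  have htne : t ≠ 1 := fun e => by rw [e, orderOf_one] at ht; omega
  obtain ⟨T, hT⟩ := (IsPGroup.of_card (n := 2) ((hq _ ht).1.trans (by norm_num)) : IsPGroup 2 V).exists_le_sylow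
  have hT4 : Nat.card (T : Subgroup Y) = 4 := by
    refine le_antisymm ?_ ((hq _ ht).1 ▸ Subgroup.card_le_of_le hT)
    haveI : Nontrivial (T : Subgroup Y) := ⟨⟨⟨_, hT (Subgroup.mem_centralizer_singleton_iff.2 rfl)⟩, 1,
      fun e => htne (congrArg Subtype.val e)⟩⟩
    haveI := T.isPGroup'.center_nontrivial
    obtain ⟨n, hn⟩ := IsPGroup.iff_card.1 T.isPGroup'
    obtain ⟨⟨⟨w, hwT⟩, hw⟩, hw1⟩ := exists_ne (1 : Subgroup.center (T : Subgroup Y))
    obtain ⟨j, -, hj⟩ := (Nat.dvd_prime_pow Nat.prime_two).1 (hn ▸ Subgroup.orderOf_dvd_natCard _ hwT)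
    obtain ⟨i, rfl⟩ : ∃ i, j = i + 1 := ⟨j - 1, by
      rcases j with _ | j
      · rw [pow_zero, orderOf_eq_one_iff] at hj
        exact absurd (Subtype.ext (Subtype.ext hj)) hw1
      · rfl⟩
    have hw2 : orderOf (w ^ 2 ^ i) = 2 := by
      rw [orderOf_pow_of_dvd (by positivity) (by rw [hj, pow_succ]; exact dvd_mul_right _ _), hj, pow_succ,
        Nat.mul_div_cancel_left _ (Nat.two_pow_pos i)]
    rw [← (hq _ hw2).1]
    refine Subgroup.card_le_of_le fun v hv => ?_
    have hcomm : v * w = w * v := congrArg Subtype.val (Subgroup.mem_center_iff.1 hw ⟨v, hv⟩)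
    exact Subgroup.mem_centralizer_singleton_iff.2 ((show Commute v w from hcomm).pow_right _).eq
  have hTV : V = (T : Subgroup Y) := Subgroup.eq_of_le_of_card_ge hT (by rw [hT4, (hq _ ht).1])
  have hnc : ¬ IsCyclic (T : Subgroup Y) := fun h => by
    obtain ⟨a, ha⟩ := h.exists_ofOrder_eq_natCard
    have h2 : a ^ 2 = 1 := Subtype.ext (by
      have := (hq _ ht).2 (a : Y) (hTV.ge a.2)
      simpa using this)
    have := orderOf_dvd_of_pow_eq_one h2
    rw [ha, hT4] at this
    norm_num at this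
  by_cases hN : (T : Subgroup Y).Normal
  swap
  · left
    obtain ⟨F, iF, iF', hF, ⟨e⟩⟩ := S1230.result T hnc hN fun a ha => ⟨comm_of_sq (hq a ha).2, (hq a ha).2⟩
    rw [hT4] at hF
    haveI : CharP F 2 := charP_of_card_eq_prime_pow (f := 2) (p := 2) (by rw [hF]; norm_num)
    rw [Nat.card_congr e.toEquiv, RegInv.card_PSL2, hF]
  right
  refine ⟨hTV.symm ▸ hN, ?_⟩
  -- the quotient acts faithfully on the three involutions
  let ψ : Y →* Equiv.Perm {v : (T : Subgroup Y) // v ≠ 1} :=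
    { toFun := fun f => (MulAut.conjNormal f).toEquiv.subtypeEquiv fun v => by simp
      map_one' := Equiv.ext fun v => Subtype.ext (by simp)
      map_mul' := fun f f' => Equiv.ext fun v => Subtype.ext (by simp) }
  have hker : ψ.ker = (T : Subgroup Y) := by
    have htv : t ∈ (T : Subgroup Y) := hT (Subgroup.mem_centralizer_singleton_iff.2 rfl)
    refine le_antisymm (fun f hf => ?_) fun f hf => ?_
    · rw [← hTV]
      have h1 := congrArg (fun v : {v : (T : Subgroup Y) // v ≠ 1} => ((v.1 : (T : Subgroup Y)) : Y))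
        (Equiv.congr_fun (MonoidHom.mem_ker.1 hf) ⟨⟨t, htv⟩, fun e => htne (congrArg Subtype.val e)⟩)
      exact Subgroup.mem_centralizer_singleton_iff.2 (mul_inv_eq_iff_eq_mul.1 (by simpa [ψ] using h1))
    · refine MonoidHom.mem_ker.2 (Equiv.ext fun v => Subtype.ext (Subtype.ext ?_))
      show f * (v.1 : Y) * f⁻¹ = v.1
      have hcomm := congrArg Subtype.val ((comm_of_sq (H := Y) (K := (T : Subgroup Y))
        (fun b hb => (hq _ ht).2 b (hTV.ge hb))).is_comm.comm ⟨f, hf⟩ v.1)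
      exact mul_inv_eq_iff_eq_mul.2 hcomm
  have hsplit := Subgroup.card_eq_card_quotient_mul_card_subgroup ψ.ker
  rw [Nat.card_congr (QuotientGroup.quotientKerEquivRange ψ).toEquiv, hker, hT4] at hsplit
  have h3 : Nat.card {v : (T : Subgroup Y) // v ≠ 1} = 3 := by
    haveI := Fintype.ofFinite (T : Subgroup Y)
    rw [Nat.card_eq_fintype_card, Fintype.card_subtype_compl, Fintype.card_subtype_eq,
      ← Nat.card_eq_fintype_card, hT4]
  have h6 : Nat.card ψ.range ∣ 6 := by
    refine (Subgroup.card_subgroup_dvd_card _).trans (dvd_of_eq ?_)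
    rw [Nat.card_perm, h3]; rfl
  have hodd : ¬ 2 ∣ Nat.card ψ.range := fun h => by
    obtain ⟨j, hj⟩ := h
    have h8 : 2 ^ 3 ∣ Nat.card Y := ⟨j, by rw [hsplit, hj]; ring⟩
    have := Sylow.card_eq_multiplicity T
    rw [hT4] at this
    have hle := (Nat.Prime.pow_dvd_iff_le_factorization Nat.prime_two Nat.card_pos.ne').1 h8
    have := Nat.pow_le_pow_right (show 0 < 2 by norm_num) hle
    omega
  have := Nat.le_of_dvd (by norm_num) h6
  interval_cases hr : Nat.card ψ.range <;> omega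

end General

variable {G : Type*} [Group G] [Finite G] {z : G} {Q : Subgroup G} {cd : G → ℕ} {x : G}

/-- Orbits of automorphisms grow with the group. -/
theorem index_mono {H K : Subgroup G} (hHK : H ≤ K) {e f : ℕ} (hH : Nat.card (nz H x) = Nat.card (cx H x) * e)
    (hK : Nat.card (nz K x) = Nat.card (cx K x) * f) : e ≤ f := by
  have key : ∀ (H : Subgroup G), Nat.card (nz H x) =
      Nat.card {w // ∃ u ∈ nz H x, u * x * u⁻¹ = w} * Nat.card (cx H x) := fun H =>
    card_of_orbit (nz H x) (cx H x) x _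
      (fun v => ⟨fun hv => ⟨cx_le_nz H x hv, (mem_cx.1 hv).2⟩, fun hv => mem_cx.2 ⟨hv.1.1, hv.2⟩⟩)
      (fun w hw => hw) (fun u hu => ⟨u, hu, rfl⟩)
  have h1 := key H
  have h2 := key K
  rw [hH, mul_comm] at h1
  rw [hK, mul_comm] at h2
  rw [Nat.eq_of_mul_eq_mul_right Nat.card_pos h1, Nat.eq_of_mul_eq_mul_right Nat.card_pos h2]
  refine Nat.card_le_card_of_injective (fun w => ⟨w.1, ?_⟩) fun a b e => Subtype.ext (congrArg (·.1) e)
  obtain ⟨u, hu, hue⟩ := w.2
  exact ⟨u, ⟨hHK hu.1, hu.2⟩, hue⟩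

namespace Mdl

variable {S : Setting z Q cd} {g : ℕ → G}

theorem sylow_seven_card (M : Mdl S g) (B : Sylow 7 G) : Nat.card (B : Subgroup G) = 7 := by
  haveI : Fact (Nat.Prime 7) := ⟨by norm_num⟩
  rw [B.card_eq_multiplicity, M.card_G, show 448345497600 = 7 ^ 1 * 64049356800 by norm_num,
    Nat.factorization_mul (by norm_num) (by norm_num), Finsupp.add_apply,
    Nat.Prime.factorization_pow (by norm_num : Nat.Prime 7), Finsupp.single_eq_same,
    Nat.factorization_eq_zero_of_not_dvd (by norm_num : ¬ 7 ∣ 64049356800)]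
  norm_num

theorem into_D (M : Mdl S g) (hx : orderOf x = 7) : ∃ k : G, k * x * k⁻¹ ∈ M.L := by
  haveI : Fact (Nat.Prime 7) := ⟨by norm_num⟩
  obtain ⟨x0, h0, ho⟩ := M.exists_order (p := 7) (Or.inr rfl)
  obtain ⟨k, -, hk⟩ := conj_of_part (H := (⊤ : Subgroup G)) ho (Subgroup.mem_top _) hx (Subgroup.mem_top _)
    (by rw [Subgroup.card_top, M.card_G]; norm_num)
  exact ⟨k, Subgroup.zpowers_le.2 h0 hk⟩

theorem invol_B_seven (M : Mdl S g) (hx : orderOf x = 7) (w : G) (hw : w * x = x * w) (h2 : w * w = 1)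
    (h1 : w ≠ 1) : IsConj w (g 2) := by
  haveI : Fact (Nat.Prime 2) := ⟨Nat.prime_two⟩
  refine (M.two_class' w (orderOf_eq_prime (by rw [pow_two]; exact h2) h1)).resolve_left fun hA => ?_
  obtain ⟨k, hk⟩ := isConj_iff.1 hA
  have hm : k * x * k⁻¹ ∈ Subgroup.centralizer ({z} : Set G) :=
    Subgroup.mem_centralizer_singleton_iff.2 (by rw [← hk, conj_mul, conj_mul, hw])
  have := Subgroup.orderOf_dvd_natCard _ hm
  rw [Setting.card_C S, ← MulAut.conj_apply, MulEquiv.orderOf_eq, hx] at this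
  norm_num at this

theorem five_not_dvd (M : Mdl S g) (hx : orderOf x = 7) : ¬ 5 ∣ Nat.card (Cx x) := by
  intro h
  haveI : Fact (Nat.Prime 5) := ⟨by norm_num⟩
  obtain ⟨⟨u, hu⟩, huo⟩ := exists_prime_orderOf_dvd_card' (G := Cx x) 5 h
  rw [Subgroup.orderOf_mk] at huo
  obtain ⟨β, hβ, hb5, hb1⟩ := Setting.exists_five S
  obtain ⟨P, hP⟩ := M.exists_sylow_five huo
  have hk := (M.norm_five hβ hb5 hb1 P).2 u hP fun e => by rw [e, orderOf_one] at huo; omega
  obtain ⟨huo', hq, -⟩ := M.kind_facts hβ hb5 hb1 hk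
  have h7 : 7 ∣ Nat.card (Cx u) := hx ▸ Subgroup.orderOf_dvd_natCard _ (mem_Cx.2 (mem_Cx.1 hu).symm)
  rw [card_Cx, huo'] at h7
  rcases hq with e | e <;> rw [e] at h7 <;> norm_num at h7

/-- The centralizer modulo the element, and the normalizer. -/
theorem seven_local (M : Mdl S g) (hx : orderOf x = 7) :
    Nat.card (Cx x ⧸ Cn x) = 12 ∧ Nat.card (nz ⊤ x) = 504 ∧
      Nonempty (Cx x ⧸ Cn x ≃* alternatingGroup (Fin 4)) := by
  classical
  haveI : Fact (Nat.Prime 7) := ⟨by norm_num⟩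
  haveI : Fact (Nat.Prime 2) := ⟨Nat.prime_two⟩
  haveI : Fact (Nat.Prime 3) := ⟨Nat.prime_three⟩
  obtain ⟨k, hk⟩ := M.into_D hx
  set x0 := k * x * k⁻¹
  have hx0 : orderOf x0 = 7 := by rw [← hx]; exact MulEquiv.orderOf_eq (MulAut.conj k) x
  obtain ⟨hC, hN⟩ := M.D_local (Or.inr rfl) hk hx0
  set t : Cx x := ⟨k⁻¹ * g 2 * k, mem_Cx.2 (by
    have := Subgroup.mem_centralizer_singleton_iff.1 (M.L_le hk)
    calc k⁻¹ * g 2 * k * x = k⁻¹ * (g 2 * x0) * k := by simp only [x0]; group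
      _ = k⁻¹ * (x0 * g 2) * k := by rw [this]
      _ = x * (k⁻¹ * g 2 * k) := by simp only [x0]; group)⟩
  have ht2 : t * t = 1 := Subtype.ext (by
    show k⁻¹ * g 2 * k * (k⁻¹ * g 2 * k) = 1
    calc k⁻¹ * g 2 * k * (k⁻¹ * g 2 * k) = k⁻¹ * (g 2 * g 2) * k := by group
      _ = 1 := by rw [M.g2_sq]; group)
  have hto : orderOf (QuotientGroup.mk' (Cn x) t) = 2 := by
    refine orderOf_eq_prime (by rw [← map_pow, pow_two, ht2, map_one]) fun e => M.t_ne_one ?_
    have h1 := Subgroup.orderOf_dvd_natCard _ (Subgroup.mem_subgroupOf.1 ((QuotientGroup.eq_one_iff t).1 e))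
    rw [Nat.card_zpowers, hx] at h1
    have h2 : orderOf (t : G) ∣ 2 := orderOf_dvd_of_pow_eq_one (by rw [pow_two]; exact congrArg Subtype.val ht2)
    have h3 := orderOf_eq_one_iff.1 (Nat.eq_one_of_dvd_coprimes (by norm_num : Nat.Coprime 2 7) h2 h1)
    calc g 2 = k * (k⁻¹ * g 2 * k) * k⁻¹ := by group
      _ = 1 := by rw [show k⁻¹ * g 2 * k = 1 from h3]; group
  have hq := fun a (ha : orderOf a = 2) => M.quot_four (Or.inr rfl) hx (M.invol_B_seven hx) (a := a) ha
  obtain ⟨hnorm, hY⟩ : (Subgroup.centralizer ({QuotientGroup.mk' (Cn x) t} : Set (Cx x ⧸ Cn x))).Normal ∧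
      (Nat.card (Cx x ⧸ Cn x) = 4 ∨ Nat.card (Cx x ⧸ Cn x) = 12) := by
    refine (four_cases hq hto).resolve_left fun e => M.five_not_dvd hx ?_
    rw [card_Cx, hx, e]; norm_num
  have hY12 : Nat.card (Cx x ⧸ Cn x) = 12 := by
    refine hY.resolve_left fun h4 => ?_
    have hCx0 : Nat.card (Cx x0) = 28 := by rw [card_Cx_conj, card_Cx, hx, h4]
    have hle : Cx x0 ≤ Dg g := fun v hv => by
      have : cx (Dg g) x0 = Cx x0 := Subgroup.eq_of_le_of_card_ge inf_le_right (by rw [hC, hCx0])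
      exact (this ▸ hv : v ∈ cx (Dg g) x0).1
    have hnzD : nz ⊤ x0 = nz (Dg g) x0 := by
      refine (Subgroup.eq_of_le_of_card_ge (inf_le_inf_right _ le_top) ?_).symm
      obtain ⟨e, he, hN'⟩ := index_cx (H := (⊤ : Subgroup G)) hx0
      rw [hN', hN, show cx ⊤ x0 = Cx x0 from top_inf_eq _, hCx0]
      have := Nat.le_of_dvd (by norm_num) he
      omega
    -- another involution centralizing the element
    obtain ⟨b, hb, hbne⟩ : ∃ b ∈ Subgroup.centralizer ({QuotientGroup.mk' (Cn x) t} : Set (Cx x ⧸ Cn x)),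
        b ≠ 1 ∧ b ≠ QuotientGroup.mk' (Cn x) t := by
      by_contra hcon
      push Not at hcon
      have hsub : Nat.card (Subgroup.centralizer ({QuotientGroup.mk' (Cn x) t} : Set (Cx x ⧸ Cn x))) ≤ 2 := by
        refine (Nat.card_le_card_of_injective (fun b => (decide (b.1 = 1) : Bool)) fun a b e => ?_).trans_eq
          (by rw [Nat.card_eq_fintype_card, Fintype.card_bool])
        have he : (decide (a.1 = 1)) = decide (b.1 = 1) := e
        rw [decide_eq_decide] at he
        refine Subtype.ext ?_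
        by_cases h1 : a.1 = 1
        · rw [h1, he.1 h1]
        · rw [hcon _ a.2 h1, hcon _ b.2 fun h => h1 (he.2 h)]
      rw [(hq _ hto).1] at hsub
      omega
    obtain ⟨hb1, hbt⟩ := hbne
    have hbo : orderOf b = 2 := orderOf_eq_prime ((hq _ hto).2 b hb) hb1
    obtain ⟨w, hw2, hw1, hwb⟩ := lift_invol hx (by decide) hbo
    set w0 := k * (w : G) * k⁻¹
    have hw0x : w0 * x0 = x0 * w0 := by simp only [w0, x0]; rw [conj_mul, conj_mul, mem_Cx.1 w.2]
    obtain ⟨l, hl⟩ := isConj_iff.1 (M.invol_B_seven hx0 w0 hw0x (invol_conj k (congrArg Subtype.val hw2))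
      fun e => hw1 (Subtype.ext (conj_eq_one_iff.1 e)))
    have hlD : l * x0 * l⁻¹ ∈ Dg g :=
      Subgroup.mem_centralizer_singleton_iff.2 (by
        rw [← hl]
        calc l * x0 * l⁻¹ * (l * w0 * l⁻¹) = l * (x0 * w0) * l⁻¹ := by group
          _ = l * (w0 * x0) * l⁻¹ := by rw [hw0x]
          _ = l * w0 * l⁻¹ * (l * x0 * l⁻¹) := by group)
    obtain ⟨d, hd, hdx⟩ := M.D_conj (Or.inr rfl) (M.L_le hk) hx0 hlD
      (by rw [← hx0]; exact MulEquiv.orderOf_eq (MulAut.conj l) x0)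
    have hdl : d * l ∈ Dg g := by
      have : d * l ∈ nz ⊤ x0 := mem_nz_of hx0 (Subgroup.mem_top _)
        (by rwa [show d * l * x0 * (d * l)⁻¹ = d * (l * x0 * l⁻¹) * d⁻¹ by group])
      exact (hnzD ▸ this : d * l ∈ nz (Dg g) x0).1
    have hlD' : l ∈ Dg g := by
      have := (Dg g).mul_mem ((Dg g).inv_mem hd) hdl
      rwa [inv_mul_cancel_left] at this
    refine hbt ?_
    rw [← hwb]
    refine congrArg _ (Subtype.ext ?_)
    show (w : G) = k⁻¹ * g 2 * k
    have : w0 = g 2 := by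
      have hlt := Subgroup.mem_centralizer_singleton_iff.1 hlD'
      calc w0 = l⁻¹ * (l * w0 * l⁻¹) * l := by group
        _ = l⁻¹ * (g 2 * l) := by rw [hl, mul_assoc]
        _ = g 2 := by rw [← hlt, inv_mul_cancel_left]
    calc (w : G) = k⁻¹ * w0 * k := by simp only [w0]; group
      _ = _ := by rw [this]
  refine ⟨hY12, ?_, ?_⟩
  · obtain ⟨e, he, hNtop⟩ := index_cx (H := (⊤ : Subgroup G)) hx0
    have h6 : 6 ≤ e := index_mono (le_top : Dg g ≤ ⊤) (x := x0) (e := 6) (by rw [hN, hC]) hNtop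
    have := Nat.le_of_dvd (by norm_num) he
    have he6 : e = 6 := by omega
    have hx0C : Nat.card (Cx x0) = 84 := by rw [card_Cx_conj, card_Cx, hx, hY12]
    rw [show cx ⊤ x0 = Cx x0 from top_inf_eq _, hx0C, he6] at hNtop
    -- conjugate back
    rw [← show 84 * 6 = 504 by norm_num, ← hNtop]
    refine Nat.card_congr
      { toFun := fun v => ⟨k * v.1 * k⁻¹, mem_nz_of hx0 (Subgroup.mem_top _) ?_⟩
        invFun := fun v => ⟨k⁻¹ * v.1 * k, mem_nz_of hx (Subgroup.mem_top _) ?_⟩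
        left_inv := fun v => Subtype.ext (by group)
        right_inv := fun v => Subtype.ext (by group) }
    · obtain ⟨j, hj⟩ := Subgroup.mem_zpowers_iff.1 (mem_nz v.2).2
      refine Subgroup.mem_zpowers_iff.2 ⟨j, ?_⟩
      simp only [x0]
      rw [conj_zpow, hj]; group
    · obtain ⟨j, hj⟩ := Subgroup.mem_zpowers_iff.1 (mem_nz v.2).2
      refine Subgroup.mem_zpowers_iff.2 ⟨j, ?_⟩
      simp only [x0] at hj
      rw [conj_zpow] at hj
      calc x ^ j = k⁻¹ * (k * x ^ j * k⁻¹) * k := by group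
        _ = _ := by rw [hj]; group
  · obtain ⟨P⟩ : Nonempty (Sylow 3 (Cx x ⧸ Cn x)) := inferInstance
    have hP : Nat.card (P : Subgroup (Cx x ⧸ Cn x)) = 3 := by
      rw [P.card_eq_multiplicity, hY12, show (12 : ℕ) = 3 ^ 1 * 4 by norm_num,
        Nat.factorization_mul (by norm_num) (by norm_num), Finsupp.add_apply,
        Nat.Prime.factorization_pow Nat.prime_three, Finsupp.single_eq_same,
        Nat.factorization_eq_zero_of_not_dvd (by norm_num : ¬ 3 ∣ 4)]
      norm_num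
    refine Dickson.nonempty_alternating_four hY12 (P : Subgroup (Cx x ⧸ Cn x)) hP ?_
    refine (Subgroup.eq_of_le_of_card_ge Subgroup.le_normalizer ?_).symm
    set Nm := Subgroup.normalizer ((P : Subgroup (Cx x ⧸ Cn x)) : Set (Cx x ⧸ Cn x))
    have hn := card_sylow_modEq_one 3 (Cx x ⧸ Cn x)
    rw [P.card_eq_index_normalizer] at hn
    have hNidx := Nm.card_mul_index
    rw [hY12] at hNidx
    have hne : Nm.index ≠ 1 := fun e => by
      haveI : (P : Subgroup (Cx x ⧸ Cn x)).Normal := Subgroup.normalizer_eq_top_iff.1 (Subgroup.index_eq_one.1 e)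
      haveI := hnorm
      obtain ⟨⟨f, hfP⟩, hfo⟩ := exists_prime_orderOf_dvd_card' (G := (P : Subgroup (Cx x ⧸ Cn x))) 3
        (dvd_of_eq hP.symm)
      rw [Subgroup.orderOf_mk] at hfo
      set t' := QuotientGroup.mk' (Cn x) t
      have htT : t' ∈ Subgroup.centralizer ({t'} : Set (Cx x ⧸ Cn x)) := Subgroup.mem_centralizer_singleton_iff.2 rfl
      have hdisj : Disjoint (P : Subgroup (Cx x ⧸ Cn x)) (Subgroup.centralizer ({t'} : Set (Cx x ⧸ Cn x))) := by
        rw [disjoint_iff, Subgroup.eq_bot_iff_forall]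
        intro v hv
        refine orderOf_eq_one_iff.1 (Nat.eq_one_of_dvd_coprimes (show Nat.Coprime 3 4 by norm_num) ?_ ?_)
        · exact hP ▸ Subgroup.orderOf_dvd_natCard _ hv.1
        · exact (hq _ hto).1 ▸ Subgroup.orderOf_dvd_natCard _ hv.2
      have hcomm := Subgroup.commute_of_normal_of_disjoint _ _ inferInstance inferInstance hdisj f t' hfP htT
      have := Subgroup.orderOf_dvd_natCard (Subgroup.centralizer ({t'} : Set (Cx x ⧸ Cn x)))
        (Subgroup.mem_centralizer_singleton_iff.2 hcomm.eq)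
      rw [hfo, (hq _ hto).1] at this
      norm_num at this
    rw [hP]
    have hidx : Nm.index ∣ 12 := Dvd.intro_left _ hNidx
    have h4 : 4 ≤ Nm.index := by
      have : 0 < Nm.index := Nat.pos_of_ne_zero Subgroup.index_ne_zero_of_finite
      have h' : Nm.index % 3 = 1 := hn
      omega
    by_contra hlt
    have : 4 * 4 ≤ Nat.card Nm * Nm.index := Nat.mul_le_mul (by omega) h4
    omega

/-- The centralizer and the normalizer of a Sylow seven-subgroup. -/
theorem sylow_seven (M : Mdl S g) (B : Sylow 7 G) :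
    Nonempty (↥(Subgroup.centralizer ((B : Subgroup G) : Set G)) ≃* Multiplicative (ZMod 7) × alternatingGroup (Fin 4)) ∧
      Nat.card ↥(Subgroup.normalizer ((B : Subgroup G) : Set G)) = 504 := by
  classical
  haveI : Fact (Nat.Prime 7) := ⟨by norm_num⟩
  obtain ⟨⟨x, hxB⟩, hx⟩ := exists_prime_orderOf_dvd_card' (G := (B : Subgroup G)) 7
    (dvd_of_eq (M.sylow_seven_card B).symm)
  rw [Subgroup.orderOf_mk] at hx
  have hBx : Subgroup.zpowers x = (B : Subgroup G) := Subgroup.eq_of_le_of_card_ge (Subgroup.zpowers_le.2 hxB)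
    (by rw [M.sylow_seven_card, Nat.card_zpowers, hx])
  obtain ⟨hY, hN, ⟨eA⟩⟩ := M.seven_local hx
  refine ⟨?_, ?_⟩
  swap
  · rw [← hBx, ← hN]
    exact Nat.card_congr (MulEquiv.subgroupCongr (top_inf_eq _).symm).toEquiv
  have hC : Subgroup.centralizer ((B : Subgroup G) : Set G) = Cx x := by
    rw [← hBx, Subgroup.zpowers_eq_closure, Subgroup.centralizer_closure]
  have hcop : Nat.Coprime (Nat.card (Cn x)) (Cn x).index := by
    rw [card_Cn, hx, Subgroup.index_eq_card, hY]
    norm_num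
  obtain ⟨H, hH⟩ := Subgroup.exists_right_complement'_of_coprime hcop
  let Θ : Cn x × H →* Cx x :=
    { toFun := fun q => (q.1 : Cx x) * (q.2 : Cx x)
      map_one' := by simp
      map_mul' := fun p q => by
        simp only [Prod.fst_mul, Prod.snd_mul, Subgroup.coe_mul]
        calc (p.1 : Cx x) * q.1 * ((p.2 : Cx x) * q.2) = (p.1 : Cx x) * ((q.1 : Cx x) * p.2) * q.2 := by group
          _ = _ := by rw [Cn_comm q.1.2]; group }
  have hΘ : Function.Bijective Θ := hH
  let π : H →* Cx x ⧸ Cn x := (QuotientGroup.mk' (Cn x)).comp H.subtype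
  have hπ : Function.Bijective π := by
    refine (Nat.bijective_iff_injective_and_card _).2 ⟨(injective_iff_map_eq_one π).2 fun h hh => ?_, ?_⟩
    · have := congrArg Prod.snd (hΘ.1 (show Θ (⟨(h : Cx x), (QuotientGroup.eq_one_iff _).1 hh⟩, 1) = Θ (1, h) by
        simp [Θ]))
      exact this.symm
    · have h1 := hH.card_mul
      rw [card_Cx, card_Cn] at h1
      exact Nat.eq_of_mul_eq_mul_left (by rw [hx]; norm_num) h1
  have hcyc : IsCyclic (Cn x) := isCyclic_of_prime_card (p := 7) (card_Cn.trans hx)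
  exact ⟨(MulEquiv.subgroupCongr hC).trans ((MulEquiv.ofBijective Θ hΘ).symm.trans (MulEquiv.prodCongr
    ((zmodCyclicMulEquiv hcyc).symm.trans (AddEquiv.toMultiplicative (ZMod.ringEquivCongr (card_Cn.trans hx)).toAddEquiv))
    ((MulEquiv.ofBijective π hπ).trans eA)))⟩

end Mdl

end Cfsg.Agent.Invol.Suz.Loc
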