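import Cfsg.Agent.Lib.Invol.Suz.Loc.Local

/-!
# The centralizers in `C(t)` of the elements of order five and seven
-/

set_option autoImplicit false
set_option linter.unusedSectionVars false
set_option linter.style.haveILetI false

namespace Cfsg.Agent.Invol.Suz.Loc

open Cfsg Cfsg.Agent.Classical.BinCoc Cfsg.Agent.Invol.Big Cfsg.Agent.Invol.Big.Code

variable {G : Type*} [Group G] [Finite G] {z : G} {Q : Subgroup G} {cd : G → ℕ}

namespace Mdl

variable {S : Setting z Q cd} {g : ℕ → G}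

/-- Two-subgroups of `C(t)` are conjugate there into the group of the codes. -/
theorem conj_SS (M : Mdl S g) {R : Subgroup G} (hR : IsPGroup 2 R) (hRD : R ≤ Dg g) :
    ∃ d ∈ Dg g, ∀ x ∈ R, d * x * d⁻¹ ∈ M.sub := by
  obtain ⟨P, hP⟩ := M.exists_sylow
  haveI : Fact (Nat.Prime 2) := ⟨Nat.prime_two⟩
  obtain ⟨P', hP'⟩ := (hR.comap_subtype : IsPGroup 2 (R.subgroupOf (Dg g))).exists_le_sylow
  obtain ⟨d, hd⟩ := MulAction.exists_smul_eq (Dg g) P' P
  refine ⟨d, d.2, fun x hx => ?_⟩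
  have h1 : (⟨x, hRD hx⟩ : Dg g) ∈ (P' : Subgroup (Dg g)) := hP' (Subgroup.mem_subgroupOf.2 hx)
  have h2 := Subgroup.smul_mem_pointwise_smul _ (MulAut.conj d) _ h1
  rw [← Sylow.coe_subgroup_smul, hd, hP, Subgroup.mem_subgroupOf] at h2
  exact h2

theorem L_normal (M : Mdl S g) : (M.L.subgroupOf (Dg g)).Normal :=
  ⟨fun x hx d => by
    rw [Subgroup.mem_subgroupOf] at hx ⊢
    exact M.conj_mem_L d.2 hx⟩

theorem L_index (M : Mdl S g) : (M.L.subgroupOf (Dg g)).index = 8 := by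
  have h := (M.L.subgroupOf (Dg g)).card_mul_index
  rw [Nat.card_congr (Subgroup.subgroupOfEquivOfLe M.L_le).toEquiv, M.card_L, M.card_D] at h
  omega

/-- Elements of odd order of `C(t)` lie in `L`. -/
theorem odd_mem_L (M : Mdl S g) {d : G} (hd : d ∈ Dg g) (ho : Odd (orderOf d)) : d ∈ M.L := by
  haveI := M.L_normal
  set e : Dg g := ⟨d, hd⟩
  have h1 : orderOf (QuotientGroup.mk' (M.L.subgroupOf (Dg g)) e) ∣ 2 ^ 3 := by
    rw [show (2 : ℕ) ^ 3 = 8 by norm_num, ← M.L_index]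
    exact orderOf_dvd_natCard _
  have h2 : orderOf (QuotientGroup.mk' (M.L.subgroupOf (Dg g)) e) ∣ orderOf d :=
    (orderOf_map_dvd _ e).trans (dvd_of_eq (Subgroup.orderOf_mk _ _))
  have := orderOf_eq_one_iff.1
    (Nat.eq_one_of_dvd_coprimes ((Nat.coprime_two_right.2 ho).pow_right 3) h2 h1)
  exact Subgroup.mem_subgroupOf.1 ((QuotientGroup.eq_one_iff _).1 this)

theorem mem_L_of_order (M : Mdl S g) {x : G} {p : ℕ} (hp : p = 5 ∨ p = 7) (hxD : x ∈ Dg g) (hx : orderOf x = p) :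
    x ∈ M.L := M.odd_mem_L hxD (odd_of hp hx).1

theorem exists_order (M : Mdl S g) {p : ℕ} (hp : p = 5 ∨ p = 7) : ∃ x ∈ M.L, orderOf x = p := by
  haveI : Fact p.Prime := ⟨by rcases hp with rfl | rfl <;> norm_num⟩
  obtain ⟨⟨x, hx⟩, ho⟩ := exists_prime_orderOf_dvd_card' (G := M.L) p
    (by rw [M.card_L]; rcases hp with rfl | rfl <;> norm_num)
  exact ⟨x, hx, by rwa [Subgroup.orderOf_mk] at ho⟩

theorem D_conj (M : Mdl S g) {x y : G} {p : ℕ} (hp : p = 5 ∨ p = 7) (hxD : x ∈ Dg g) (hx : orderOf x = p)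
    (hyD : y ∈ Dg g) (hy : orderOf y = p) : ∃ d ∈ Dg g, d * y * d⁻¹ ∈ Subgroup.zpowers x := by
  haveI : Fact p.Prime := ⟨by rcases hp with rfl | rfl <;> norm_num⟩
  exact conj_of_part hx hxD hy hyD (by rw [M.card_D]; rcases hp with rfl | rfl <;> norm_num)

/-- The restriction to a subgroup of the map to the quotient by `L`. -/
def toTop (M : Mdl S g) (H : Subgroup G) (hH : H ≤ Dg g) :
    letI := M.L_normal
    H →* Dg g ⧸ M.L.subgroupOf (Dg g) :=
  letI := M.L_normal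
  (QuotientGroup.mk' (M.L.subgroupOf (Dg g))).comp (Subgroup.inclusion hH)

theorem toTop_ker (M : Mdl S g) (H : Subgroup G) (hH : H ≤ Dg g) :
    letI := M.L_normal
    (M.toTop H hH).ker = (H ⊓ M.L).subgroupOf H := by
  letI := M.L_normal
  ext u
  rw [MonoidHom.mem_ker, toTop, MonoidHom.comp_apply, QuotientGroup.mk'_apply, QuotientGroup.eq_one_iff,
    Subgroup.mem_subgroupOf, Subgroup.mem_subgroupOf, Subgroup.coe_inclusion, Subgroup.mem_inf]
  exact ⟨fun h => ⟨u.2, h⟩, fun h => h.2⟩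

theorem card_toTop (M : Mdl S g) (H : Subgroup G) (hH : H ≤ Dg g) :
    letI := M.L_normal
    Nat.card H = Nat.card (M.toTop H hH).range * Nat.card (H ⊓ M.L : Subgroup G) := by
  letI := M.L_normal
  rw [Subgroup.card_eq_card_quotient_mul_card_subgroup (M.toTop H hH).ker,
    Nat.card_congr (QuotientGroup.quotientKerEquivRange (M.toTop H hH)).toEquiv, toTop_ker,
    Nat.card_congr (Subgroup.subgroupOfEquivOfLe (inf_le_left : H ⊓ M.L ≤ H)).toEquiv]

theorem inf_L (M : Mdl S g) (x : G) : nz (Dg g) x ⊓ M.L = nz M.L x ∧ cx (Dg g) x ⊓ M.L = cx M.L x := by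
  constructor <;>
  · ext u
    simp only [Subgroup.mem_inf]
    exact ⟨fun h => ⟨h.2, h.1.2⟩, fun h => ⟨⟨M.L_le h.1, h.2⟩, h.1⟩⟩

/-- The normalizer in `C(t)`. -/
theorem card_nzD (M : Mdl S g) {x : G} {p : ℕ} (hp : p = 5 ∨ p = 7) (hxL : x ∈ M.L) (hx : orderOf x = p) :
    Nat.card (nz (Dg g) x) = 8 * Nat.card (nz M.L x) := by
  haveI : Fact p.Prime := ⟨by rcases hp with rfl | rfl <;> norm_num⟩
  letI := M.L_normal
  rw [M.card_toTop (nz (Dg g) x) inf_le_left, (M.inf_L x).1]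
  congr 1
  rw [(MonoidHom.range_eq_top).2, Subgroup.card_top]
  · exact M.L_index
  intro q
  obtain ⟨d, rfl⟩ := QuotientGroup.mk'_surjective _ q
  have hd : (d : G) * x * (d : G)⁻¹ ∈ M.L := M.conj_mem_L d.2 hxL
  obtain ⟨l, hl, hle⟩ := conj_of_part (H := M.L) hx hxL
    (y := (d : G) * x * (d : G)⁻¹) (by rw [← MulAut.conj_apply, MulEquiv.orderOf_eq, hx]) hd
    (by rw [M.card_L]; rcases hp with rfl | rfl <;> norm_num)
  have hn : l * d ∈ nz (Dg g) x := mem_nz_of hx ((Dg g).mul_mem (M.L_le hl) d.2) (by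
    rwa [show l * (d : G) * x * (l * (d : G))⁻¹ = l * ((d : G) * x * (d : G)⁻¹) * l⁻¹ by group])
  refine ⟨⟨_, hn⟩, ?_⟩
  show QuotientGroup.mk' _ ((⟨l, M.L_le hl⟩ : Dg g) * d) = _
  rw [map_mul, show QuotientGroup.mk' (M.L.subgroupOf (Dg g)) ⟨l, M.L_le hl⟩ = 1 from
    (QuotientGroup.eq_one_iff _).2 (Subgroup.mem_subgroupOf.2 hl), one_mul]

/-- The elements of two-power order centralizing an element of order five or seven are conjugate to
involutive elements with even codes. -/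
theorem even_of_cent (M : Mdl S g) {x : G} {p : ℕ} (hp : p = 5 ∨ p = 7) (hxL : x ∈ M.L) (hx : orderOf x = p)
    {R : Subgroup G} (hR : IsPGroup 2 R) (hRx : R ≤ cx (Dg g) x) :
    ∃ d ∈ Dg g, (∀ w ∈ R, d * w * d⁻¹ ∈ M.S0) ∧ (∀ w ∈ R, w ∈ M.L → w = 1) ∧ ∀ w ∈ R, w * w = 1 := by
  haveI : Fact p.Prime := ⟨by rcases hp with rfl | rfl <;> norm_num⟩
  obtain ⟨d, hd, hdR⟩ := M.conj_SS hR (hRx.trans inf_le_left)
  have hxL' : d * x * d⁻¹ ∈ M.L := M.conj_mem_L hd hxL
  have hx' : orderOf (d * x * d⁻¹) = p := by rw [← MulAut.conj_apply, MulEquiv.orderOf_eq, hx]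
  have heven : ∀ w ∈ R, ∀ a < 512, ev g a = d * w * d⁻¹ → a % 2 = 0 := fun w hw a ha e => by
    by_contra hodd
    refine M.no_odd_cent ha (by omega) hp hxL' hx' ?_
    rw [e, conj_mul, conj_mul, (mem_cx.1 (hRx hw)).2]
  have hone : ∀ w ∈ R, w ∈ M.L → w = 1 := by
    intro w hw hwL
    have hwx : w ∈ Subgroup.zpowers x := by
      rw [← M.cxL_eq hp hxL hx]
      exact mem_cx.2 ⟨hwL, (mem_cx.1 (hRx hw)).2⟩
    obtain ⟨k, hk⟩ := hR ⟨w, hw⟩
    have hk' : w ^ 2 ^ k = 1 := congrArg Subtype.val hk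
    by_contra hw1
    have h2 := (prime_zpowers_eq hx hwx hw1).2
    have := (Nat.dvd_prime_pow Nat.prime_two).1 (h2 ▸ orderOf_dvd_of_pow_eq_one hk')
    obtain ⟨j, -, hj⟩ := this
    rcases j with _ | j
    · omega
    · rw [pow_succ] at hj; omega
  refine ⟨d, hd, fun w hw => ?_, hone, fun w hw => ?_⟩
  · obtain ⟨a, ha, e⟩ := hdR w hw
    exact e ▸ (M.ev_mem_S0 ha).2 (heven w hw a ha e)
  · obtain ⟨a, ha, e⟩ := hdR w hw
    have h2 := heven w hw a ha e
    have h8 := even_sq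
    simp only [List.all_eq_true, List.mem_range, beq_iff_eq] at h8
    have h8' := h8 (a / 2) (by omega)
    rw [show 2 * (a / 2) = a by omega] at h8'
    refine hone _ (mul_mem hw hw) ?_
    have hU : d * (w * w) * d⁻¹ ∈ M.L := by
      rw [show d * (w * w) * d⁻¹ = ev g (sqM a) by rw [← M.ev_sq ha, e, conj_mul]]
      exact M.U_le_L ((M.ev_mem_U (M.mulM_spec a ha).1).2 h8')
    have := M.conj_mem_L ((Dg g).inv_mem hd) hU
    rwa [show d⁻¹ * (d * (w * w) * d⁻¹) * d⁻¹⁻¹ = w * w by group] at this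

/-- The centralizer in `C(t)` of an element of order five or seven. -/
theorem D_local (M : Mdl S g) {x : G} {p : ℕ} (hp : p = 5 ∨ p = 7) (hxL : x ∈ M.L) (hx : orderOf x = p) :
    Nat.card (cx (Dg g) x) = 4 * p ∧ Nat.card (nz (Dg g) x) = 4 * p * (p - 1) := by
  haveI : Fact p.Prime := ⟨by rcases hp with rfl | rfl <;> norm_num⟩
  haveI : Fact (Nat.Prime 2) := ⟨Nat.prime_two⟩
  letI := M.L_normal
  obtain ⟨e, he, hN⟩ := index_cx (H := Dg g) hx
  rw [M.card_nzD hp hxL hx] at hN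
  have hC := M.card_toTop (cx (Dg g) x) inf_le_left
  rw [(M.inf_L x).2, (M.L_local hp hxL hx).1] at hC
  have hm : Nat.card (M.toTop (cx (Dg g) x) inf_le_left).range ∣ 8 := by
    have := Subgroup.card_subgroup_dvd_card (M.toTop (cx (Dg g) x) inf_le_left).range
    exact this.trans (dvd_of_eq M.L_index)
  -- not all of the quotient
  have hne : Nat.card (cx (Dg g) x) ≠ 8 * p := by
    intro hc
    obtain ⟨T⟩ : Nonempty (Sylow 2 (cx (Dg g) x)) := inferInstance
    set R : Subgroup G := (T : Subgroup (cx (Dg g) x)).map (cx (Dg g) x).subtype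
    have hR8 : Nat.card R = 8 := by
      rw [← Nat.card_congr (Subgroup.equivMapOfInjective _ _ (cx (Dg g) x).subtype_injective).toEquiv,
        T.card_eq_multiplicity, hc]
      have hp2 : ¬ 2 ∣ p := by rcases hp with rfl | rfl <;> norm_num
      rw [show 8 * p = 2 ^ 3 * p by norm_num, Nat.factorization_mul (by norm_num) (Fact.out : p.Prime).ne_zero,
        Finsupp.add_apply, Nat.Prime.factorization_pow Nat.prime_two, Finsupp.single_eq_same,
        Nat.factorization_eq_zero_of_not_dvd hp2]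
      norm_num
    obtain ⟨d, hd, hS0, hone, -⟩ := M.even_of_cent hp hxL hx (R := R) (T.isPGroup'.map _) (Subgroup.map_subtype_le _)
    let f : R × M.U → M.S0 := fun q =>
      ⟨d * (q.1 : G) * d⁻¹ * (q.2 : G), mul_mem (hS0 _ q.1.2) (M.U_le_S0 q.2.2)⟩
    have hf : Function.Injective f := by
      rintro ⟨r, u⟩ ⟨r', u'⟩ e
      have e' : d * (r : G) * d⁻¹ * (u : G) = d * (r' : G) * d⁻¹ * (u' : G) := congrArg Subtype.val e
      have hL : (r' : G)⁻¹ * (r : G) ∈ M.L := by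
        have h1 : d * ((r' : G)⁻¹ * (r : G)) * d⁻¹ ∈ M.L := by
          rw [show d * ((r' : G)⁻¹ * (r : G)) * d⁻¹ = (d * (r' : G) * d⁻¹)⁻¹ * (d * (r : G) * d⁻¹ * (u : G)) * (u : G)⁻¹ by group,
            e']
          simp only [inv_mul_cancel_left]
          exact mul_mem (M.U_le_L u'.2) (inv_mem (M.U_le_L u.2))
        have := M.conj_mem_L ((Dg g).inv_mem hd) h1
        rwa [show d⁻¹ * (d * ((r' : G)⁻¹ * (r : G)) * d⁻¹) * d⁻¹⁻¹ = (r' : G)⁻¹ * (r : G) by group] at this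
      have hr : r = r' := Subtype.ext (inv_mul_eq_one.1 (hone _ (mul_mem (inv_mem r'.2) r.2) hL)).symm
      subst hr
      exact Prod.ext rfl (Subtype.ext (mul_left_cancel e'))
    have := Nat.card_le_card_of_injective f hf
    rw [Nat.card_prod, hR8, M.card_U] at this
    have h256 : Nat.card M.S0 ≤ 256 := by
      refine (Nat.card_le_card_of_surjective (fun i : Fin 256 =>
        (⟨ev g (2 * i), (M.ev_mem_S0 (by omega)).2 (by omega)⟩ : M.S0)) ?_).trans_eq (Nat.card_fin 256)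
      rintro ⟨w, a, ha, ha', rfl⟩
      exact ⟨⟨a / 2, by omega⟩, Subtype.ext (by show ev g (2 * (a / 2)) = ev g a; rw [show 2 * (a / 2) = a by omega])⟩
    omega
  obtain ⟨j, hj, hjm⟩ := (Nat.dvd_prime_pow Nat.prime_two).1 (show _ ∣ 2 ^ 3 from hm)
  rw [M.card_nzD hp hxL hx]
  rw [hjm] at hC
  rw [hC] at hne hN ⊢
  have := Nat.le_of_dvd (Nat.sub_pos_of_lt (Fact.out : p.Prime).one_lt) he
  rcases hp with rfl | rfl
  · rw [(M.L_local_five hxL hx).2] at hN ⊢
    interval_cases j <;> omega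
  · rw [(M.L_local_seven hxL hx).2] at hN ⊢
    interval_cases j <;> omega

/-- The elements of two-power order in that centralizer square to one. -/
theorem D_cent_sq (M : Mdl S g) {x : G} {p : ℕ} (hp : p = 5 ∨ p = 7) (hxL : x ∈ M.L) (hx : orderOf x = p)
    {w : G} (hw : w ∈ cx (Dg g) x) {k : ℕ} (hk : w ^ 2 ^ k = 1) : w * w = 1 := by
  haveI : Fact (Nat.Prime 2) := ⟨Nat.prime_two⟩
  obtain ⟨j, -, hj⟩ := (Nat.dvd_prime_pow Nat.prime_two).1 (orderOf_dvd_of_pow_eq_one hk)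
  obtain ⟨-, -, -, -, h⟩ := M.even_of_cent hp hxL hx (R := Subgroup.zpowers w)
    (IsPGroup.of_card (n := j) (by rw [Nat.card_zpowers, hj])) (Subgroup.zpowers_le.2 hw)
  exact h w (Subgroup.mem_zpowers w)

end Mdl

end Cfsg.Agent.Invol.Suz.Loc
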