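import Cfsg.Agent.Lib.Invol.Suz.Loc.Hat
import Cfsg.Agent.Lib.Invol.Suz.Classes

/-!
# Basic facts for the local analysis of a group of Suzuki type
-/

set_option autoImplicit false
set_option linter.unusedSectionVars false
set_option linter.style.haveILetI false

namespace Cfsg.Agent.Invol.Suz.Loc

open Cfsg Cfsg.Agent.Classical.BinCoc Cfsg.Agent.Invol.Big Cfsg.Agent.Invol.Big.Code

theorem K6_n : K6.n = 6 := rfl

theorem dual_ok : chkDual K6 = true := by decide +kernel

/-- The word of the fixed five-element. -/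
def wb : List ℕ := [34, 40, 17, 49]

/-- The fixed vectors of the five-element that are singular and not zero. -/
def eds : List ℕ := [1, 37]

/-- Iterates of the five-element on the codes. -/
def bIt : ℕ → ℕ → ℕ
  | 0, a => a
  | i + 1, a => wd K6 wb (bIt i a)

/-- Candidates for an isometry commuting with the five-element. -/
def commGens (e' f' v : ℕ) : List (ℕ × List ℕ) :=
  [(1, [e']), (37, [f']), (2, [v]), (bIt 1 2, [bIt 1 v]), (bIt 2 2, [bIt 2 v]), (bIt 3 2, [bIt 3 v])]

/-- The isometries commuting with the five-element. -/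
def chkComm : Bool :=
  covers K6 ((commGens 0 0 0).map Prod.fst) &&
  ((commGens 0 0 0).map Prod.fst).all (fun g => decide (g < 2 ^ K6.n)) &&
  (pts K6).all (fun a => !(wd K6 wb a == a && !(a == 0) && !K6.q a) || eds.contains a) &&
  eds.all fun e' => eds.all fun f' => (pts K6).all fun v => (maps K6 (commGens e' f' v)).all fun T =>
    !((pts K6).all fun a => T.getD (wd K6 wb a) 0 == wd K6 wb (T.getD a 0)) ||
    (List.range 5).any fun i =>
      T == tab K6 (bIt i) || (T == tab K6 (fun a => tr K6 36 (bIt i a)) && e' == 37)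

theorem comm_ok : chkComm = true := by decide +kernel

/-- An isometry commuting with the five-element. -/
theorem comm_classify (T : ℕ → ℕ) (hlt : ∀ a < 2 ^ K6.n, T a < 2 ^ K6.n)
    (hadd : ∀ a b, a < 2 ^ K6.n → b < 2 ^ K6.n → T (a ^^^ b) = T a ^^^ T b)
    (hq : ∀ a < 2 ^ K6.n, K6.q (T a) = K6.q a)
    (hc : ∀ a < 2 ^ K6.n, T (wd K6 wb a) = wd K6 wb (T a)) :
    ∃ i < 5, (∀ a < 2 ^ K6.n, T a = bIt i a) ∨ ((∀ a < 2 ^ K6.n, T a = tr K6 36 (bIt i a)) ∧ T 1 = 37) := by
  have h := comm_ok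
  simp only [chkComm, Bool.and_eq_true, List.all_eq_true, Bool.or_eq_true, Bool.not_eq_true', decide_eq_true_eq,
    List.contains_iff_mem, pts, List.mem_range, List.any_eq_true, beq_iff_eq] at h
  obtain ⟨⟨⟨hcov, hlt'⟩, hfix⟩, hall⟩ := h
  have h00 : T 0 = 0 := by simpa using hadd 0 0 (Nat.two_pow_pos _) (Nat.two_pow_pos _)
  have h1 : (1 : ℕ) < 2 ^ K6.n := by decide
  have h37 : (37 : ℕ) < 2 ^ K6.n := by decide
  have h2 : (2 : ℕ) < 2 ^ K6.n := by decide
  have hb1 : ∀ a < 2 ^ K6.n, wd K6 wb a < 2 ^ K6.n := by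
    have : (pts K6).all (fun a => decide (wd K6 wb a < 2 ^ K6.n)) = true := by decide +kernel
    simpa [pts] using this
  have hinj : ∀ a < 2 ^ K6.n, T a = 0 → a = 0 := by
    intro a ha e
    by_contra h0
    obtain ⟨w, hw, hbw⟩ : ∃ w < 2 ^ K6.n, bq K6 a w = true := by
      have : (pts K6).all (fun a => a == 0 || (pts K6).any fun w => bq K6 a w) = true := by decide +kernel
      simp only [List.all_eq_true, Bool.or_eq_true, beq_iff_eq, List.any_eq_true, pts, List.mem_range] at this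
      exact (this a ha).resolve_left h0
    have : bq K6 (T a) (T w) = bq K6 a w := by
      unfold bq
      rw [← hadd a w ha hw, hq _ (Nat.xor_lt_two_pow ha hw), hq _ ha, hq _ hw]
    rw [e, hbw] at this
    unfold bq at this
    rw [Nat.zero_xor, show K6.q 0 = false by decide +kernel] at this
    revert this
    cases K6.q (T w) <;> simp
  have heds : ∀ a ∈ eds, a < 2 ^ K6.n ∧ T a ∈ eds := by
    intro a ha
    have hp : a < 2 ^ K6.n ∧ wd K6 wb a = a ∧ a ≠ 0 ∧ K6.q a = false := by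
      have : eds.all (fun a => decide (a < 2 ^ K6.n) && wd K6 wb a == a && a != 0 && !K6.q a) = true := by decide +kernel
      simp only [List.all_eq_true, Bool.and_eq_true, decide_eq_true_eq, beq_iff_eq, bne_iff_ne, Bool.not_eq_true'] at this
      obtain ⟨⟨⟨p1, p2⟩, p3⟩, p4⟩ := this a ha
      exact ⟨p1, p2, p3, p4⟩
    refine ⟨hp.1, (hfix _ (hlt a hp.1)).resolve_left fun hcon => ?_⟩
    rw [← hc a hp.1, hp.2.1] at hcon
    have hne : T a ≠ 0 := fun e => hp.2.2.1 (hinj a hp.1 e)
    simp [hq a hp.1, hp.2.2.2, hne] at hcon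
  have hmem : tab K6 T ∈ maps K6 (commGens (T 1) (T 37) (T 2)) := by
    refine mem_maps K6 _ T hadd hq (by simpa [commGens] using hcov) ?_ ?_
    · intro p hp
      simp only [commGens, List.mem_cons, List.not_mem_nil, or_false] at hp
      rcases hp with rfl | rfl | rfl | rfl | rfl | rfl <;> exact hlt' _ (by simp [commGens])
    · intro p hp
      have k1 := hc 2 h2
      have k2 := hc _ (hb1 2 h2)
      have k3 := hc _ (hb1 _ (hb1 2 h2))
      simp only [commGens, List.mem_cons, List.not_mem_nil, or_false] at hp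
      rcases hp with rfl | rfl | rfl | rfl | rfl | rfl <;> simp [bIt, k1, k2, k3]
  rcases hall _ (heds 1 (by decide)).2 _ (heds 37 (by decide)).2 _ (hlt 2 h2) _ hmem with hcon | ⟨i, hi, e⟩
  · rw [List.all_eq_false] at hcon
    obtain ⟨a, ha, hne⟩ := hcon
    rw [List.mem_range] at ha
    rw [tab_getD K6 ha, tab_getD K6 (hb1 a ha), hc a ha] at hne
    simp at hne
  · refine ⟨i, hi, ?_⟩
    rcases e with e | ⟨e, e'⟩
    · exact Or.inl ((tab_eq_iff K6).1 e)
    · exact Or.inr ⟨(tab_eq_iff K6).1 e, e'⟩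

variable {G : Type*} [Group G] [Finite G] {z : G} {Q : Subgroup G} {cd : G → ℕ}

theorem Setting.card_Q (S : Setting z Q cd) : Nat.card Q = 128 := by
  have : Function.Bijective (fun x : Fin 128 => (⟨el S.code x, el_mem S.code x⟩ : Q)) :=
    ⟨fun x y e => Fin.ext (el_inj S.code x.2 y.2 (congrArg Subtype.val e)), fun ⟨w, hw⟩ => by
      obtain ⟨x, hx, e⟩ := exists_el S.code hw
      exact ⟨⟨x, hx⟩, Subtype.ext e⟩⟩
  rw [← Nat.card_eq_of_bijective _ this, Nat.card_fin]

theorem Setting.card_C (S : Setting z Q cd) : Nat.card (Subgroup.centralizer ({z} : Set G)) = 3317760 := by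
  rw [S.card, Setting.card_Q S]; rfl

/-- An element swapping `z` and a noncentral involution of `Q`. -/
theorem Setting.exists_swap (S : Setting z Q cd) {t : G} (ht : NonCentral z Q t) :
    ∃ k, k * z * k⁻¹ = t ∧ k * t * k⁻¹ = z := by
  obtain ⟨g, hg⟩ := isConj_iff.1 (S.code.isConj_z pair_ok S.moves ht)
  have hgQ : g * z * g⁻¹ ∈ Q := hg ▸ ht.1
  have ht1 : g⁻¹ * z * g ∈ Q := mem_Qc.1 (S.code.symm S.big hgQ)
  have hne : g⁻¹ * z * g ≠ z := fun e => ht.2.2.2 (by
    rw [← hg]
    calc g * z * g⁻¹ = g * (g⁻¹ * z * g) * g⁻¹ := by rw [e]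
      _ = z := by group)
  have hnc : NonCentral z Q (g⁻¹ * z * g) := ⟨ht1, by
    rw [show g⁻¹ * z * g * (g⁻¹ * z * g) = g⁻¹ * (z * z) * g by group, S.code.ext.zz]; group,
    fun e => S.code.ne (by rw [show z = g * (g⁻¹ * z * g) * g⁻¹ by group, e]; group), hne⟩
  obtain ⟨c, hc, hct⟩ := S.code.trans pair_ok ht hnc
  refine ⟨g * c, ?_, ?_⟩
  · calc g * c * z * (g * c)⁻¹ = g * (c * z * c⁻¹) * g⁻¹ := by group
      _ = t := by rw [hc, mul_inv_cancel_right, hg]
  · calc g * c * t * (g * c)⁻¹ = g * (c * t * c⁻¹) * g⁻¹ := by group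
      _ = z := by rw [hct]; group

end Cfsg.Agent.Invol.Suz.Loc
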