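import Cfsg.Agent.Lib.Invol.Suz.Loc.Lifts

/-!
# Data for the involutions of the centralizer
-/

set_option autoImplicit false

namespace Cfsg.Agent.Invol.Suz.Loc

/-- One singular line for each action of the first kind, with a turning word. -/
def lines : List (ℕ × ℕ × List ℕ) :=
  [(1, 2, [5, 49]), (1, 8, [10, 52]), (1, 26, [24, 52]), (1, 42, [28, 31]), (1, 58, [13, 14]), (2, 4, [5, 52]), (2, 21, [5, 32]), (2, 37, [5, 16]), (2, 53, []), (3, 12, [13, 52]), (3, 29, [28, 52]), (3, 45, [24, 25]), (3, 61, [10, 11]), (4, 8, [10, 49]), (4, 26, [24, 49]), (4, 42, [25, 31]), (4, 58, [11, 13]), (6, 9, [11, 49]), (6, 27, [25, 49]), (6, 43, [24, 28]), (6, 59, [10, 14]), (8, 21, [10, 32]), (8, 37, [10, 16]), (8, 53, [5, 10]), (9, 23, [11, 32]), (9, 39, [11, 16]), (9, 55, [5, 14]), (12, 23, [14, 32]), (12, 39, [14, 16]), (12, 55, [5, 11]), (15, 21, [13, 32]), (15, 37, [13, 16]), (15, 53, [5, 13]), (21,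 43, [11, 28]), (21, 46, [14, 25]), (23, 42, [10, 31]), (23, 45, [13, 24]), (26, 39, [10, 24]), (26, 45, [5, 24]), (27, 37, [11, 25]), (27, 46, [5, 28]), (29, 39, [13, 31]), (29, 42, [5, 31]), (30, 37, [14, 28]), (30, 43, [5, 25])]

/-- The preimage lists over the second action, with turning data. -/
def fib : List (List ℕ × List ℕ × ℕ) :=
  [([3, 16, 43, 4, 32, 98], [], 0), ([3, 17, 43, 5, 32, 98], [], 2), ([3, 16, 42, 4, 32, 99], [], 4), ([3, 17, 42, 5, 32, 99], [], 6), ([2, 16, 43, 4, 33, 98], [10, 36], 0), ([2, 17, 43, 5, 33, 98], [10, 36], 2), ([2, 16, 42, 4, 33, 99], [10, 36], 4), ([2, 17, 42, 5, 33, 99], [10, 36], 6), ([2, 16, 42, 4, 33, 98], [10, 47], 0), ([2, 17, 42, 5, 33, 98], [10, 47], 2), ([2, 16, 43, 4, 33, 99], [10, 47], 4), ([2, 17, 43, 5, 33, 99], [10, 47], 6)]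

/-- Turning words for the second kind. -/
def turnT : List (List ℕ) :=
  [[], [5, 7], [5, 10], [5, 13], [5, 14], [5, 18], [5, 19], [5, 20], [5, 24], [5, 25], [5, 31], [5, 32], [5, 33], [5, 34], [5, 35], [5, 38], [5, 40], [5, 41], [5, 44], [5, 48], [5, 49], [5, 54], [5, 60], [7, 10], [7, 13], [7, 14], [7, 18], [7, 19], [7, 20], [7, 24], [7, 31], [7, 32], [7, 33], [7, 34], [7, 35], [7, 38], [7, 40], [7, 41], [7, 44], [7, 48], [7, 49], [7, 54], [7, 60], [10, 18], [10, 19], [10, 24], [10, 25], [10, 31], [10, 32], [10, 35], [10, 38], [10, 40], [10, 44], [10, 48], [10, 54], [10, 60], [13, 14], [13, 18], [13, 20], [13, 24], [13, 25], [13, 31], [13, 32], [13, 33], [13, 38], [13, 44], [13, 48], [13, 49], [13, 54], [13, 60], [14, 19], [14, 25], [14, 32], [14, 34], [14, 35], [14, 38], [14, 40], [14, 41], [14, 44], [14, 48], [14, 54], [14, 60], [18, 19], [18, 20], [18, 32], [18, 33], [18, 34], [18,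 35], [18, 40], [18, 41], [18, 44], [18, 48], [18, 49], [18, 60], [19, 31], [19, 32], [19, 33], [19, 34], [19, 35], [19, 38], [19, 40], [19, 41], [19, 48], [19, 49], [19, 54], [20, 24], [20, 34], [20, 35], [20, 38], [20, 40], [20, 41], [20, 44], [20, 54], [20, 60], [24, 32], [24, 33], [24, 34], [24, 35], [24, 40], [24, 41], [24, 48], [24, 49], [25, 31], [25, 32], [25, 33], [25, 34], [25, 35], [25, 40], [25, 41], [25, 48], [25, 49], [31, 34], [31, 35], [31, 38], [31, 40], [31, 41], [31, 44], [31, 54], [31, 60], [32, 33], [32, 38], [32, 44], [33, 54], [33, 60], [34, 35], [38, 49], [38, 60], [44, 49], [48, 54], [48, 60], [10, 24, 5, 7], [10, 31, 5, 7], [10, 32, 5, 7], [10, 34, 5, 7], [10, 41, 5, 7], [10, 44, 5, 7], [10, 48, 5, 7], [10, 57, 5, 7], [11, 24, 5, 7], [11, 32, 5, 7], [11, 34, 5, 7], [11, 41, 5, 7], [11, 44, 5, 7], [11, 48, 5, 7], [11, 57, 5, 7], [13, 18, 5, 7], [13, 32, 5, 7], [13,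 36, 5, 7], [13, 48, 5, 7], [13, 52, 5, 7], [17, 24, 5, 7], [17, 32, 5, 7], [17, 34, 5, 7], [17, 44, 5, 7], [17, 48, 5, 7], [18, 22, 5, 7], [18, 32, 5, 7], [18, 34, 5, 7], [18, 41, 5, 7], [18, 44, 5, 7], [18, 48, 5, 7], [18, 57, 5, 7], [22, 33, 5, 7], [22, 36, 5, 7], [22, 47, 5, 7], [22, 52, 5, 7], [24, 33, 5, 7], [24, 34, 5, 7], [24, 36, 5, 7], [24, 41, 5, 7], [24, 44, 5, 7], [24, 47, 5, 7], [24, 52, 5, 7], [24, 57, 5, 7], [31, 32, 5, 7], [31, 33, 5, 7], [31, 34, 5, 7], [31, 35, 5, 7], [31, 44, 5, 7], [31, 47, 5, 7], [31, 48, 5, 7], [31, 51, 5, 7], [32, 35, 5, 7], [32, 36, 5, 7], [32, 41, 5, 7], [33, 34, 5, 7], [35, 57, 5, 7], [36, 57, 5, 7], [41, 51, 5, 7], [48, 52, 5, 7], [48, 57, 5, 7], [18, 22, 5, 10], [18, 32, 5, 10], [18, 34, 5, 10], [18, 41, 5, 10], [18, 44, 5, 10], [18, 48, 5, 10], [18, 57, 5, 10], [22, 35, 5, 10], [22, 51, 5, 10], [28, 31, 5, 10], [28, 32, 5, 10], [28, 34, 5, 10],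 [28, 44, 5, 10], [28, 48, 5, 10], [31, 34, 5, 10], [31, 35, 5, 10], [31, 44, 5, 10], [31, 51, 5, 10], [32, 35, 5, 10], [35, 57, 5, 10], [48, 51, 5, 10], [11, 32, 5, 13], [11, 48, 5, 13], [24, 35, 5, 13], [24, 51, 5, 13], [32, 41, 5, 13], [35, 52, 5, 13], [22, 32, 5, 14], [22, 35, 5, 14], [22, 38, 5, 14], [22, 40, 5, 14], [22, 48, 5, 14], [22, 56, 5, 14], [28, 32, 5, 14], [28, 41, 5, 14], [28, 44, 5, 14], [28, 48, 5, 14], [32, 34, 5, 14], [32, 40, 5, 14], [34, 56, 5, 14], [35, 44, 5, 14], [48, 50, 5, 14], [48, 56, 5, 14], [17, 41, 5, 18], [17, 57, 5, 18], [22, 32, 5, 18], [22, 34, 5, 18], [22, 36, 5, 18], [22, 38, 5, 18], [22, 48, 5, 18], [22, 50, 5, 18], [22, 52, 5, 18], [22, 54, 5, 18], [32, 36, 5, 18], [34, 38, 5, 18], [31, 35, 5, 19], [31, 51, 5, 19], [32, 34, 5, 24], [40, 44, 5, 24]]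

end Cfsg.Agent.Invol.Suz.Loc
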