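import Cfsg.Agent.Lib.Invol.Suz.Loc.CentT
import Cfsg.Agent.Lib.Invol.IndexTwoTransfer
import Cfsg.Agent.Lib.Block.SpecPSL.Transfer

/-!
# The subgroup generated by the conjugates of `z` in the centralizer of `t`
-/

set_option autoImplicit false
set_option linter.unusedSectionVars false

namespace Cfsg.Agent.Invol.Suz.Loc

open Cfsg Cfsg.Agent.Classical.BinCoc Cfsg.Agent.Invol.Big Cfsg.Agent.Invol.Big.Code

theorem split_ok : ((List.range 512).all fun a => decW a == decW (a % 8) ++ decW (a - a % 8) &&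
    (decide (a % 2 = 1) || (mulM a 4 % 8 == (a % 8 ^^^ 4)))) = true := by decide +kernel

/-- Even codes without the third bit. -/
def noBit (a : ℕ) : Bool := a % 8 == 0 || a % 8 == 2

theorem noBit_ok : ((List.range 512).all fun a => !(noBit a) || (List.range 512).all fun c =>
    !(noBit c) || noBit (mulM a c)) = true := by decide +kernel

theorem small_ok : sqM 2 = 0 ∧ sqM 4 = 0 ∧ sqM 6 = 0 ∧ mulM 2 6 = 4 ∧ mulM 6 2 = 4 := by decide +kernel

theorem index_two_of {G : Type*} [Group G] (H : Subgroup G) (a : G) (ha : a ∉ H)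
    (h : ∀ b, b ∈ H ∨ b * a ∈ H) : H.index = 2 := by
  rw [Subgroup.index_eq_two_iff]
  refine ⟨a, fun b => ?_⟩
  by_cases hb : b ∈ H
  · exact Or.inr ⟨hb, fun e => ha ((H.mul_mem_cancel_left hb).1 e)⟩
  · exact Or.inl ⟨(h b).resolve_left hb, hb⟩

variable {G : Type*} [Group G] [Finite G] {z : G} {Q : Subgroup G} {cd : G → ℕ}

namespace Mdl

variable {S : Setting z Q cd} {g : ℕ → G}

/-- The subgroup generated by the conjugates of `z` centralizing `t`. -/
def L (_M : Mdl S g) : Subgroup G := Subgroup.closure {w | w ∈ Dg g ∧ IsConj z w}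

theorem L_le (M : Mdl S g) : M.L ≤ Dg g := (Subgroup.closure_le _).2 fun _ h => h.1

theorem A_mem_L (M : Mdl S g) {w : G} (hw : w ∈ Dg g) (hA : IsConj z w) : w ∈ M.L :=
  Subgroup.subset_closure ⟨hw, hA⟩

theorem U_le_L (M : Mdl S g) : M.U ≤ M.L := M.U_gen fun _ hx hA => M.A_mem_L (M.SS_le hx) hA

theorem conj_mem_L (M : Mdl S g) {d x : G} (hd : d ∈ Dg g) (hx : x ∈ M.L) : d * x * d⁻¹ ∈ M.L := by
  have : M.L ≤ M.L.comap (MulAut.conj d).toMonoidHom := (Subgroup.closure_le _).2 fun w hw =>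
    M.A_mem_L ((Dg g).mul_mem ((Dg g).mul_mem hd hw.1) ((Dg g).inv_mem hd)) (hw.2.trans (isConj_iff.2 ⟨d, rfl⟩))
  exact this hx

theorem sqM_24 (M : Mdl S g) : ev g 24 * ev g 24 = z := by
  rw [M.ev_sq (by norm_num), U_ok.2.2.2.2.1, M.z_eq]

/-- No subgroup of index two. -/
theorem L_perfect_two (M : Mdl S g) (K : Subgroup M.L) : K.index ≠ 2 := by
  intro hK
  have hle : M.L ≤ K.map M.L.subtype := (Subgroup.closure_le _).2 fun w ⟨hw, hA⟩ => by
    obtain ⟨d, hd, hde⟩ := M.conj_to_z hw hA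
    have h24 : d⁻¹ * ev g 24 * d⁻¹⁻¹ ∈ M.L :=
      M.conj_mem_L ((Dg g).inv_mem hd) (M.U_le_L ((M.ev_mem_U (by norm_num)).2 (by norm_num)))
    have e : w = d⁻¹ * ev g 24 * d⁻¹⁻¹ * (d⁻¹ * ev g 24 * d⁻¹⁻¹) := by
      rw [conj_mul, M.sqM_24, ← hde]; group
    exact ⟨⟨_, h24⟩ * ⟨_, h24⟩, Subgroup.mul_self_mem_of_index_two hK _, e.symm⟩
  have : K = ⊤ := (Subgroup.eq_top_iff' K).2 fun x => by
    obtain ⟨y, hy, e⟩ := hle x.2
    exact (Subtype.ext e : y = x) ▸ hy
  rw [this, Subgroup.index_top] at hK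
  omega

/-- A two-subgroup of `L` is conjugate under `C(t)` into `L ⊓ SS`. -/
theorem conj_into (M : Mdl S g) {R : Subgroup G} (hR : IsPGroup 2 R) (hRL : R ≤ M.L) :
    ∃ d ∈ Dg g, ∀ x ∈ R, d * x * d⁻¹ ∈ M.L ⊓ M.sub := by
  obtain ⟨P, hP⟩ := M.exists_sylow
  haveI : Fact (Nat.Prime 2) := ⟨Nat.prime_two⟩
  obtain ⟨P', hP'⟩ := (hR.comap_subtype : IsPGroup 2 (R.subgroupOf (Dg g))).exists_le_sylow
  obtain ⟨d, hd⟩ := MulAction.exists_smul_eq (Dg g) P' P
  refine ⟨d, d.2, fun x hx => ⟨M.conj_mem_L d.2 (hRL hx), ?_⟩⟩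
  have h1 : (⟨x, M.L_le (hRL hx)⟩ : Dg g) ∈ (P' : Subgroup (Dg g)) := hP' (Subgroup.mem_subgroupOf.2 hx)
  have h2 := Subgroup.smul_mem_pointwise_smul _ (MulAut.conj d) _ h1
  rw [← Sylow.coe_subgroup_smul, hd, hP, Subgroup.mem_subgroupOf] at h2
  exact h2

theorem sylow_L (M : Mdl S g) : ∃ T : Sylow 2 M.L, (T : Subgroup M.L) = (M.L ⊓ M.sub).subgroupOf M.L := by
  haveI : Fact (Nat.Prime 2) := ⟨Nat.prime_two⟩
  obtain ⟨T, hT⟩ := ((M.isPGroup_SS.to_le (inf_le_right : M.L ⊓ M.sub ≤ _)).comap_subtype :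
    IsPGroup 2 ((M.L ⊓ M.sub).subgroupOf M.L)).exists_le_sylow
  refine ⟨T, (Subgroup.eq_of_le_of_card_ge hT ?_).symm⟩
  obtain ⟨d, -, hd⟩ := M.conj_into (T.isPGroup'.map M.L.subtype) (Subgroup.map_subtype_le _)
  refine le_of_le_of_eq ?_ (Nat.card_congr (Subgroup.subgroupOfEquivOfLe (inf_le_left : M.L ⊓ M.sub ≤ M.L)).toEquiv).symm
  refine Nat.card_le_card_of_injective
    (fun x : (T : Subgroup M.L) => (⟨_, hd _ ⟨x.1, x.2, rfl⟩⟩ : (M.L ⊓ M.sub : Subgroup G))) fun x y e => ?_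
  have e' := congrArg Subtype.val e
  exact Subtype.ext (Subtype.ext (mul_left_cancel (mul_right_cancel e')))

theorem S0_index (M : Mdl S g) {a b : G} (ha : a ∈ M.sub) (hb : b ∈ M.sub) (ha' : a ∉ M.S0) (hb' : b ∉ M.S0) :
    b * a ∈ M.S0 := by
  have h2 : (M.S0.subgroupOf M.sub).index = 2 := by
    have h1 := (M.S0.subgroupOf M.sub).card_mul_index
    rw [Nat.card_congr (Subgroup.subgroupOfEquivOfLe M.S0_le).toEquiv, M.card_sub] at h1
    have h256 : Nat.card M.S0 = 256 := by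
      have hb : Function.Bijective (fun i : Fin 256 => (⟨ev g (2 * i), (M.ev_mem_S0 (by omega)).2 (by omega)⟩ : M.S0)) :=
        ⟨fun i j e => Fin.ext (by have := M.ev_inj (by omega) (by omega) (congrArg Subtype.val e); omega),
          fun ⟨x, a, ha, ha', e⟩ => ⟨⟨a / 2, by omega⟩, Subtype.ext (by
            show ev g (2 * (a / 2)) = x
            rw [show 2 * (a / 2) = a by omega, e])⟩⟩
      rw [← Nat.card_eq_of_bijective _ hb, Nat.card_fin]
    rw [h256] at h1
    omega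
  have := (Subgroup.mul_mem_iff_of_index_two h2 (a := ⟨b, hb⟩) (b := ⟨a, ha⟩)).2
    (by simp only [Subgroup.mem_subgroupOf]; exact iff_of_false hb' ha')
  exact this

/-- The Sylow subgroup of `L` has even codes only. -/
theorem L_inter_le (M : Mdl S g) : M.L ⊓ M.sub ≤ M.S0 := by
  by_contra hne
  obtain ⟨a0, ⟨ha0L, ha0S⟩, ha0⟩ := SetLike.not_le_iff_exists.1 hne
  obtain ⟨T, hT⟩ := M.sylow_L
  set N : Subgroup M.L := M.S0.subgroupOf M.L ⊓ (T : Subgroup M.L)
  have haT : (⟨a0, ha0L⟩ : M.L) ∈ (T : Subgroup M.L) :=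
    hT ▸ Subgroup.mem_subgroupOf.2 (Subgroup.mem_inf.2 ⟨ha0L, ha0S⟩)
  have hN : N.relIndex (T : Subgroup M.L) = 2 := by
    refine index_two_of _ ⟨⟨a0, ha0L⟩, haT⟩ ?_ ?_
    · intro h
      rw [Subgroup.mem_subgroupOf] at h
      exact ha0 (Subgroup.mem_subgroupOf.1 h.1)
    · rintro ⟨b, hb⟩
      simp only [Subgroup.mem_subgroupOf]
      by_cases hb0 : ((b : G)) ∈ M.S0
      · exact Or.inl ⟨Subgroup.mem_subgroupOf.2 hb0, hb⟩
      · refine Or.inr ⟨Subgroup.mem_subgroupOf.2 ?_, ?_⟩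
        · have hb' := hb
          rw [hT, Subgroup.mem_subgroupOf] at hb'
          exact M.S0_index ha0S hb'.2 ha0 hb0
        · exact mul_mem hb haT
  obtain ⟨K, -, hK, -⟩ := exists_index_two_of_respects T inf_le_right hN fun s hs d hd => by
    have key : ∀ (a b : G) (d : G), d ∈ Dg g → a ∈ M.sub → b ∈ M.sub → d * a * d⁻¹ = b → b ∈ M.S0 → a ∈ M.S0 := by
      rintro _ _ d hd ⟨a, ha, rfl⟩ ⟨c, hc, rfl⟩ e hb
      refine (M.ev_mem_S0 ha).2 (by_contra fun hodd => M.fusion ha (by omega) hc ((M.ev_mem_S0 hc).1 hb) hd e)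
    have hs' := hs; have hd' := hd
    rw [hT, Subgroup.mem_subgroupOf] at hs' hd'
    constructor
    · intro h
      exact ⟨Subgroup.mem_subgroupOf.2 (key _ _ (d : G) (M.L_le d.2) hs'.2 hd'.2 (by simp)
        (Subgroup.mem_subgroupOf.1 h.1)), hs⟩
    · intro h
      exact ⟨Subgroup.mem_subgroupOf.2 (key _ _ ((d : G)⁻¹) ((Dg g).inv_mem (M.L_le d.2)) hd'.2 hs'.2
        (by simp; group) (Subgroup.mem_subgroupOf.1 h.1)), hd⟩
  exact M.L_perfect_two K hK

/-- The Sylow subgroup of `L` is `U`. -/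
theorem L_inter (M : Mdl S g) : M.L ⊓ M.sub = M.U := by
  refine le_antisymm (fun x hx => ?_) (le_inf M.U_le_L (M.U_le_S0.trans M.S0_le))
  by_contra hxU
  obtain ⟨T, hT⟩ := M.sylow_L
  have hmem : ∀ {y : M.L}, y ∈ (T : Subgroup M.L) ↔ (y : G) ∈ M.sub := fun {y} => by
    rw [hT, Subgroup.mem_subgroupOf]; exact ⟨fun h => h.2, fun h => ⟨y.2, h⟩⟩
  -- the part below eight of a code in the intersection is in it
  have hsplit : ∀ a < 512, ev g a ∈ M.L → a % 2 = 0 ∧ ev g (a % 8) ∈ M.L ∧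
      ev g a = ev g (a % 8) * ev g (a - a % 8) := by
    intro a ha haL
    have hev := (M.ev_mem_S0 ha).1 (M.L_inter_le ⟨haL, M.ev_SS ha⟩)
    have h := split_ok
    simp only [List.all_eq_true, List.mem_range, Bool.and_eq_true, beq_iff_eq] at h
    have e : ev g a = ev g (a % 8) * ev g (a - a % 8) := by
      rw [ev, (h a ha).1, List.map_append, List.prod_append]; rfl
    refine ⟨hev, ?_, e⟩
    rw [show ev g (a % 8) = ev g a * (ev g (a - a % 8))⁻¹ by rw [e]; group]
    exact mul_mem haL (inv_mem (M.U_le_L ((M.ev_mem_U (by omega)).2 (by omega))))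
  have hsq : ∀ r, r = 2 ∨ r = 4 ∨ r = 6 → ev g r * ev g r = 1 ∧ ¬ IsConj z (ev g r) := by
    intro r hr
    refine ⟨?_, fun e => ?_⟩
    · rw [M.ev_sq (by omega), ← ev_zero (g := g)]
      rcases hr with rfl | rfl | rfl <;> [rw [small_ok.1]; rw [small_ok.2.1]; rw [small_ok.2.2.1]]
    · have := (M.mem_aList (by omega : r < 512)).2 e
      rcases hr with rfl | rfl | rfl <;> revert this <;> decide
  by_cases ht : g 2 ∈ M.L
  · -- `t` is central
    let V : Subgroup G :=
      { carrier := {x | ∃ a < 512, noBit a = true ∧ ev g a = x}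
        mul_mem' := by
          rintro _ _ ⟨a, ha, ha', rfl⟩ ⟨c, hc, hc', rfl⟩
          have h := noBit_ok
          simp only [List.all_eq_true, List.mem_range, Bool.or_eq_true, Bool.not_eq_true'] at h
          refine ⟨_, (M.mulM_spec a hc).1, ?_, (M.mulM_spec a hc).2⟩
          exact ((h a ha).resolve_left (by simp [ha']) c hc).resolve_left (by simp [hc'])
        one_mem' := ⟨0, by norm_num, rfl, ev_zero⟩
        inv_mem' := by
          rintro _ ⟨a, ha, ha', rfl⟩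
          show ∃ c < 512, noBit c = true ∧ ev g c = (ev g a)⁻¹
          have h := noBit_ok
          simp only [List.all_eq_true, List.mem_range, Bool.or_eq_true, Bool.not_eq_true'] at h
          have hp : ∀ k : ℕ, ∃ c < 512, noBit c = true ∧ ev g c = ev g a ^ k := by
            intro k
            induction k with
            | zero => exact ⟨0, by norm_num, rfl, by rw [ev_zero, pow_zero]⟩
            | succ k ih =>
              obtain ⟨c, hc, hc', e⟩ := ih
              exact ⟨_, (M.mulM_spec a hc).1, ((h a ha).resolve_left (by simp [ha']) c hc).resolve_left (by simp [hc']),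
                by rw [(M.mulM_spec a hc).2, e, pow_succ']⟩
          obtain ⟨c, hc, hc', e⟩ := hp (orderOf (ev g a) - 1)
          refine ⟨c, hc, hc', eq_inv_of_mul_eq_one_left ?_⟩
          rw [e, ← pow_succ, Nat.sub_add_cancel (orderOf_pos _), pow_orderOf_eq_one] }
    set N : Subgroup M.L := V.subgroupOf M.L ⊓ (T : Subgroup M.L)
    have htV : g 2 ∉ V := by
      rintro ⟨a, ha, ha', e⟩
      rw [← M.t_eq] at e
      rw [M.ev_inj ha (by norm_num) e] at ha'
      simp [noBit] at ha'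
    have htT : (⟨g 2, ht⟩ : M.L) ∈ (T : Subgroup M.L) := hmem.2 ⟨4, by norm_num, M.t_eq⟩
    have hN : N.relIndex (T : Subgroup M.L) = 2 := by
      refine index_two_of _ ⟨_, htT⟩ (fun h => htV (Subgroup.mem_subgroupOf.1 (Subgroup.mem_subgroupOf.1 h).1)) ?_
      rintro ⟨⟨b, hb⟩, hbT⟩
      obtain ⟨a, ha, rfl⟩ := hmem.1 hbT
      obtain ⟨hev, -, -⟩ := hsplit a ha hb
      have h := split_ok
      simp only [List.all_eq_true, List.mem_range, Bool.and_eq_true, beq_iff_eq, Bool.or_eq_true,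
        decide_eq_true_eq] at h
      have h4 := (h a ha).2.resolve_left (by omega)
      simp only [Subgroup.mem_subgroupOf]
      rcases (show a % 8 = 0 ∨ a % 8 = 2 ∨ a % 8 = 4 ∨ a % 8 = 6 by omega) with e | e | e | e
      · exact Or.inl ⟨Subgroup.mem_subgroupOf.2 ⟨a, ha, by simp [noBit, e], rfl⟩, hbT⟩
      · exact Or.inl ⟨Subgroup.mem_subgroupOf.2 ⟨a, ha, by simp [noBit, e], rfl⟩, hbT⟩
      all_goals
        refine Or.inr ⟨Subgroup.mem_subgroupOf.2 ?_, mul_mem hbT htT⟩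
        refine ⟨_, (M.mulM_spec a (by norm_num : (4 : ℕ) < 512)).1, ?_, ?_⟩
        · simp [noBit, h4, e]
        · show ev g (mulM a 4) = ev g a * g 2
          rw [(M.mulM_spec a (by norm_num)).2, M.t_eq]
    obtain ⟨K, -, hK⟩ := Block.SpecPSL.exists_index_two T N hN ⟨g 2, ht⟩ htT (fun d hd hdN => by
      refine htV ?_
      have hc : (d : G) * g 2 = g 2 * d := Subgroup.mem_centralizer_singleton_iff.1 (M.L_le d.2)
      have := Subgroup.mem_subgroupOf.1 hdN.1
      simp only [Subgroup.coe_mul, Subgroup.coe_inv] at this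
      rwa [mul_assoc, ← hc, inv_mul_cancel_left] at this) (fun d i hi hd => by
      have hsq1 : (⟨g 2, ht⟩ : M.L) ^ (2 ^ i) = 1 := Subtype.ext (by
        obtain ⟨j, rfl⟩ : ∃ j, i = j + 1 := ⟨i - 1, by omega⟩
        rw [SubgroupClass.coe_pow, pow_succ', pow_mul, pow_two, M.g2_sq, one_pow]; rfl)
      rw [hsq1]
      simp)
    exact M.L_perfect_two K hK
  · -- the third kind of coset
    obtain ⟨a, ha, rfl⟩ := hx.2
    obtain ⟨hev, hk, -⟩ := hsplit a ha hx.1
    have hne : a % 8 ≠ 0 := fun e => hxU ((M.ev_mem_U ha).2 e)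
    have h4 : a % 8 ≠ 4 := fun e => ht (by rw [← M.t_eq, ← e]; exact hk)
    set k := a % 8
    have hk26 : k = 2 ∨ k = 6 := by omega
    have hkT : (⟨ev g k, hk⟩ : M.L) ∈ (T : Subgroup M.L) := hmem.2 (M.ev_SS (by omega))
    obtain ⟨hk2, hkA⟩ := hsq k (by omega)
    set N : Subgroup M.L := M.U.subgroupOf M.L ⊓ (T : Subgroup M.L)
    have hN : N.relIndex (T : Subgroup M.L) = 2 := by
      refine index_two_of _ ⟨_, hkT⟩ (fun h => ?_) ?_
      · have := (M.ev_mem_U (by omega : k < 512)).1 (Subgroup.mem_subgroupOf.1 (Subgroup.mem_subgroupOf.1 h).1)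
        omega
      rintro ⟨⟨b, hb⟩, hbT⟩
      obtain ⟨c, hc, rfl⟩ := hmem.1 hbT
      obtain ⟨hcev, hcr, hce⟩ := hsplit c hc hb
      simp only [Subgroup.mem_subgroupOf]
      by_cases h0 : c % 8 = 0
      · exact Or.inl ⟨Subgroup.mem_subgroupOf.2 ((M.ev_mem_U hc).2 h0), hbT⟩
      have hck : c % 8 = k := by
        rcases (show c % 8 = 2 ∨ c % 8 = 4 ∨ c % 8 = 6 by omega) with e | e | e
        · rcases hk26 with k2 | k6
          · omega
          · refine absurd ?_ ht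
            rw [← M.t_eq, ← small_ok.2.2.2.1, (M.mulM_spec 2 (by norm_num : (6 : ℕ) < 512)).2]
            exact mul_mem (e ▸ hcr) (k6 ▸ hk)
        · exact absurd (by rw [← M.t_eq, ← e]; exact hcr) ht
        · rcases hk26 with k2 | k6
          · refine absurd ?_ ht
            rw [← M.t_eq, ← small_ok.2.2.2.2, (M.mulM_spec 6 (by norm_num : (2 : ℕ) < 512)).2]
            exact mul_mem (e ▸ hcr) (k2 ▸ hk)
          · omega
      refine Or.inr ⟨Subgroup.mem_subgroupOf.2 ?_, mul_mem hbT hkT⟩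
      show ev g c * ev g k ∈ M.U
      have hu : ev g (c - c % 8) ∈ M.U := (M.ev_mem_U (by omega)).2 (by omega)
      have hcomm : ev g k * ev g (c - c % 8) = ev g (c - c % 8) * ev g k := by
        refine (Subgroup.mem_centralizer_iff.1 ((M.centU_code (by omega : k < 512)).2 ?_) _ hu).symm
        intro j h3 h9
        rcases hk26 with rfl' | rfl' <;> rw [rfl'] <;> interval_cases j <;> decide +kernel
      rw [hck] at hcomm hu hce
      rw [hce, mul_assoc, ← hcomm, ← mul_assoc, hk2, one_mul]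
      exact hu
    obtain ⟨K, -, hK⟩ := Block.SpecPSL.exists_index_two T N hN ⟨ev g k, hk⟩ hkT (fun d hd hdN => by
      have hu := Subgroup.mem_subgroupOf.1 hdN.1
      simp only [Subgroup.coe_mul, Subgroup.coe_inv] at hu
      have h2 : (d : G)⁻¹ * ev g k * d * ((d : G)⁻¹ * ev g k * d) = 1 := by
        calc (d : G)⁻¹ * ev g k * d * ((d : G)⁻¹ * ev g k * d) = (d : G)⁻¹ * (ev g k * ev g k) * d := by group
          _ = 1 := by rw [hk2]; group
      refine hkA ((M.invol_U hu h2 fun e => ?_).trans (isConj_iff.2 ⟨(d : G), by group⟩))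
      have e0 : ev g k = ev g 0 := by
        rw [ev_zero, show ev g k = (d : G) * ((d : G)⁻¹ * ev g k * d) * (d : G)⁻¹ by group, e]; group
      have := M.ev_inj (by omega) (by norm_num) e0
      omega) (fun d i hi hd => by
      have hsq1 : (⟨ev g k, hk⟩ : M.L) ^ (2 ^ i) = 1 := Subtype.ext (by
        obtain ⟨j, rfl⟩ : ∃ j, i = j + 1 := ⟨i - 1, by omega⟩
        rw [SubgroupClass.coe_pow, pow_succ', pow_mul, pow_two, hk2, one_pow]; rfl)
      rw [hsq1]
      simp)
    exact M.L_perfect_two K hK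

end Mdl

end Cfsg.Agent.Invol.Suz.Loc
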