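import Cfsg.Agent.Lib.Invol.Suz.Loc.CentL
import Cfsg.Agent.Lib.Transfer.CIT.Main
import Cfsg.Agent.Lib.Spor.PSLThreeFour
import Cfsg.Agent.Lib.Spor.M21Psl

/-!
# The structure of the centralizer of `t`
-/

set_option autoImplicit false
set_option linter.unusedSectionVars false
set_option linter.style.haveILetI false

namespace Cfsg.Agent.Invol.Suz.Loc

open Cfsg Cfsg.Agent.Classical.BinCoc Cfsg.Agent.Invol.Big Cfsg.Agent.Invol.Big.Code

/-- Counting along an orbit of conjugation. -/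
theorem card_of_orbit {G : Type*} [Group G] [Finite G] (H K : Subgroup G) (z : G) (P : G → Prop)
    (hK : ∀ h, h ∈ K ↔ h ∈ H ∧ h * z = z * h) (hP : ∀ w, P w → ∃ h ∈ H, h * z * h⁻¹ = w)
    (hP' : ∀ h ∈ H, P (h * z * h⁻¹)) : Nat.card H = Nat.card {w // P w} * Nat.card K := by
  classical
  choose u hu hue using fun w : {w // P w} => hP w.1 w.2
  have hfix : ∀ k : K, (k : G) * z * (k : G)⁻¹ = z := fun k => mul_inv_eq_iff_eq_mul.2 ((hK _).1 k.2).2
  rw [← Nat.card_prod]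
  refine (Nat.card_eq_of_bijective (fun p : {w // P w} × K =>
    (⟨u p.1 * (p.2 : G), mul_mem (hu _) ((hK _).1 p.2.2).1⟩ : H)) ⟨?_, ?_⟩).symm
  · rintro ⟨w, k⟩ ⟨w', k'⟩ e
    have e0 : u w * (k : G) = u w' * (k' : G) := congrArg Subtype.val e
    have : w = w' := Subtype.ext (by
      calc (w : G) = u w * ((k : G) * z * (k : G)⁻¹) * (u w)⁻¹ := by rw [hfix, hue]
        _ = (u w * k) * z * (u w * k)⁻¹ := by group
        _ = (u w' * k') * z * (u w' * k')⁻¹ := by rw [e0]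
        _ = u w' * ((k' : G) * z * (k' : G)⁻¹) * (u w')⁻¹ := by group
        _ = w' := by rw [hfix, hue])
    subst this
    exact Prod.ext rfl (Subtype.ext (mul_left_cancel e0))
  · rintro ⟨h, hh⟩
    set w : {w // P w} := ⟨_, hP' h hh⟩ with hw
    have e : u w * z * (u w)⁻¹ = h * z * h⁻¹ := hue w
    refine ⟨(w, ⟨(u w)⁻¹ * h, (hK _).2 ⟨mul_mem (inv_mem (hu w)) hh, ?_⟩⟩), Subtype.ext (by simp)⟩
    calc (u w)⁻¹ * h * z = (u w)⁻¹ * (h * z * h⁻¹) * h := by group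
      _ = z * ((u w)⁻¹ * h) := by rw [← e]; group

variable {G : Type*} [Group G] [Finite G] {z : G} {Q : Subgroup G} {cd : G → ℕ}

namespace Mdl

variable {S : Setting z Q cd} {g : ℕ → G}

/-- The centralizers in `C(t)` of the conjugates of `z` are two-groups. -/
theorem cent_A (M : Mdl S g) {w : G} (hw : w ∈ Dg g) (hA : IsConj z w) {x : G} (hx : x ∈ Dg g)
    (hxw : x * w = w * x) : ∃ d ∈ Dg g, d * w * d⁻¹ = z ∧ d * x * d⁻¹ ∈ M.sub := by
  obtain ⟨d, hd, hde⟩ := M.conj_to_z hw hA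
  refine ⟨d, hd, hde, M.mem_SS.2 ⟨?_, (Dg g).mul_mem ((Dg g).mul_mem hd hx) ((Dg g).inv_mem hd)⟩⟩
  calc d * x * d⁻¹ * z = d * (x * w) * d⁻¹ := by rw [← hde]; group
    _ = d * (w * x) * d⁻¹ := by rw [hxw]
    _ = z * (d * x * d⁻¹) := by rw [← hde]; group

theorem pow_two_A (M : Mdl S g) {w : G} (hw : w ∈ Dg g) (hA : IsConj z w) {x : G} (hx : x ∈ Dg g)
    (hxw : x * w = w * x) : ∃ k : ℕ, x ^ (2 ^ k) = 1 := by
  obtain ⟨d, -, -, hm⟩ := M.cent_A hw hA hx hxw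
  obtain ⟨k, hk⟩ := M.isPGroup_SS ⟨_, hm⟩
  refine ⟨k, ?_⟩
  have := congrArg Subtype.val hk
  simp only [SubgroupClass.coe_pow, OneMemClass.coe_one] at this
  rw [conj_pow] at this
  exact conj_eq_one_iff.1 this

/-- The involutions of `L` are conjugates of `z`. -/
theorem L_invol (M : Mdl S g) {a : G} (ha : a ∈ M.L) (h2 : a * a = 1) (h1 : a ≠ 1) : IsConj z a := by
  have hp : IsPGroup 2 (Subgroup.zpowers a) := IsPGroup.of_card (n := 1) (by
    rw [Nat.card_zpowers, pow_one]; exact orderOf_eq_prime (by rw [pow_two]; exact h2) h1)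
  obtain ⟨d, -, hd⟩ := M.conj_into hp (Subgroup.zpowers_le.2 ha)
  have := hd a (Subgroup.mem_zpowers a)
  rw [M.L_inter] at this
  exact (M.invol_U this (invol_conj d h2) fun e => h1 (conj_eq_one_iff.1 e)).trans (isConj_iff.2 ⟨d⁻¹, by group⟩)

/-- A subgroup normalized by `L`. -/
def Nor (M : Mdl S g) (N : Subgroup G) : Prop := N ≤ M.L ∧ ∀ l ∈ M.L, ∀ n ∈ N, l * n * l⁻¹ ∈ N

theorem Nor.exists_invol {M : Mdl S g} {N : Subgroup G} (h : 2 ∣ Nat.card N) :
    ∃ a ∈ N, a * a = 1 ∧ a ≠ 1 := by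
  haveI : Fact (Nat.Prime 2) := ⟨Nat.prime_two⟩
  obtain ⟨⟨a, ha⟩, ho⟩ := exists_prime_orderOf_dvd_card' (G := N) 2 h
  rw [Subgroup.orderOf_mk] at ho
  exact ⟨a, ha, by rw [← pow_two, ← ho, pow_orderOf_eq_one], fun e => by rw [e, orderOf_one] at ho; omega⟩

theorem Nor.map (M : Mdl S g) {N : Subgroup G} (hN : M.Nor N) {d : G} (hd : d ∈ Dg g) :
    M.Nor (N.map (MulAut.conj d).toMonoidHom) := by
  refine ⟨?_, ?_⟩
  · rintro _ ⟨n, hn, rfl⟩
    exact M.conj_mem_L hd (hN.1 hn)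
  · rintro l hl _ ⟨n, hn, rfl⟩
    refine ⟨(d⁻¹ * l * d⁻¹⁻¹) * n * (d⁻¹ * l * d⁻¹⁻¹)⁻¹, hN.2 _ (M.conj_mem_L ((Dg g).inv_mem hd) hl) n hn, ?_⟩
    show d * _ * d⁻¹ = l * (d * n * d⁻¹) * l⁻¹
    group

theorem two_normal_le_U (M : Mdl S g) {N : Subgroup G} (hN : M.Nor N) (h2 : IsPGroup 2 N) : N ≤ M.U := by
  haveI : Fact (Nat.Prime 2) := ⟨Nat.prime_two⟩
  obtain ⟨T, hT⟩ := M.sylow_L
  obtain ⟨T', hT'⟩ := (h2.comap_subtype : IsPGroup 2 (N.subgroupOf M.L)).exists_le_sylow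
  obtain ⟨l, hl⟩ := MulAction.exists_smul_eq M.L T' T
  intro n hn
  have hn' : (l : G)⁻¹ * n * (l : G) ∈ N := by
    simpa using hN.2 _ (inv_mem l.2) n hn
  have h1 : (⟨_, hN.1 hn'⟩ : M.L) ∈ (T' : Subgroup M.L) := hT' (Subgroup.mem_subgroupOf.2 hn')
  have h3 := Subgroup.smul_mem_pointwise_smul _ (MulAut.conj l) _ h1
  rw [← Sylow.coe_subgroup_smul, hl, hT, Subgroup.mem_subgroupOf] at h3
  have e : (l : G) * ((l : G)⁻¹ * n * l) * (l : G)⁻¹ = n := by group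
  rw [← M.L_inter, ← e]
  exact h3

theorem U_not_normal (M : Mdl S g) {R : Subgroup G} (hle : R ≤ M.U)
    (hR : ∀ d ∈ Dg g, ∀ x ∈ R, d * x * d⁻¹ ∈ R) (hA : ∃ a ∈ R, IsConj z a) : False := by
  obtain ⟨a, haR, haA⟩ := hA
  have haD := M.SS_le (M.S0_le (M.U_le_S0 (hle haR)))
  have hall : ∀ w ∈ Dg g, IsConj z w → w ∈ R := by
    intro w hw hwA
    obtain ⟨d, hd, hde⟩ := M.conj_to_z hw hwA
    obtain ⟨d', hd', hde'⟩ := M.conj_to_z haD haA
    have := hR _ ((Dg g).mul_mem ((Dg g).inv_mem hd) hd') a haR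
    rwa [show d⁻¹ * d' * a * (d⁻¹ * d')⁻¹ = d⁻¹ * (d' * a * d'⁻¹) * d by group, hde', ← hde,
      show d⁻¹ * (d * w * d⁻¹) * d = w by group] at this
  have hUR : M.U ≤ R := M.U_gen fun x hx hA' => hall x (M.SS_le hx) hA'
  have h8U : ev g 8 ∈ M.U := (M.ev_mem_U (by norm_num)).2 (by norm_num)
  have h8A : IsConj z (ev g 8) := (M.mem_aList (by norm_num)).1 (by decide)
  obtain ⟨d, hd, hde⟩ := M.conj_to_z (M.SS_le (M.ev_SS (by norm_num))) h8A
  have hzc : z ∈ Subgroup.centralizer (M.U : Set G) := by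
    have := (M.ZU_mem (a := 256) (Or.inr (Or.inl rfl))).2.1
    rwa [M.z_eq] at this
  have : ev g 8 ∈ Subgroup.centralizer (M.U : Set G) := Subgroup.mem_centralizer_iff.2 fun u hu => by
    have h' := Subgroup.mem_centralizer_iff.1 hzc _ (hle (hR d hd u (hUR hu)))
    rw [← hde] at h'
    calc u * ev g 8 = d⁻¹ * (d * u * d⁻¹ * (d * ev g 8 * d⁻¹)) * d := by group
      _ = d⁻¹ * (d * ev g 8 * d⁻¹ * (d * u * d⁻¹)) * d := by rw [h']
      _ = ev g 8 * u := by group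
  have h := (M.ZU_code h8U).1 this
  simp only [Set.mem_insert_iff, Set.mem_singleton_iff] at h
  rw [← ev_zero (g := g), ← M.z_eq] at h
  rcases h with e | e | e | e <;> exact absurd (M.ev_inj (by norm_num) (by norm_num) e) (by norm_num)

theorem no_two_normal (M : Mdl S g) {N : Subgroup G} (hN : M.Nor N) (h2 : IsPGroup 2 N) : N = ⊥ := by
  by_contra hne
  let R : Subgroup G :=
    { carrier := {x | ∀ d ∈ Dg g, d * x * d⁻¹ ∈ M.U}
      mul_mem' := fun {a b} ha hb d hd => by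
        rw [show d * (a * b) * d⁻¹ = d * a * d⁻¹ * (d * b * d⁻¹) by group]
        exact mul_mem (ha d hd) (hb d hd)
      one_mem' := fun d _ => by simp
      inv_mem' := fun {a} ha d hd => by
        rw [show d * a⁻¹ * d⁻¹ = (d * a * d⁻¹)⁻¹ by group]
        exact inv_mem (ha d hd) }
  have hNR : N ≤ R := fun n hn d hd =>
    M.two_normal_le_U (hN.map M hd) (h2.map _) ⟨n, hn, rfl⟩
  refine M.U_not_normal (R := R) (fun x hx => by simpa using hx 1 (Dg g).one_mem) (fun d hd x hx d' hd' => ?_) ?_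
  · rw [show d' * (d * x * d⁻¹) * d'⁻¹ = d' * d * x * (d' * d)⁻¹ by group]
    exact hx _ ((Dg g).mul_mem hd' hd)
  · haveI : Fact (Nat.Prime 2) := ⟨Nat.prime_two⟩
    obtain ⟨k, hk⟩ := IsPGroup.iff_card.1 h2
    have hk0 : k ≠ 0 := fun e => hne (Subgroup.card_eq_one.1 (by rw [hk, e, pow_zero]))
    obtain ⟨a, ha, ha2, ha1⟩ := Nor.exists_invol (M := M) (N := N) (hk ▸ dvd_pow_self 2 hk0)
    exact ⟨a, hNR ha, M.L_invol (hN.1 ha) ha2 ha1⟩

/-- An involution with no fixed points on a subgroup inverts it. -/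
theorem inverts {a : G} (ha : a * a = 1) {N : Subgroup G} (hn : ∀ x ∈ N, a * x * a⁻¹ ∈ N)
    (hfix : ∀ x ∈ N, a * x = x * a → x = 1) {x : G} (hx : x ∈ N) : a * x * a⁻¹ = x⁻¹ := by
  let f : N → N := fun y => ⟨(y : G)⁻¹ * (a * y * a⁻¹), mul_mem (inv_mem y.2) (hn _ y.2)⟩
  have hf : Function.Injective f := by
    intro p q e
    have e' : (p : G)⁻¹ * (a * p * a⁻¹) = (q : G)⁻¹ * (a * q * a⁻¹) := congrArg Subtype.val e
    have h1 : (q : G) * (p : G)⁻¹ = a * ((q : G) * (p : G)⁻¹) * a⁻¹ := by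
      calc (q : G) * (p : G)⁻¹ = (q : G) * ((p : G)⁻¹ * (a * p * a⁻¹)) * (a * p * a⁻¹)⁻¹ := by group
        _ = a * ((q : G) * (p : G)⁻¹) * a⁻¹ := by rw [e']; group
    have := hfix _ (mul_mem q.2 (inv_mem p.2)) (mul_inv_eq_iff_eq_mul.1 h1.symm)
    exact Subtype.ext (mul_inv_eq_one.1 this).symm
  obtain ⟨y, hy⟩ := (Finite.injective_iff_surjective.1 hf) ⟨x, hx⟩
  have e : (y : G)⁻¹ * (a * y * a⁻¹) = x := congrArg Subtype.val hy
  have hai : a⁻¹ = a := inv_eq_of_mul_eq_one_right ha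
  calc a * x * a⁻¹ = a * (y : G)⁻¹ * (a * y * (a⁻¹ * a⁻¹)) := by rw [← e]; group
    _ = a * (y : G)⁻¹ * (a * y) := by rw [hai, ha, mul_one]
    _ = a * (y : G)⁻¹ * (a⁻¹ * y) := by rw [hai]
    _ = x⁻¹ := by rw [← e]; group

theorem no_odd_normal (M : Mdl S g) {N : Subgroup G} (hN : M.Nor N) (h2 : ¬ 2 ∣ Nat.card N) : N = ⊥ := by
  refine (Subgroup.eq_bot_iff_forall _).2 fun x hx => ?_
  have hfix : ∀ a, a = 128 ∨ a = 256 ∨ a = 384 → ∀ y ∈ N, ev g a * y = y * ev g a → y = 1 := by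
    intro a ha y hy hc
    obtain ⟨hU, -, hA⟩ := M.ZU_mem ha
    obtain ⟨k, hk⟩ := M.pow_two_A (M.SS_le (M.S0_le (M.U_le_S0 hU))) hA (M.L_le (hN.1 hy)) hc.symm
    refine orderOf_eq_one_iff.1 (Nat.eq_one_of_dvd_coprimes ?_ (Subgroup.orderOf_dvd_natCard _ hy)
      (orderOf_dvd_of_pow_eq_one hk))
    exact ((Nat.prime_two.coprime_iff_not_dvd.2 h2).symm).pow_right k
  have hinv : ∀ a, a = 128 ∨ a = 256 ∨ a = 384 → ∀ y ∈ N, ev g a * y * (ev g a)⁻¹ = y⁻¹ := fun a ha y hy =>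
    inverts (conj_class_sq S (M.ZU_mem ha).2.2).1 (fun y hy => hN.2 _ (M.U_le_L (M.ZU_mem ha).1) y hy)
      (hfix a ha) hy
  refine hfix 384 (by tauto) x hx (mul_inv_eq_iff_eq_mul.1 ?_)
  rw [show (384 : ℕ) = mulM 128 256 by decide +kernel, ← M.ev_mul 128 (by norm_num)]
  calc ev g 128 * ev g 256 * x * (ev g 128 * ev g 256)⁻¹
      = ev g 128 * (ev g 256 * x * (ev g 256)⁻¹) * (ev g 128)⁻¹ := by group
    _ = x := by rw [hinv 256 (by tauto) x hx, hinv 128 (by tauto) _ (inv_mem hx), inv_inv]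

theorem Nor.even {M : Mdl S g} {N : Subgroup G} (hN : M.Nor N) (hne : N ≠ ⊥) : 2 ∣ Nat.card N :=
  by_contra fun h => hne (M.no_odd_normal hN h)

theorem Nor.meet {M : Mdl S g} {N N' : Subgroup G} (hN : M.Nor N) (hN' : M.Nor N') (hne : N ≠ ⊥) (hne' : N' ≠ ⊥) :
    N ⊓ N' ≠ ⊥ := by
  intro h0
  obtain ⟨a, ha, ha2, ha1⟩ := Nor.exists_invol (M := M) (Nor.even hN hne)
  have hA := M.L_invol (hN.1 ha) ha2 ha1
  refine hne' (M.no_two_normal hN' fun ⟨y, hy⟩ => ?_)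
  have hc : y * a * y⁻¹ * a⁻¹ = 1 := by
    have h1 : y * a * y⁻¹ * a⁻¹ ∈ N := mul_mem (hN.2 _ (hN'.1 hy) a ha) (inv_mem ha)
    have h2 : y * a * y⁻¹ * a⁻¹ ∈ N' := by
      rw [show y * a * y⁻¹ * a⁻¹ = y * (a * y⁻¹ * a⁻¹) by group]
      exact mul_mem hy (hN'.2 _ (hN.1 ha) _ (inv_mem hy))
    have : y * a * y⁻¹ * a⁻¹ ∈ N ⊓ N' := ⟨h1, h2⟩
    rwa [h0, Subgroup.mem_bot] at this
  obtain ⟨k, hk⟩ := M.pow_two_A (M.L_le (hN.1 ha)) hA (M.L_le (hN'.1 hy))
    (mul_inv_eq_iff_eq_mul.1 (mul_inv_eq_one.1 hc))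
  exact ⟨k, Subtype.ext (by simpa using hk)⟩

/-- `L` is simple. -/
theorem simple (M : Mdl S g) : IsSimpleGroup M.L := by
  classical
  have hnt : M.Nor M.L ∧ M.L ≠ ⊥ :=
    ⟨⟨le_rfl, fun l hl n hn => mul_mem (mul_mem hl hn) (inv_mem hl)⟩, fun e => by
      have := M.A_mem_L M.z_mem_D (IsConj.refl z)
      rw [e, Subgroup.mem_bot] at this
      exact S.code.ne this⟩
  obtain ⟨N, ⟨hN, hNne⟩, hmin⟩ := Set.exists_min_image {N : Subgroup G | M.Nor N ∧ N ≠ ⊥}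
    (fun N => Nat.card N) (Set.toFinite _) ⟨M.L, hnt⟩
  have hsmall : ∀ N', M.Nor N' → N' ≠ ⊥ → N ≤ N' := by
    intro N' hN' hne'
    have hI : M.Nor (N ⊓ N') := ⟨inf_le_left.trans hN.1, fun l hl n hn => ⟨hN.2 l hl n hn.1, hN'.2 l hl n hn.2⟩⟩
    rw [← Subgroup.eq_of_le_of_card_ge inf_le_left (hmin _ ⟨hI, Nor.meet hN hN' hNne hne'⟩)]
    exact inf_le_right
  have hconj : ∀ d ∈ Dg g, ∀ x ∈ N, d * x * d⁻¹ ∈ N := by
    intro d hd x hx
    obtain ⟨y, hy, e⟩ := hsmall _ (hN.map M ((Dg g).inv_mem hd))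
      (by rwa [Ne, Subgroup.map_eq_bot_iff_of_injective _ (MulAut.conj _).injective]) hx
    simp only [MulEquiv.coe_toMonoidHom, MulAut.conj_apply, inv_inv] at e
    rw [← e]
    simpa [mul_assoc] using hy
  obtain ⟨a, ha, ha2, ha1⟩ := Nor.exists_invol (M := M) (Nor.even hN hNne)
  have hLN : M.L ≤ N := (Subgroup.closure_le _).2 fun w ⟨hw, hA⟩ => by
    obtain ⟨d, hd, hde⟩ := M.conj_to_z hw hA
    obtain ⟨d', hd', hde'⟩ := M.conj_to_z (M.L_le (hN.1 ha)) (M.L_invol (hN.1 ha) ha2 ha1)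
    have := hconj _ ((Dg g).mul_mem ((Dg g).inv_mem hd) hd') a ha
    rwa [show d⁻¹ * d' * a * (d⁻¹ * d')⁻¹ = d⁻¹ * (d' * a * d'⁻¹) * d by group, hde', ← hde,
      show d⁻¹ * (d * w * d⁻¹) * d = w by group] at this
  haveI : Nontrivial M.L := (Subgroup.nontrivial_iff_ne_bot _).2 hnt.2
  refine ⟨fun K hK => ?_⟩
  by_cases hKb : K = ⊥
  · exact Or.inl hKb
  refine Or.inr ((Subgroup.eq_top_iff' K).2 fun x => ?_)
  obtain ⟨y, hy, e⟩ := hLN.trans (hsmall (K.map M.L.subtype) ⟨Subgroup.map_subtype_le _, by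
    rintro l hl _ ⟨n, hn, rfl⟩
    exact ⟨_, hK.conj_mem n hn ⟨l, hl⟩, rfl⟩⟩
    (by rwa [Ne, Subgroup.map_eq_bot_iff_of_injective _ M.L.subtype_injective])) x.2
  exact (Subtype.ext e : y = x) ▸ hy

theorem isCIT (M : Mdl S g) : Transfer.CIT.IsCIT M.L := by
  intro a ha
  have ha2 : (a : G) * a = 1 := congrArg Subtype.val
    (show a * a = 1 by rw [← pow_two, ← ha, pow_orderOf_eq_one])
  have ha1 : (a : G) ≠ 1 := fun e => by
    rw [show a = 1 from Subtype.ext e, orderOf_one] at ha; omega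
  intro x
  obtain ⟨k, hk⟩ := M.pow_two_A (M.L_le a.2) (M.L_invol a.2 ha2 ha1) (M.L_le x.1.2)
    (congrArg Subtype.val (Subgroup.mem_centralizer_singleton_iff.1 x.2))
  exact ⟨k, Subtype.ext (Subtype.ext (by simpa using hk))⟩

theorem not_comm (M : Mdl S g) : ¬ IsMulCommutative M.L := by
  intro h
  have h8 : ev g 8 ∈ M.U := (M.ev_mem_U (by norm_num)).2 (by norm_num)
  refine absurd ?_ (show mulM 8 16 ≠ mulM 16 8 by decide +kernel)
  have := congrArg Subtype.val (h.is_comm.comm (⟨_, M.U_le_L h8⟩ : M.L)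
    ⟨_, M.U_le_L ((M.ev_mem_U (by norm_num : (16 : ℕ) < 512)).2 (by norm_num))⟩)
  simp only [Subgroup.coe_mul] at this
  rw [M.ev_mul 8 (by norm_num), M.ev_mul 16 (by norm_num)] at this
  exact M.ev_inj (M.mulM_spec 8 (by norm_num)).1 (M.mulM_spec 16 (by norm_num)).1 this

/-- `L` is the projective special linear group of dimension three over four elements. -/
theorem L_iso (M : Mdl S g) :
    Nonempty (M.L ≃* Matrix.ProjectiveSpecialLinearGroup (Fin 3) Spor.SU32.F4) := by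
  classical
  haveI := M.simple
  haveI : Fact (Nat.Prime 2) := ⟨Nat.prime_two⟩
  have hcit := M.isCIT
  obtain ⟨T, hT⟩ := M.sylow_L
  rw [M.L_inter] at hT
  have hT64 : Nat.card (T : Subgroup M.L) = 64 := by
    rw [hT, Nat.card_congr (Subgroup.subgroupOfEquivOfLe M.U_le_L).toEquiv, M.card_U]
  rcases Transfer.CIT.exists_pair hcit M.not_comm with ⟨K, hK, hSE⟩ | ⟨T', L, L', R, A, V, p⟩
  · exfalso
    obtain ⟨T'', hT''⟩ := hcit.sylow_of_embedded hK hSE
    obtain ⟨l, hl⟩ := MulAction.exists_smul_eq M.L T'' T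
    have h8U : ev g 8 ∈ M.U := (M.ev_mem_U (by norm_num)).2 (by norm_num)
    set a : M.L := ⟨_, M.U_le_L h8U⟩
    set b : M.L := l⁻¹ * a * l
    have hbT : b ∈ (T'' : Subgroup M.L) := by
      have h1 : a ∈ (T : Subgroup M.L) := hT ▸ Subgroup.mem_subgroupOf.2 h8U
      rw [← hl, Sylow.coe_subgroup_smul, Subgroup.mem_smul_pointwise_iff_exists] at h1
      obtain ⟨c, hc, e⟩ := h1
      have : b = c := by simp only [b]; rw [← e]; simp [mul_assoc]
      exact this ▸ hc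
    have ha2 : a * a = 1 := Subtype.ext (conj_class_sq S ((M.mem_aList (by norm_num)).1 (by decide))).1
    have hb2 : b * b = 1 := by
      calc b * b = l⁻¹ * (a * a) * l := by simp only [b]; group
        _ = 1 := by rw [ha2]; group
    have hb1 : b ≠ 1 := fun e => by
      have : a = 1 := by rw [show a = l * b * l⁻¹ by simp only [b]; group, e]; group
      exact (conj_class_sq S ((M.mem_aList (by norm_num)).1 (by decide))).2 (congrArg Subtype.val this)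
    have hbK : b ∈ K := hT'' ▸ Subgroup.le_normalizer hbT
    -- the centralizer of `b` lies in `K`
    have hcK : ∀ x : M.L, x * b = b * x → x ∈ K := fun x hx => by
      by_contra hxK
      have hodd := hSE.2.2 x hxK
      have hm : b ∈ K ⊓ K.map (MulAut.conj x).toMonoidHom :=
        ⟨hbK, ⟨b, hbK, show x * b * x⁻¹ = b from mul_inv_eq_iff_eq_mul.2 hx⟩⟩
      have h2 : 2 ∣ Nat.card (K ⊓ K.map (MulAut.conj x).toMonoidHom : Subgroup M.L) := by
        rw [← orderOf_eq_prime (p := 2) (by rw [pow_two]; exact hb2) hb1]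
        exact Subgroup.orderOf_dvd_natCard _ hm
      exact (Nat.not_even_iff_odd.2 hodd) (even_iff_two_dvd.2 h2)
    -- so its centralizer is the Sylow subgroup, and it is central there
    have hcen : ∀ u ∈ M.U, u * ev g 8 = ev g 8 * u := by
      obtain ⟨d, hd, hde⟩ := M.conj_to_z (M.SS_le (M.ev_SS (by norm_num : (8 : ℕ) < 512)))
        ((M.mem_aList (by norm_num)).1 (by decide))
      set W : Subgroup G := M.U.map (MulAut.conj d⁻¹).toMonoidHom
      have hWL : W ≤ M.L := by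
        rintro _ ⟨u, hu, rfl⟩; exact M.conj_mem_L ((Dg g).inv_mem hd) (M.U_le_L hu)
      have hW : ∀ w ∈ W, w * ev g 8 = ev g 8 * w := by
        rintro _ ⟨u, hu, rfl⟩
        have hz := Subgroup.mem_centralizer_iff.1 ((M.ZU_code ((M.ev_mem_U (by norm_num : (256 : ℕ) < 512)).2
          (by norm_num))).2 (by simp [M.z_eq])) u hu
        rw [M.z_eq] at hz
        show d⁻¹ * u * d⁻¹⁻¹ * ev g 8 = ev g 8 * (d⁻¹ * u * d⁻¹⁻¹)
        calc d⁻¹ * u * d⁻¹⁻¹ * ev g 8 = d⁻¹ * (u * z) * d := by rw [← hde]; group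
          _ = d⁻¹ * (z * u) * d := by rw [hz]
          _ = ev g 8 * (d⁻¹ * u * d⁻¹⁻¹) := by rw [← hde]; group
      -- conjugate into the normalizer
      set W' : Subgroup M.L := (W.subgroupOf M.L).map (MulAut.conj l⁻¹).toMonoidHom
      have hW'K : W' ≤ K := by
        rintro _ ⟨w, hw, rfl⟩
        refine hcK _ ?_
        have e : (w : M.L) * a = a * w := Subtype.ext (hW _ (Subgroup.mem_subgroupOf.1 hw))
        show l⁻¹ * w * l⁻¹⁻¹ * b = b * (l⁻¹ * w * l⁻¹⁻¹)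
        calc l⁻¹ * w * l⁻¹⁻¹ * b = l⁻¹ * (w * a) * l := by simp only [b]; group
          _ = l⁻¹ * (a * w) * l := by rw [e]
          _ = _ := by simp only [b]; group
      have hW'p : IsPGroup 2 W' :=
        (((M.isPGroup_SS.to_le (M.U_le_S0.trans M.S0_le)).map _).comap_subtype).map _
      have hW'T : W' ≤ (T'' : Subgroup M.L) := by
        intro x hx
        by_contra hxT
        have hn : Subgroup.zpowers x ≤ Subgroup.normalizer ((T'' : Subgroup M.L) : Set M.L) :=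
          Subgroup.zpowers_le.2 (hT''.symm ▸ hW'K hx)
        have hp : IsPGroup 2 ((Subgroup.zpowers x ⊔ (T'' : Subgroup M.L) : Subgroup M.L)) :=
          (hW'p.to_le (Subgroup.zpowers_le.2 hx)).to_sup_of_normal_right' T''.isPGroup' hn
        exact hxT (T''.is_maximal' hp le_sup_right ▸
          (le_sup_left : Subgroup.zpowers x ≤ _) (Subgroup.mem_zpowers x))
      have hW64 : Nat.card W' = 64 := by
        rw [← Nat.card_congr (Subgroup.equivMapOfInjective _ _ (MulAut.conj l⁻¹).injective).toEquiv,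
          Nat.card_congr (Subgroup.subgroupOfEquivOfLe hWL).toEquiv,
          ← Nat.card_congr (Subgroup.equivMapOfInjective _ _ (MulAut.conj d⁻¹).injective).toEquiv, M.card_U]
      have hT''64 : Nat.card (T'' : Subgroup M.L) = 64 := by rw [Nat.card_congr (T''.equiv T).toEquiv, hT64]
      have heq := Subgroup.eq_of_le_of_card_ge hW'T (by rw [hW64, hT''64])
      intro u hu
      have hu' : (l⁻¹ * ⟨u, M.U_le_L hu⟩ * l : M.L) ∈ (T'' : Subgroup M.L) := by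
        have h1 : (⟨u, M.U_le_L hu⟩ : M.L) ∈ (T : Subgroup M.L) := hT ▸ Subgroup.mem_subgroupOf.2 hu
        rw [← hl, Sylow.coe_subgroup_smul, Subgroup.mem_smul_pointwise_iff_exists] at h1
        obtain ⟨c, hc, e⟩ := h1
        rw [← e]; simpa [mul_assoc] using hc
      rw [← heq] at hu'
      obtain ⟨w, hw, e⟩ := hu'
      have e' : w = (⟨u, M.U_le_L hu⟩ : M.L) := (MulAut.conj l⁻¹).injective (by simpa using e)
      subst e'
      exact hW _ (Subgroup.mem_subgroupOf.1 hw)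
    have := (M.centU_code (by norm_num : (8 : ℕ) < 512)).1 (Subgroup.mem_centralizer_iff.2 hcen) 4 (by norm_num) (by norm_num)
    revert this
    decide +kernel
  have h4 := p.o.card_W_le_four hcit p.o' p.hL'.le
  obtain ⟨k, hk⟩ := (p.o.hV.isPGroup.to_le (inf_le_right : A ⊓ V ≤ V)).exists_card_eq
  have h1 := (Subgroup.one_lt_card_iff_ne_bot _).2 (p.o.W_ne_bot hcit)
  have hk2 : k = 1 ∨ k = 2 := by
    rcases k with _ | _ | _ | k
    · exact absurd (hk.trans (pow_zero 2)) h1.ne'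
    · exact Or.inl rfl
    · exact Or.inr rfl
    · exfalso
      rw [hk] at h4
      have : 2 ^ 3 ≤ 2 ^ (k + 1 + 1 + 1) := Nat.pow_le_pow_right (by norm_num) (by omega)
      omega
  rcases hk2 with rfl | rfl
  · exfalso
    have hV4 : Nat.card V = 4 := by rw [p.o.card_V hcit, hk]; norm_num
    obtain ⟨l, hl⟩ := MulAction.exists_smul_eq M.L T' T
    have hin : ∀ v ∈ V, ((l * v * l⁻¹ : M.L) : G) ∈ M.U := fun v hv => by
      have h3 := Subgroup.smul_mem_pointwise_smul _ (MulAut.conj l) _ (((p.o.VQ.trans p.o.QR).trans p.RT) hv)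
      rw [← Sylow.coe_subgroup_smul, hl, hT, Subgroup.mem_subgroupOf] at h3
      exact h3
    have hcore : ∀ x : M.L, (∀ v ∈ V, x * v = v * x) → x ∈ V := fun x hx =>
      p.o.mem_core hcit (p.hL ▸ Subgroup.centralizer_le_normalizer _
        (Subgroup.mem_centralizer_iff.2 fun v hv => (hx v hv).symm)) hx
    have hZV : ∀ x ∈ M.U, x ∈ Subgroup.centralizer (M.U : Set G) → ∃ v ∈ V, ((l * v * l⁻¹ : M.L) : G) = x := by
      intro x hx hc
      refine ⟨l⁻¹ * ⟨x, M.U_le_L hx⟩ * l, hcore _ fun v hv => ?_, by simp [mul_assoc]⟩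
      have e : (l * v * l⁻¹ : M.L) * ⟨x, M.U_le_L hx⟩ = ⟨x, M.U_le_L hx⟩ * (l * v * l⁻¹) :=
        Subtype.ext (Subgroup.mem_centralizer_iff.1 hc _ (hin v hv))
      calc l⁻¹ * ⟨x, M.U_le_L hx⟩ * l * v = l⁻¹ * (⟨x, M.U_le_L hx⟩ * (l * v * l⁻¹)) * l := by group
        _ = l⁻¹ * ((l * v * l⁻¹) * ⟨x, M.U_le_L hx⟩) * l := by rw [e]
        _ = _ := by group
    have hVc : ∀ v ∈ V, ((l * v * l⁻¹ : M.L) : G) ∈ Subgroup.centralizer (M.U : Set G) := by
      intro v hv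
      set Z : Subgroup G := M.U ⊓ Subgroup.centralizer (M.U : Set G)
      have hZ4 : 4 ≤ Nat.card Z := by
        let f : Fin 4 → Z := fun i => ⟨ev g (128 * i.val), (M.ev_mem_U (by omega)).2 (by omega),
          (M.ZU_code ((M.ev_mem_U (by omega)).2 (by omega))).2 (by
            fin_cases i <;> simp [M.z_eq, ev_zero])⟩
        have := Nat.card_le_card_of_injective f fun i j e => Fin.ext (by
          have := M.ev_inj (by omega) (by omega) (congrArg Subtype.val e); omega)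
        rwa [Nat.card_fin] at this
      choose pre hpre hpre' using fun x : Z => hZV x x.2.1 x.2.2
      have hinj : Function.Injective (fun x : Z => (⟨pre x, hpre x⟩ : V)) := fun x y e => Subtype.ext (by
        rw [← hpre' x, ← hpre' y, show pre x = pre y from congrArg Subtype.val e])
      have hsurj : Function.Surjective (fun x : Z => (⟨pre x, hpre x⟩ : V)) :=
        (Nat.bijective_iff_injective_and_card _).2 ⟨hinj,
          le_antisymm (Nat.card_le_card_of_injective _ hinj) (hV4 ▸ hZ4)⟩ |>.2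
      obtain ⟨x, hx⟩ := hsurj ⟨v, hv⟩
      rw [← show pre x = v from congrArg Subtype.val hx, hpre']
      exact x.2.2
    have hle : Nat.card M.U ≤ Nat.card V := by
      refine Nat.card_le_card_of_injective (fun u => (⟨l⁻¹ * ⟨u.1, M.U_le_L u.2⟩ * l, hcore _ fun v hv => ?_⟩ : V))
        fun u u' e => Subtype.ext ?_
      · have e : (l * v * l⁻¹ : M.L) * ⟨u.1, M.U_le_L u.2⟩ = ⟨u.1, M.U_le_L u.2⟩ * (l * v * l⁻¹) :=
          Subtype.ext ((Subgroup.mem_centralizer_iff.1 (hVc v hv) _ u.2).symm)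
        calc l⁻¹ * ⟨u.1, M.U_le_L u.2⟩ * l * v = l⁻¹ * (⟨u.1, M.U_le_L u.2⟩ * (l * v * l⁻¹)) * l := by group
          _ = l⁻¹ * ((l * v * l⁻¹) * ⟨u.1, M.U_le_L u.2⟩) * l := by rw [e]
          _ = _ := by group
      · have : l⁻¹ * (⟨u.1, M.U_le_L u.2⟩ : M.L) * l = l⁻¹ * ⟨u'.1, M.U_le_L u'.2⟩ * l := congrArg Subtype.val e
        have h2 := mul_left_cancel (mul_right_cancel this)
        exact congrArg (fun x : M.L => (x : G)) h2
    rw [M.card_U, hV4] at hle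
    omega
  · obtain ⟨F, i1, i2, hF, ⟨e⟩⟩ := p.psl_three_four hcit M.not_comm hk
    obtain ⟨e'⟩ := Spor.L34Elem.model (F := F) hF
    exact ⟨e.trans e'⟩

theorem card_L (M : Mdl S g) : Nat.card M.L = 20160 := by
  obtain ⟨e⟩ := M.L_iso
  rw [Nat.card_congr e.toEquiv, Spor.M21.natCard_psl Spor.SU32.card_F4]

/-- The conjugates of `z` in `C(t)` are the involutions of `L` and form one class there. -/
theorem L_conj (M : Mdl S g) {w : G} (hw : w ∈ Dg g) (hA : IsConj z w) : ∃ l ∈ M.L, l * z * l⁻¹ = w := by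
  obtain ⟨e⟩ := M.L_iso
  haveI : Fact (Nat.Prime 2) := ⟨Nat.prime_two⟩
  have ho : ∀ {x : G} (hx : x ∈ M.L), x * x = 1 → x ≠ 1 → orderOf (e ⟨x, hx⟩) = 2 := fun {x} hx h2 h1 => by
    rw [MulEquiv.orderOf_eq, Subgroup.orderOf_mk]
    exact orderOf_eq_prime (by rw [pow_two]; exact h2) h1
  have hzL := M.A_mem_L M.z_mem_D (IsConj.refl z)
  have hwL := M.A_mem_L hw hA
  obtain ⟨hw2, hw1⟩ := conj_class_sq S hA
  obtain ⟨c, hc⟩ := isConj_iff.1 (Spor.L34Elem.involutions_conj (ho hzL S.code.ext.zz S.code.ne) (ho hwL hw2 hw1))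
  refine ⟨(e.symm c : M.L), (e.symm c).2, ?_⟩
  have : e.symm c * ⟨z, hzL⟩ * (e.symm c)⁻¹ = ⟨w, hwL⟩ := e.injective (by simpa using hc)
  exact congrArg Subtype.val this

theorem card_A (M : Mdl S g) : Nat.card {w : G // w ∈ Dg g ∧ IsConj z w} = 315 := by
  have h := card_of_orbit M.L M.U z (fun w => w ∈ Dg g ∧ IsConj z w) (fun x => by
      rw [← M.L_inter, Subgroup.mem_inf, M.mem_SS]
      exact ⟨fun h => ⟨h.1, h.2.1⟩, fun h => ⟨h.1, h.2, M.L_le h.1⟩⟩)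
    (fun w hw => M.L_conj hw.1 hw.2)
    (fun l hl => ⟨(Dg g).mul_mem ((Dg g).mul_mem (M.L_le hl) M.z_mem_D) ((Dg g).inv_mem (M.L_le hl)),
      isConj_iff.2 ⟨l, rfl⟩⟩)
  rw [M.card_L, M.card_U] at h
  omega

theorem card_D (M : Mdl S g) : Nat.card (Dg g) = 161280 := by
  have h := card_of_orbit (Dg g) M.sub z (fun w => w ∈ Dg g ∧ IsConj z w) (fun x => by
      rw [M.mem_SS]; exact ⟨fun h => ⟨h.2, h.1⟩, fun h => ⟨h.2, h.1⟩⟩)
    (fun w hw => by
      obtain ⟨d, hd, hde⟩ := M.conj_to_z hw.1 hw.2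
      exact ⟨d⁻¹, (Dg g).inv_mem hd, by rw [← hde]; group⟩)
    (fun d hd => ⟨(Dg g).mul_mem ((Dg g).mul_mem hd M.z_mem_D) ((Dg g).inv_mem hd), isConj_iff.2 ⟨d, rfl⟩⟩)
  rw [M.card_A, M.card_sub] at h
  omega

end Mdl

end Cfsg.Agent.Invol.Suz.Loc
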