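import Cfsg.Agent.Lib.Invol.Suz.Loc.SFacts

/-!
# The centralizer of the second involution: its Sylow subgroup and its fusion
-/

set_option autoImplicit false
set_option linter.unusedSectionVars false

namespace Cfsg.Agent.Invol.Suz.Loc

open Cfsg Cfsg.Agent.Classical.BinCoc Cfsg.Agent.Invol.Big Cfsg.Agent.Invol.Big.Code

variable {G : Type*} [Group G] [Finite G] {z : G} {Q : Subgroup G} {cd : G → ℕ}

/-- The centralizer of `t`. -/
abbrev Dg (g : ℕ → G) : Subgroup G := Subgroup.centralizer ({g 2} : Set G)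

namespace Mdl

variable {S : Setting z Q cd} {g : ℕ → G}

theorem z_eq (M : Mdl S g) : ev g 256 = z := by
  rw [show (256 : ℕ) = 2 ^ 8 by rfl, ev_pow (by norm_num), M.top]

theorem t_eq (M : Mdl S g) : ev g 4 = g 2 := by
  rw [show (4 : ℕ) = 2 ^ 2 by rfl, ev_pow (by norm_num)]

theorem ev_mul (M : Mdl S g) (a : ℕ) {c : ℕ} (hc : c < 512) : ev g a * ev g c = ev g (mulM a c) :=
  (M.mulM_spec a hc).2.symm

theorem mem_SS (M : Mdl S g) {x : G} : x ∈ M.sub ↔ x * z = z * x ∧ x ∈ Dg g := by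
  rw [M.sub_eq, Subgroup.mem_inf, Subgroup.mem_centralizer_singleton_iff]

theorem ev_SS (M : Mdl S g) {a : ℕ} (ha : a < 512) : ev g a ∈ M.sub := ⟨a, ha, rfl⟩

theorem SS_le (M : Mdl S g) : M.sub ≤ Dg g := fun _ hx => (M.mem_SS.1 hx).2

theorem z_mem_sub (M : Mdl S g) : z ∈ M.sub := ⟨256, by norm_num, M.z_eq⟩

theorem z_mem_D (M : Mdl S g) : z ∈ Dg g := M.SS_le M.z_mem_sub

theorem t_mem_D (_M : Mdl S g) : g 2 ∈ Dg g := Subgroup.mem_centralizer_singleton_iff.2 rfl

theorem t_not_conj (M : Mdl S g) : ¬ IsConj z (g 2) := by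
  obtain ⟨c, -, hc⟩ := M.g2_conj
  exact fun e => not_conj_t S (e.trans (isConj_iff.2 ⟨c, hc⟩).symm)

theorem t_ne_one (M : Mdl S g) : g 2 ≠ 1 := by
  rw [← M.t_eq, ← ev_zero (g := g)]
  exact fun e => absurd (M.ev_inj (by norm_num) (by norm_num) e) (by norm_num)

theorem conj_class_sq {x : G} (S : Setting z Q cd) (hx : IsConj z x) : x * x = 1 ∧ x ≠ 1 := by
  obtain ⟨c, rfl⟩ := isConj_iff.1 hx
  exact ⟨invol_conj c S.code.ext.zz, fun e => S.code.ne (conj_eq_one_iff.1 e)⟩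

/-- The conjugates of `z` in the centralizer of `t` form one orbit. -/
theorem conj_to_z (M : Mdl S g) {x : G} (hx : x ∈ Dg g) (hA : IsConj z x) : ∃ d ∈ Dg g, d * x * d⁻¹ = z := by
  obtain ⟨k, hk⟩ := isConj_iff.1 hA.symm
  have hxt : x * g 2 = g 2 * x := Subgroup.mem_centralizer_singleton_iff.1 hx
  have hcomm : k * g 2 * k⁻¹ * z = z * (k * g 2 * k⁻¹) := by
    calc k * g 2 * k⁻¹ * z = k * (g 2 * x) * k⁻¹ := by rw [← hk]; group
      _ = k * (x * g 2) * k⁻¹ := by rw [hxt]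
      _ = _ := by rw [← hk]; group
  obtain ⟨c, hc, hct⟩ := Setting.conj_t S hcomm (invol_conj k M.g2_sq) (fun e => M.t_ne_one (conj_eq_one_iff.1 e))
    (fun e => M.t_not_conj (e.trans (isConj_iff.2 ⟨k, rfl⟩).symm))
  obtain ⟨c0, hc0, hct0⟩ := M.g2_conj
  refine ⟨(c * c0⁻¹)⁻¹ * k, Subgroup.mem_centralizer_singleton_iff.2 ?_, ?_⟩
  · refine mul_inv_eq_iff_eq_mul.1 ?_
    calc (c * c0⁻¹)⁻¹ * k * g 2 * ((c * c0⁻¹)⁻¹ * k)⁻¹ = c0 * c⁻¹ * (k * g 2 * k⁻¹) * c * c0⁻¹ := by group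
      _ = c0 * tOf S * c0⁻¹ := by rw [← hct]; group
      _ = g 2 := hct0
  · have := comm_inv (comm_mul hc (comm_inv hc0))
    calc (c * c0⁻¹)⁻¹ * k * x * ((c * c0⁻¹)⁻¹ * k)⁻¹ = (c * c0⁻¹)⁻¹ * (k * x * k⁻¹) * (c * c0⁻¹) := by group
      _ = z := by rw [hk, this, inv_mul_cancel_right]

/-- Subgroups of the codes given by congruence conditions. -/
def cong (M : Mdl S g) (m : ℕ) (hm : 0 < m)
    (h : ∀ a c, a < 512 → c < 512 → a % m = 0 → c % m = 0 → mulM a c % m = 0) : Subgroup G where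
  carrier := {x | ∃ a < 512, a % m = 0 ∧ ev g a = x}
  mul_mem' := by
    rintro _ _ ⟨a, ha, ha', rfl⟩ ⟨c, hc, hc', rfl⟩
    exact ⟨_, (M.mulM_spec a hc).1, h a c ha hc ha' hc', (M.mulM_spec a hc).2⟩
  one_mem' := ⟨0, by norm_num, Nat.zero_mod m, ev_zero⟩
  inv_mem' := by
    rintro _ ⟨a, ha, ha', rfl⟩
    show ∃ c < 512, c % m = 0 ∧ ev g c = (ev g a)⁻¹
    have hp : ∀ k : ℕ, ∃ c < 512, c % m = 0 ∧ ev g c = ev g a ^ k := by
      intro k
      induction k with
      | zero => exact ⟨0, by norm_num, Nat.zero_mod m, by rw [ev_zero, pow_zero]⟩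
      | succ k ih =>
        obtain ⟨c, hc, hc', e⟩ := ih
        exact ⟨_, (M.mulM_spec a hc).1, h a c ha hc ha' hc', by rw [(M.mulM_spec a hc).2, e, pow_succ']⟩
    obtain ⟨c, hc, hc', e⟩ := hp (orderOf (ev g a) - 1)
    refine ⟨c, hc, hc', eq_inv_of_mul_eq_one_left ?_⟩
    rw [e, ← pow_succ, Nat.sub_add_cancel (orderOf_pos _), pow_orderOf_eq_one]

theorem mod8_ok : ∀ a c, a < 512 → c < 512 → a % 8 = 0 → c % 8 = 0 → mulM a c % 8 = 0 := by
  intro a c ha hc ha' hc'
  have h := U_ok.1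
  simp only [List.all_eq_true, List.mem_range, beq_iff_eq] at h
  have := h (a / 8) (by omega) (c / 8) (by omega)
  rwa [show 8 * (a / 8) = a by omega, show 8 * (c / 8) = c by omega] at this

theorem mod2_ok : ∀ a c, a < 512 → c < 512 → a % 2 = 0 → c % 2 = 0 → mulM a c % 2 = 0 := by
  intro a c ha hc ha' hc'
  have h := even_ok
  simp only [List.all_eq_true, List.mem_range, beq_iff_eq] at h
  have := h (a / 2) (by omega) (c / 2) (by omega)
  rwa [show 2 * (a / 2) = a by omega, show 2 * (c / 2) = c by omega] at this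

/-- The subgroup `U`. -/
def U (M : Mdl S g) : Subgroup G := M.cong 8 (by norm_num) mod8_ok

/-- The even codes. -/
def S0 (M : Mdl S g) : Subgroup G := M.cong 2 (by norm_num) mod2_ok

theorem ev_mem_U (M : Mdl S g) {a : ℕ} (ha : a < 512) : ev g a ∈ M.U ↔ a % 8 = 0 :=
  ⟨fun ⟨c, hc, hc', e⟩ => M.ev_inj hc ha e ▸ hc', fun h => ⟨a, ha, h, rfl⟩⟩

theorem ev_mem_S0 (M : Mdl S g) {a : ℕ} (ha : a < 512) : ev g a ∈ M.S0 ↔ a % 2 = 0 :=
  ⟨fun ⟨c, hc, hc', e⟩ => M.ev_inj hc ha e ▸ hc', fun h => ⟨a, ha, h, rfl⟩⟩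

theorem U_le_S0 (M : Mdl S g) : M.U ≤ M.S0 := by
  rintro _ ⟨a, ha, ha', rfl⟩; exact (M.ev_mem_S0 ha).2 (by omega)

theorem S0_le (M : Mdl S g) : M.S0 ≤ M.sub := by
  rintro _ ⟨a, ha, -, rfl⟩; exact M.ev_SS ha

theorem card_U (M : Mdl S g) : Nat.card M.U = 64 := by
  have hb : Function.Bijective (fun i : Fin 64 => (⟨ev g (8 * i), (M.ev_mem_U (by omega)).2 (by omega)⟩ : M.U)) :=
    ⟨fun i j e => Fin.ext (by have := M.ev_inj (by omega) (by omega) (congrArg Subtype.val e); omega),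
      fun ⟨x, a, ha, ha', e⟩ => ⟨⟨a / 8, by omega⟩, Subtype.ext (by
        show ev g (8 * (a / 8)) = x
        rw [show 8 * (a / 8) = a by omega, e])⟩⟩
  rw [← Nat.card_eq_of_bijective _ hb, Nat.card_fin]

theorem A_mem_U (M : Mdl S g) {x : G} (hx : x ∈ M.sub) (hA : IsConj z x) : x ∈ M.U := by
  obtain ⟨a, ha, rfl⟩ := hx
  have h := aList_U
  simp only [List.all_eq_true, Bool.and_eq_true, decide_eq_true_eq, beq_iff_eq] at h
  exact (M.ev_mem_U ha).2 (h a ((M.mem_aList ha).2 hA)).2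

theorem invol_U (M : Mdl S g) {x : G} (hx : x ∈ M.U) (hx2 : x * x = 1) (hx1 : x ≠ 1) : IsConj z x := by
  obtain ⟨a, ha, ha', rfl⟩ := hx
  have h := U_ok.2.1
  simp only [List.all_eq_true, List.mem_range, Bool.or_eq_true, Bool.not_eq_true', beq_eq_false_iff_ne,
    List.contains_iff_mem, beq_iff_eq] at h
  refine (M.mem_aList ha).1 ?_
  rcases h (a / 8) (by omega) with (e | e) | e
  · refine absurd ?_ e
    rw [show 8 * (a / 8) = a by omega]
    exact M.ev_inj (M.mulM_spec a ha).1 (by norm_num) (by rw [← M.ev_sq ha, hx2, ev_zero])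
  · exact absurd (by rw [show a = 0 by omega, ev_zero]) hx1
  · rwa [show 8 * (a / 8) = a by omega] at e

/-- `U` is generated by conjugates of `z`. -/
theorem U_gen (M : Mdl S g) {H : Subgroup G} (h : ∀ x ∈ M.sub, IsConj z x → x ∈ H) : M.U ≤ H := by
  have hA : ∀ a ∈ aList, ev g a ∈ H := fun a ha => by
    have h8 := aList_U
    simp only [List.all_eq_true, Bool.and_eq_true, decide_eq_true_eq, beq_iff_eq] at h8
    exact h _ (M.ev_SS (h8 a ha).1) ((M.mem_aList (h8 a ha).1).1 ha)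
  have hg : ∀ j, 3 ≤ j → j < 9 → g j ∈ H := fun j h3 h9 => by
    rw [← ev_pow (g := g) h9]
    by_cases e : j = 6
    · subst e
      rw [show (2 : ℕ) ^ 6 = mulM 32 96 by decide +kernel, ← M.ev_mul 32 (by norm_num)]
      exact mul_mem (hA 32 (by decide)) (hA 96 (by decide))
    · exact hA _ (by interval_cases j <;> simp_all [aList])
  rintro _ ⟨a, ha, ha', rfl⟩
  refine list_prod_mem fun x hx => ?_
  obtain ⟨j, hj, rfl⟩ := List.mem_map.1 hx
  refine hg j ?_ (decW_lt hj)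
  by_contra hlt
  have ht : a.testBit j = true := (List.mem_filter.1 hj).2
  have : (a % 2 ^ 3).testBit j = true := by rw [Nat.testBit_mod_two_pow, ht]; simp; omega
  rw [show a % 2 ^ 3 = 0 by simpa using ha'] at this
  simp at this

/-- The elements commuting with all of `U`. -/
theorem centU_code (M : Mdl S g) {a : ℕ} (ha : a < 512) :
    ev g a ∈ Subgroup.centralizer (M.U : Set G) ↔ ∀ j, 3 ≤ j → j < 9 → mulM a (2 ^ j) = mulM (2 ^ j) a := by
  have hj2 : ∀ {j}, j < 9 → 2 ^ j < 512 := fun {j} hj =>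
    lt_of_lt_of_le (Nat.pow_lt_pow_right (by norm_num) hj) le_rfl
  constructor
  · intro h j h3 h9
    have hm : ev g (2 ^ j) ∈ M.U := (M.ev_mem_U (hj2 h9)).2 (by
      obtain ⟨k, rfl⟩ : ∃ k, j = 3 + k := ⟨j - 3, by omega⟩
      rw [pow_add]; exact Nat.mul_mod_right 8 _)
    have := Subgroup.mem_centralizer_iff.1 h _ hm
    rw [M.ev_mul _ ha, M.ev_mul _ (hj2 h9)] at this
    exact (M.ev_inj (M.mulM_spec _ ha).1 (M.mulM_spec _ (hj2 h9)).1 this).symm
  · intro h
    refine Subgroup.mem_centralizer_iff.2 ?_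
    rintro _ ⟨c, hc, hc', rfl⟩
    refine ((Commute.list_prod_right _ _ fun x hx => ?_ : Commute (ev g a) (ev g c))).eq.symm
    obtain ⟨j, hj, rfl⟩ := List.mem_map.1 hx
    have h9 := decW_lt hj
    have h3 : 3 ≤ j := by
      by_contra hlt
      have ht : c.testBit j = true := (List.mem_filter.1 hj).2
      have : (c % 2 ^ 3).testBit j = true := by rw [Nat.testBit_mod_two_pow, ht]; simp; omega
      rw [show c % 2 ^ 3 = 0 by simpa using hc'] at this
      simp at this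
    show ev g a * g j = g j * ev g a
    rw [← ev_pow (g := g) h9, M.ev_mul _ (hj2 h9), M.ev_mul _ ha, h j h3 h9]

/-- The codes of the centre of `U`. -/
theorem ZU_code (M : Mdl S g) {x : G} (hx : x ∈ M.U) :
    x ∈ Subgroup.centralizer (M.U : Set G) ↔ x ∈ ({1, ev g 128, z, ev g 384} : Set G) := by
  obtain ⟨a, ha, ha', rfl⟩ := hx
  have h := U_ok.2.2.1
  simp only [List.all_eq_true, List.mem_range, beq_iff_eq] at h
  have h' := h (a / 8) (by omega)
  rw [show 8 * (a / 8) = a by omega] at h'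
  rw [M.centU_code ha, ← ev_zero (g := g), ← M.z_eq]
  constructor
  · intro hc
    have : ([0, 16, 32, 48].contains (a / 8)) = true := by
      rw [h']
      simp only [List.all_eq_true, List.mem_range, Bool.or_eq_true, decide_eq_true_eq, beq_iff_eq]
      exact fun j hj => or_iff_not_imp_left.2 fun h3 => hc j (by omega) hj
    simp only [List.contains_iff_mem, List.mem_cons, List.not_mem_nil, or_false] at this
    rcases this with e | e | e | e
    · simp [show a = 0 by omega]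
    · simp [show a = 128 by omega]
    · simp [show a = 256 by omega]
    · simp [show a = 384 by omega]
  · intro hc j h3 h9
    have hcode : a = 0 ∨ a = 128 ∨ a = 256 ∨ a = 384 := by
      simp only [Set.mem_insert_iff, Set.mem_singleton_iff] at hc
      rcases hc with e | e | e | e <;> have := M.ev_inj ha (by norm_num) e <;> omega
    have hc' : ([0, 16, 32, 48].contains (a / 8)) = true := by
      rcases hcode with rfl | rfl | rfl | rfl <;> decide
    rw [h'] at hc'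
    simp only [List.all_eq_true, List.mem_range, Bool.or_eq_true, decide_eq_true_eq, beq_iff_eq] at hc'
    exact (hc' j h9).resolve_left (by omega)

theorem isPGroup_SS (M : Mdl S g) : IsPGroup 2 M.sub := IsPGroup.of_card (n := 9) (by rw [M.card_sub]; rfl)

theorem A_center (M : Mdl S g) {x : G} (hx : x ∈ M.sub) (hA : IsConj z x)
    (hc : ∀ y ∈ M.sub, x * y = y * x) : x = z := by
  obtain ⟨a, ha, rfl⟩ := hx
  have h := odd_ok.2.2
  simp only [List.all_eq_true, List.mem_range, Bool.or_eq_true, Bool.not_eq_true', List.all_eq_false, beq_iff_eq,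
    List.contains_iff_mem, List.contains_eq_mem, decide_eq_false_iff_not] at h
  rcases h a ha with (⟨j, hj, hne⟩ | hn) | e
  · refine absurd ?_ hne
    have hj2 : 2 ^ j < 512 := lt_of_lt_of_le (Nat.pow_lt_pow_right (by norm_num) hj) le_rfl
    have := hc _ (M.ev_SS hj2)
    rw [M.ev_mul _ hj2, M.ev_mul _ ha] at this
    exact M.ev_inj (M.mulM_spec _ hj2).1 (M.mulM_spec _ ha).1 this
  · exact absurd ((M.mem_aList ha).2 hA) hn
  · rw [e, M.z_eq]

/-- A two-group in the centralizer of `t` containing the group of the codes is that group. -/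
theorem SS_max (M : Mdl S g) {R : Subgroup G} (hR : IsPGroup 2 R) (hRD : R ≤ Dg g) (hle : M.sub ≤ R) :
    R = M.sub := by
  classical
  haveI : Fact (Nat.Prime 2) := ⟨Nat.prime_two⟩
  by_contra hne
  haveI : Group.IsNilpotent R := hR.isNilpotent
  have hlt : M.sub.subgroupOf R < ⊤ := lt_top_iff_ne_top.2 fun e =>
    hne (le_antisymm (Subgroup.subgroupOf_eq_top.1 e) hle)
  obtain ⟨⟨p, hp⟩, hpn, hpH⟩ := SetLike.exists_of_lt (Group.normalizerCondition_of_isNilpotent _ hlt)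
  rw [Subgroup.mem_subgroupOf] at hpH
  have hconj : ∀ y ∈ M.sub, p⁻¹ * y * p ∈ M.sub := fun y hy => by
    have := (Subgroup.mem_normalizer_iff''.1 hpn ⟨y, hle hy⟩).1 (by rwa [Subgroup.mem_subgroupOf])
    rwa [Subgroup.mem_subgroupOf] at this
  have hconj' : ∀ y ∈ M.sub, p * y * p⁻¹ ∈ M.sub := fun y hy => by
    have := (Subgroup.mem_normalizer_iff.1 hpn ⟨y, hle hy⟩).1 (by rwa [Subgroup.mem_subgroupOf])
    rwa [Subgroup.mem_subgroupOf] at this
  have hzS : z ∈ M.sub := M.z_mem_sub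
  have e := M.A_center (hconj' z hzS) (isConj_iff.2 ⟨p, rfl⟩) fun y hy => by
    have h2 := (M.mem_SS.1 (hconj y hy)).1
    calc p * z * p⁻¹ * y = p * (z * (p⁻¹ * y * p)) * p⁻¹ := by group
      _ = p * ((p⁻¹ * y * p) * z) * p⁻¹ := by rw [h2]
      _ = y * (p * z * p⁻¹) := by group
  exact hpH (M.mem_SS.2 ⟨mul_inv_eq_iff_eq_mul.1 e, hRD hp⟩)

theorem exists_sylow (M : Mdl S g) : ∃ P : Sylow 2 (Dg g), (P : Subgroup (Dg g)) = M.sub.subgroupOf (Dg g) := by
  obtain ⟨P, hP⟩ := (M.isPGroup_SS.comap_subtype : IsPGroup 2 (M.sub.subgroupOf (Dg g))).exists_le_sylow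
  refine ⟨P, le_antisymm (fun x hx => ?_) hP⟩
  have := M.SS_max (R := (P : Subgroup (Dg g)).map (Dg g).subtype) (P.isPGroup'.map _)
    (Subgroup.map_subtype_le _) fun y hy => ⟨⟨y, M.SS_le hy⟩, hP (Subgroup.mem_subgroupOf.2 hy), rfl⟩
  rw [Subgroup.mem_subgroupOf, ← this]
  exact ⟨x, hx, rfl⟩

/-- An element of `C(t)` carrying a conjugate of `z` in the centre of `U` back to `z` normalizes `U`. -/
theorem norm_U (M : Mdl S g) {d z' : G} (hd : d ∈ Dg g) (hz' : z' ∈ Subgroup.centralizer (M.U : Set G))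
    (he : d * z' * d⁻¹ = z) : ∀ u, u ∈ M.U ↔ d * u * d⁻¹ ∈ M.U := by
  have hle : M.U.map (MulAut.conj d).toMonoidHom ≤ M.U := by
    rw [Subgroup.map_le_iff_le_comap]
    refine M.U_gen fun x hx hA => ?_
    show d * x * d⁻¹ ∈ M.U
    have hxU := M.A_mem_U hx hA
    have hcz : z' * x = x * z' := (Subgroup.mem_centralizer_iff.1 hz' x hxU).symm
    refine M.A_mem_U (M.mem_SS.2 ⟨?_, mul_mem (mul_mem hd (M.SS_le hx)) (inv_mem hd)⟩)
      (hA.trans (isConj_iff.2 ⟨d, rfl⟩))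
    calc d * x * d⁻¹ * z = d * (x * z') * d⁻¹ := by rw [← he]; group
      _ = d * (z' * x) * d⁻¹ := by rw [hcz]
      _ = z * (d * x * d⁻¹) := by rw [← he]; group
  have heq : M.U.map (MulAut.conj d).toMonoidHom = M.U :=
    Subgroup.eq_of_le_of_card_ge hle
      (Nat.card_congr (M.U.equivMapOfInjective _ (MulAut.conj d).injective).toEquiv).le
  intro u
  constructor
  · exact fun hu => hle ⟨u, hu, rfl⟩
  · intro hu
    rw [← heq] at hu
    obtain ⟨v, hv, e⟩ := hu
    exact (MulAut.conj d).injective e ▸ hv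

theorem ZU_mem (M : Mdl S g) {a : ℕ} (ha : a = 128 ∨ a = 256 ∨ a = 384) :
    ev g a ∈ M.U ∧ ev g a ∈ Subgroup.centralizer (M.U : Set G) ∧ IsConj z (ev g a) := by
  have hU : ev g a ∈ M.U := (M.ev_mem_U (by omega)).2 (by omega)
  refine ⟨hU, (M.ZU_code hU).2 ?_, (M.mem_aList (by omega)).1 (by rcases ha with rfl | rfl | rfl <;> decide)⟩
  rcases ha with rfl | rfl | rfl <;> simp [M.z_eq]

/-- The three involutions of the centre of `U` are fused in the normalizer of `U`. -/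
theorem fuse_ZU (M : Mdl S g) {a : ℕ} (ha : a = 128 ∨ a = 256 ∨ a = 384) :
    ∃ d ∈ Dg g, d * z * d⁻¹ = ev g a ∧ ∀ u, u ∈ M.U ↔ d * u * d⁻¹ ∈ M.U := by
  obtain ⟨hU, hC, hA⟩ := M.ZU_mem ha
  obtain ⟨d, hd, hde⟩ := M.conj_to_z (M.SS_le (M.S0_le (M.U_le_S0 hU))) hA
  refine ⟨d⁻¹, inv_mem hd, by rw [← hde]; group, fun u => ?_⟩
  rw [M.norm_U hd hC hde (d⁻¹ * u * d⁻¹⁻¹)]
  group

/-- An element with an odd code is never fused into the even codes. -/
theorem fusion (M : Mdl S g) {a c : ℕ} (ha : a < 512) (hodd : a % 2 = 1) (hc : c < 512) (heven : c % 2 = 0)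
    {d : G} (hd : d ∈ Dg g) (e : d * ev g a * d⁻¹ = ev g c) : False := by
  classical
  haveI : Fact (Nat.Prime 2) := ⟨Nat.prime_two⟩
  set x := ev g a
  have hodd' := odd_ok.1
  simp only [List.all_eq_true, List.mem_range, Bool.or_eq_true, Bool.not_eq_true', beq_eq_false_iff_ne, beq_iff_eq] at hodd'
  -- the only conjugate of `z` commuting with `x` in the group of codes
  have honly : ∀ w ∈ M.sub, IsConj z w → w * x = x * w → w = z := by
    rintro _ ⟨k, hk, rfl⟩ hA hcomm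
    have hka := (M.mem_aList hk).2 hA
    rcases hodd' (a / 2) (by omega) k hka with hne | e'
    · refine absurd ?_ hne
      rw [show 2 * (a / 2) + 1 = a by omega]
      exact M.ev_inj (M.mulM_spec _ ha).1 (M.mulM_spec _ hk).1 (by rw [← M.ev_mul _ ha, ← M.ev_mul _ hk]; exact hcomm)
    · rw [e', M.z_eq]
  set P := Dg g ⊓ Subgroup.centralizer ({x} : Set G) with hP
  set R0 := M.sub ⊓ Subgroup.centralizer ({x} : Set G) with hR0
  have hR0P : R0 ≤ P := inf_le_inf_right _ M.SS_le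
  obtain ⟨R, hR⟩ := (M.isPGroup_SS.to_le (inf_le_left : R0 ≤ _) |>.comap_subtype :
    IsPGroup 2 (R0.subgroupOf P)).exists_le_sylow
  have hRe : (R : Subgroup P) = R0.subgroupOf P := by
    by_contra hne
    haveI : Group.IsNilpotent (R : Subgroup P) := R.isPGroup'.isNilpotent
    have hlt : (R0.subgroupOf P).subgroupOf (R : Subgroup P) < ⊤ := lt_top_iff_ne_top.2 fun e =>
      hne (le_antisymm (Subgroup.subgroupOf_eq_top.1 e) hR)
    obtain ⟨⟨⟨p, hp⟩, hpR⟩, hpn, hpH⟩ := SetLike.exists_of_lt (Group.normalizerCondition_of_isNilpotent _ hlt)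
    simp only [Subgroup.mem_subgroupOf] at hpH
    have hzx : z * x = x * z := ((M.mem_SS.1 (M.ev_SS ha)).1).symm
    have hzR0 : z ∈ R0 := ⟨M.z_mem_sub, Subgroup.mem_centralizer_singleton_iff.2 hzx⟩
    have hmem := (Subgroup.mem_normalizer_iff.1 hpn ⟨⟨z, hR0P hzR0⟩, hR (Subgroup.mem_subgroupOf.2 hzR0)⟩).1
      (by simpa [Subgroup.mem_subgroupOf] using hzR0)
    simp only [Subgroup.mem_subgroupOf] at hmem
    have hz := honly _ hmem.1 (isConj_iff.2 ⟨p, rfl⟩) (Subgroup.mem_centralizer_singleton_iff.1 hmem.2)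
    exact hpH ⟨M.mem_SS.2 ⟨mul_inv_eq_iff_eq_mul.1 hz, hp.1⟩, hp.2⟩
  -- a four-group of conjugates of `z` in `P`
  have hev : ∀ k, k = 128 ∨ k = 384 → d⁻¹ * ev g k * d ∈ P := by
    intro k hk
    refine Subgroup.mem_inf.2 ⟨(Dg g).mul_mem ((Dg g).mul_mem ((Dg g).inv_mem hd) (M.SS_le (M.ev_SS (by omega)))) hd,
      Subgroup.mem_centralizer_singleton_iff.2 ?_⟩
    have h2 := odd_ok.2.1
    simp only [List.all_eq_true, List.mem_range, Bool.and_eq_true, beq_iff_eq] at h2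
    have hcomm : ev g k * ev g c = ev g c * ev g k := by
      rw [M.ev_mul _ hc, M.ev_mul _ (by omega : k < 512)]
      have := h2 (c / 2) (by omega)
      rw [show 2 * (c / 2) = c by omega] at this
      rcases hk with rfl | rfl
      · rw [this.1]
      · rw [this.2]
    calc d⁻¹ * ev g k * d * x = d⁻¹ * (ev g k * (d * x * d⁻¹)) * d := by group
      _ = d⁻¹ * (ev g c * ev g k) * d := by rw [e, hcomm]
      _ = x * (d⁻¹ * ev g k * d) := by rw [← e]; group
  set w1 : P := ⟨_, hev 128 (Or.inl rfl)⟩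
  set w2 : P := ⟨_, hev 384 (Or.inr rfl)⟩
  have hW : IsPGroup 2 (Subgroup.closure ({w1, w2} : Set P)) := by
    refine ((M.isPGroup_SS.map (MulAut.conj d⁻¹).toMonoidHom).comap_subtype (K := P)).to_le ?_
    rw [Subgroup.closure_le]
    rintro w (rfl | rfl)
    · exact ⟨ev g 128, M.ev_SS (by norm_num), by simp [w1]⟩
    · exact ⟨ev g 384, M.ev_SS (by norm_num), by simp [w2]⟩
  obtain ⟨R', hR'⟩ := hW.exists_le_sylow
  obtain ⟨p, hp⟩ := MulAction.exists_smul_eq P R' R
  have hin : ∀ k, (hk : k = 128 ∨ k = 384) → (⟨_, hev k hk⟩ : P) ∈ (R' : Subgroup P) →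
      (p : G) * (d⁻¹ * ev g k * d) * (p : G)⁻¹ = z := by
    intro k hk hm
    have h2 := Subgroup.smul_mem_pointwise_smul _ (MulAut.conj p) _ hm
    rw [← Sylow.coe_subgroup_smul, hp, hRe, Subgroup.mem_subgroupOf] at h2
    refine honly _ h2.1 ((M.ZU_mem (a := k) (by omega)).2.2.trans
      (isConj_iff.2 ⟨(p : G) * d⁻¹, by group⟩)) (Subgroup.mem_centralizer_singleton_iff.1 h2.2)
  have h1 := hin 128 (Or.inl rfl) (hR' (Subgroup.subset_closure (Or.inl rfl)))
  have h2 := hin 384 (Or.inr rfl) (hR' (Subgroup.subset_closure (Or.inr rfl)))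
  have := mul_left_cancel (mul_right_cancel (h1.trans h2.symm))
  exact absurd (M.ev_inj (by norm_num) (by norm_num) (mul_left_cancel (mul_right_cancel this))) (by norm_num)

end Mdl

end Cfsg.Agent.Invol.Suz.Loc
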