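import Cfsg.Agent.Lib.Invol.Suz.Loc.CentZ

/-!
# The conjugates of `t` in the centralizer of `z`
-/

set_option autoImplicit false
set_option linter.unusedSectionVars false
set_option Elab.async false

namespace Cfsg.Agent.Invol.Suz.Loc

open Cfsg Cfsg.Agent.Classical.BinCoc Cfsg.Agent.Invol.Big Cfsg.Agent.Invol.Big.Code

variable {G : Type*} [Group G] [Finite G] {z : G} {Q : Subgroup G} {cd : G → ℕ}

/-- The checks on the turning words of the second kind. -/
def chkTurn : Bool :=
  (turnT.all fun w => Wok K6 w && chkConj K6 (lift0 w) (inv0 w) fT (turned w fT)) &&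
  decide ((turnT.map fun w => codeNum (turned w fT)).Nodup) &&
  (fib.all fun p => (pts K6).all fun a => ap K6 p.1 (2 * a) / 2 == wd K6 ed.sw a) &&
  decide ((fib.map Prod.fst).Nodup) && decide (turnT.length = 270) && decide (fib.length = 12)

theorem turn_chunk0 : ((turnT.take 45).all fun w => Wok K6 w && chkConj K6 (lift0 w) (inv0 w) fT (turned w fT)) = true := by decide +kernel

theorem turn_chunk1 : (((turnT.drop 45).take 45).all fun w => Wok K6 w && chkConj K6 (lift0 w) (inv0 w) fT (turned w fT)) = true := by decide +kernel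

theorem turn_chunk2 : (((turnT.drop 90).take 45).all fun w => Wok K6 w && chkConj K6 (lift0 w) (inv0 w) fT (turned w fT)) = true := by decide +kernel

theorem turn_chunk3 : (((turnT.drop 135).take 45).all fun w => Wok K6 w && chkConj K6 (lift0 w) (inv0 w) fT (turned w fT)) = true := by decide +kernel

theorem turn_chunk4 : (((turnT.drop 180).take 45).all fun w => Wok K6 w && chkConj K6 (lift0 w) (inv0 w) fT (turned w fT)) = true := by decide +kernel

theorem turn_chunk5 : (((turnT.drop 225).take 45).all fun w => Wok K6 w && chkConj K6 (lift0 w) (inv0 w) fT (turned w fT)) = true := by decide +kernel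

theorem turn_split : turnT = turnT.take 45 ++ ((turnT.drop 45).take 45 ++ ((turnT.drop 90).take 45 ++ ((turnT.drop 135).take 45 ++ ((turnT.drop 180).take 45 ++ ((turnT.drop 225).take 45))))) := by decide +kernel

theorem turn_nodup : (turnT.map fun w => codeNum (turned w fT)).Nodup := by decide +kernel

theorem turn_fib : (fib.all fun p => (pts K6).all fun a => ap K6 p.1 (2 * a) / 2 == wd K6 ed.sw a) = true := by
  decide +kernel

theorem turn_sizes : (fib.map Prod.fst).Nodup ∧ turnT.length = 270 ∧ fib.length = 12 := by decide +kernel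

theorem turn_words : (turnT.all fun w => Wok K6 w && chkConj K6 (lift0 w) (inv0 w) fT (turned w fT)) = true := by
  rw [turn_split]
  simp only [List.all_append, turn_chunk0, turn_chunk1, turn_chunk2, turn_chunk3, turn_chunk4, turn_chunk5, Bool.and_self]

theorem turn_ok : chkTurn = true := by
  simp only [chkTurn, turn_words, turn_fib, turn_nodup, turn_sizes.1, turn_sizes.2.1, turn_sizes.2.2, decide_true,
    Bool.and_self]

/-- The index of the conjugates of `t`. -/
abbrev TI : Type := Fin turnT.length × Fin fib.length × Bool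

theorem card_TI : Nat.card TI = 6480 := by
  have h := turn_ok
  simp only [chkTurn, Bool.and_eq_true, decide_eq_true_eq] at h
  obtain ⟨⟨-, hlen⟩, hflen⟩ := h
  rw [Nat.card_prod, Nat.card_prod, Nat.card_fin, Nat.card_fin, hlen, hflen,
    Nat.card_eq_fintype_card (α := Bool), Fintype.card_bool]

omit [Finite G] in
theorem act_conj_congr (h : Code K6 z Q cd) {γ d d' : G} (hγ : γ * z = z * γ) (hd : d * z = z * d)
    (hd' : d' * z = z * d') (e : ∀ a < 2 ^ K6.n, h.act d a = h.act d' a) {a : ℕ} (ha : a < 2 ^ K6.n) :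
    h.act (γ * d * γ⁻¹) a = h.act (γ * d' * γ⁻¹) a := by
  have hb := h.act_lt (comm_inv hγ) a
  rw [h.act_mul (comm_mul hγ hd) (comm_inv hγ) ha, h.act_mul hγ hd hb,
    h.act_mul (comm_mul hγ hd') (comm_inv hγ) ha, h.act_mul hγ hd' hb, e _ hb]

theorem codeNum_eq {f g : List ℕ} (hf : f.length = K6.n) (hg : g.length = K6.n)
    (e : ∀ i < K6.n, f.getD i 0 / 2 = g.getD i 0 / 2) : codeNum f = codeNum g := by
  have hm : f.map (· / 2) = g.map (· / 2) := by
    refine List.ext_getElem (by simp [hf, hg]) fun i hi hi' => ?_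
    simp only [List.length_map] at hi hi'
    simpa [List.getD_eq_getElem, hi, hi'] using e i (hf ▸ hi)
  have key : ∀ l : List ℕ, codeNum l = (l.map (· / 2)).foldl (fun n x => n * 64 + x) 0 := fun l => by
    rw [List.foldl_map]; rfl
  rw [key, key, hm]

theorem fib_id : ∀ p ∈ fib, cmp K6 p.1 (idH K6) = p.1 := by decide +kernel

/-- Distinct indices give distinct conjugates of `t`. -/
theorem Setting.exists_turns (S : Setting z Q cd) :
    ∃ u : TI → G, (∀ p, u p * z = z * u p) ∧ Function.Injective (fun p => u p * tOf S * (u p)⁻¹) := by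
  classical
  have h := turn_ok
  simp only [chkTurn, Bool.and_eq_true, List.all_eq_true, decide_eq_true_eq, beq_iff_eq, pts, List.mem_range] at h
  obtain ⟨⟨⟨⟨⟨hw, hnd⟩, hfib⟩, hfnd⟩, -⟩, -⟩ := h
  choose γ hγ using fun i : Fin turnT.length => exists_lift0 S.code (hw _ (List.getElem_mem i.2)).1
  choose g hg hgt using fun j : Fin fib.length => exists_fibTurn S (List.getElem_mem j.2)
  obtain ⟨r, hr, hrt⟩ := tOf_swap S
  refine ⟨fun p => γ p.1 * g p.2.1 * if p.2.2 then r else 1, fun p => comm_mul (comm_mul (hγ _).comm (hg _).comm) (by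
    cases p.2.2
    · simp
    · simpa using hr), ?_⟩
  set t := tOf S
  have expand : ∀ q : TI, (γ q.1 * g q.2.1 * if q.2.2 then r else 1) * t * (γ q.1 * g q.2.1 * if q.2.2 then r else 1)⁻¹ =
      γ q.1 * (g q.2.1 * t * (g q.2.1)⁻¹) * (γ q.1)⁻¹ * if q.2.2 then z else 1 := by
    rintro ⟨i, j, b⟩
    cases b
    · simp; group
    · simp only [if_true]
      calc γ i * g j * r * t * (γ i * g j * r)⁻¹ = γ i * g j * (r * t * r⁻¹) * (γ i * g j)⁻¹ := by group
        _ = γ i * g j * t * (z * (γ i * g j)⁻¹) := by rw [hrt]; group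
        _ = _ := by rw [← comm_inv (comm_mul (hγ i).comm (hg j).comm)]; group
  have hcz : ∀ i j, (γ i * (g j * t * (g j)⁻¹) * (γ i)⁻¹) * z = z * (γ i * (g j * t * (g j)⁻¹) * (γ i)⁻¹) :=
    fun i j => comm_mul (comm_mul (hγ i).comm (hgt j).comm) (comm_inv (hγ i).comm)
  have hwi : ∀ i : Fin turnT.length, IsHat S.code (γ i * t * (γ i)⁻¹) (turned turnT[i] fT) := fun i =>
    (hγ i).conj (tOf_hat S) (hw _ (List.getElem_mem i.2)).2
  have hactj : ∀ i j, ∀ a < 2 ^ K6.n, S.code.act (γ i * (g j * t * (g j)⁻¹) * (γ i)⁻¹) a =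
      S.code.act (γ i * t * (γ i)⁻¹) a := fun i j a ha =>
    act_conj_congr S.code (hγ i).comm (hgt j).comm (tOf_comm S) (fun b hb => by
      rw [(hgt j).act_eq hb, hfib _ (List.getElem_mem j.2) b hb, (tOf_acts S).2 b hb]) ha
  intro p p' e
  simp only [expand] at e
  obtain ⟨i, j, b⟩ := p
  obtain ⟨i', j', b'⟩ := p'
  dsimp only at e
  have hii : i = i' := by
    have hza : ∀ i j (b : Bool), ∀ a < 2 ^ K6.n,
        S.code.act (γ i * (g j * t * (g j)⁻¹) * (γ i)⁻¹ * if b then z else 1) a =
          S.code.act (γ i * t * (γ i)⁻¹) a := by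
      intro i j b a ha
      rw [← hactj i j a ha]
      cases b
      · simp
      · rw [if_pos rfl, S.code.act_mul (hcz i j) rfl ha, (S.code.mem_iff (rfl : z * z = z * z)).1 S.code.ext.mem a ha]
    have hcode : ∀ k < K6.n, (turned turnT[i] fT).getD k 0 / 2 = (turned turnT[i'] fT).getD k 0 / 2 := by
      intro k hk
      have ha : 2 ^ k < 2 ^ K6.n := Nat.pow_lt_pow_right (by norm_num) hk
      have h2 := (idH_spec (K := K6) hk).2
      have key : ∀ i : Fin turnT.length, S.code.act (γ i * t * (γ i)⁻¹) (2 ^ k) = (turned turnT[i] fT).getD k 0 / 2 :=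
        fun i => by
          rw [← cd_el S.code ((hwi i).lt k hk), ← (hwi i).eq k hk, ← S.code.act_cd (hwi i).comm (el_mem _ _),
            cd_el S.code h2, Nat.mul_div_cancel_left _ two_pos]
      rw [← key, ← key, ← hza i j b _ ha, e, hza i' j' b' _ ha]
    have hii' := List.nodup_iff_injective_getElem.1 hnd
    exact Fin.ext (congrArg Fin.val (@hii' ⟨i, by simp⟩ ⟨i', by simp⟩ (by
      simp only [List.getElem_map]
      exact codeNum_eq (hwi i).len (hwi i').len hcode)) :)
  subst hii
  have e2 : g j * t * (g j)⁻¹ * (if b then z else 1) = g j' * t * (g j')⁻¹ * (if b' then z else 1) := by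
    have hz : ∀ (b : Bool), (γ i)⁻¹ * (if b then z else 1) = (if b then z else 1) * (γ i)⁻¹ := fun b => by
      cases b
      · simp
      · simpa using comm_inv (hγ i).comm
    simp only [mul_assoc (γ i * _), hz] at e
    simp only [← mul_assoc] at e
    have := mul_right_cancel e
    simp only [mul_assoc] at this ⊢
    exact mul_left_cancel this
  have hzb : ∀ (j : Fin fib.length) (b : Bool), IsHat S.code (g j * t * (g j)⁻¹ * if b then z else 1) fib[j].1 := by
    intro j b
    cases b
    · simpa using hgt j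
    · rw [if_pos rfl]
      exact ((hgt j).mul (isHat_z S.code)).ext_hat (fib_id _ (List.getElem_mem j.2))
  have hjj : j = j' := by
    have := (hzb j b).ext_eq (e2 ▸ hzb j' b')
    have hinj := List.nodup_iff_injective_getElem.1 hfnd
    exact Fin.ext (congrArg Fin.val (@hinj ⟨j, by simp⟩ ⟨j', by simp⟩ (by simpa using this)) :)
  subst hjj
  have := mul_left_cancel e2
  have hb : b = b' := by cases b <;> cases b' <;> simp_all [S.code.ne, Ne.symm S.code.ne]
  rw [hb]

/-- At most 512 elements of the centralizer of `z` centralize `t`. -/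
theorem Setting.card_le (S : Setting z Q cd) :
    Nat.card (Subgroup.centralizer ({z} : Set G) ⊓ Subgroup.centralizer ({tOf S} : Set G) : Subgroup G) ≤ 512 := by
  classical
  obtain ⟨u, huz, hinj⟩ := Setting.exists_turns S
  set M : Subgroup G := Subgroup.centralizer ({z} : Set G) ⊓ Subgroup.centralizer ({tOf S} : Set G)
  let F : TI × M → Subgroup.centralizer ({z} : Set G) := fun p =>
    ⟨u p.1 * (p.2 : G), mul_mem (Subgroup.mem_centralizer_singleton_iff.2 (huz p.1)) p.2.2.1⟩
  have hs : ∀ s : M, (s : G) * tOf S * (s : G)⁻¹ = tOf S := fun s =>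
    mul_inv_eq_iff_eq_mul.2 (Subgroup.mem_centralizer_singleton_iff.1 s.2.2)
  have hF : Function.Injective F := by
    rintro ⟨p, s⟩ ⟨p', s'⟩ e
    have e0 : u p * (s : G) = u p' * (s' : G) := congrArg Subtype.val e
    have : p = p' := hinj (by
      calc u p * tOf S * (u p)⁻¹ = u p * ((s : G) * tOf S * (s : G)⁻¹) * (u p)⁻¹ := by rw [hs]
        _ = (u p * s) * tOf S * (u p * s)⁻¹ := by group
        _ = (u p' * s') * tOf S * (u p' * s')⁻¹ := by rw [e0]
        _ = u p' * ((s' : G) * tOf S * (s' : G)⁻¹) * (u p')⁻¹ := by group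
        _ = _ := by rw [hs])
    subst this
    exact Prod.ext rfl (Subtype.ext (mul_left_cancel e0))
  have := Nat.card_le_card_of_injective F hF
  rw [Setting.card_C S, Nat.card_prod, card_TI] at this
  omega

end Cfsg.Agent.Invol.Suz.Loc
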