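import Cfsg.Agent.Lib.Invol.Suz.Loc.CentData

/-!
# The involutions of the centralizer of `z`
-/

set_option autoImplicit false
set_option linter.unusedSectionVars false

namespace Cfsg.Agent.Invol.Suz.Loc

open Cfsg Cfsg.Agent.Classical.BinCoc Cfsg.Agent.Invol.Big Cfsg.Agent.Invol.Big.Code

variable {G : Type*} [Group G] [Finite G] {z : G} {Q : Subgroup G} {cd : G → ℕ}

/-- The action attached to a singular line. -/
def lin (a b x : ℕ) : ℕ := x ^^^ (if bq K6 x b then a else 0) ^^^ (if bq K6 x a then b else 0)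

/-- A line of the first action. -/
def lineA : ℕ × ℕ := (2, 53)

/-- The turning hats of the fibre over the second action. -/
def fibTurn (p : List ℕ × List ℕ × ℕ) : List ℕ := cmp K6 (lift0 p.2.1) (innH K6 p.2.2)

/-- The preimage list of a conjugate of the second base. -/
def turned (w : List ℕ) (f : List ℕ) : List ℕ := conjW w f

/-- The codes of a hat, as one number. -/
def codeNum (f : List ℕ) : ℕ := f.foldl (fun n x => n * 64 + x / 2) 0

theorem cls_mem (x : G) (h : Code K6 z Q cd) (hx : x * z = z * x) (hx2 : x * x = 1) (hxQ : x ∉ Q)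
    {H : Subgroup G} (hH : IsTwoFull z Q H)
    (hact : ∀ x ∈ H, ∃ ix ∈ sd.elems, ∀ a < 2 ^ K6.n, h.act x a = wd K6 (ewd sd ix) a) :
    ∃ c, c * z = z * c ∧ (h.Acts (c * x * c⁻¹) (wd K6 wA) ∨ h.Acts (c * x * c⁻¹) (wd K6 ed.sw)) := by
  obtain ⟨c, hc, σ, hσ, hA⟩ := h.classify hH hact cls_ok hx hx2 hxQ
  refine ⟨c, hc, ?_⟩
  rcases List.mem_cons.1 hσ with rfl | hσ
  · exact Or.inl hA
  · rw [List.mem_singleton.1 hσ] at hA; exact Or.inr hA

theorem Setting.kinds (S : Setting z Q cd) {x : G} (hx : x * z = z * x) (hx2 : x * x = 1) (hxQ : x ∉ Q) :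
    ∃ c, c * z = z * c ∧ (S.code.Acts (c * x * c⁻¹) (wd K6 wA) ∨ S.code.Acts (c * x * c⁻¹) (wd K6 ed.sw)) := by
  obtain ⟨H, hH, hact⟩ := S.code.exists_syl syl_ok (by decide : Odd 405) S.card
  exact cls_mem x S.code hx hx2 hxQ hH hact

omit [Finite G] in
theorem invol_conj (c : G) {x : G} (hx : x * x = 1) : c * x * c⁻¹ * (c * x * c⁻¹) = 1 := by
  rw [conj_mul, hx, mul_one, mul_inv_cancel]

/-- The second action is not that of a conjugate of `z`. -/
theorem Setting.notConj_C (S : Setting z Q cd) {s : G} (hs : S.code.Acts s (wd K6 ed.sw)) (hs2 : s * s = 1) :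
    ¬ IsConj z s := by
  classical
  have hbig : ∀ y : G, y * z = z * y → y * y = 1 → y ∉ Q →
      16 ≤ Nat.card (Q ⊓ Subgroup.centralizer ({y} : Set G) : Subgroup G) := by
    intro y hy hy2 hyQ
    obtain ⟨c, hc, hA⟩ := Setting.kinds S hy hy2 hyQ
    have h16 : 16 ≤ Nat.card (Q ⊓ Subgroup.centralizer ({c * y * c⁻¹} : Set G) : Subgroup G) := by
      rcases hA with hA | hA
      · exact S.code.card_cent bas_A ker_A hA (invol_conj c hy2)
      · exact S.code.card_cent bas_C ker_C hA (invol_conj c hy2)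
    refine h16.trans (Nat.card_le_card_of_injective (fun w => (⟨c⁻¹ * w.1 * c, ?_, ?_⟩ :
      (Q ⊓ Subgroup.centralizer ({y} : Set G) : Subgroup G))) fun a b e => Subtype.ext ?_)
    · simpa using S.code.ext.norm c⁻¹ (comm_inv hc) w.1 w.2.1
    · refine Subgroup.mem_centralizer_singleton_iff.2 ?_
      obtain ⟨w, hw⟩ := w
      have := Subgroup.mem_centralizer_singleton_iff.1 hw.2
      calc c⁻¹ * w * c * y = c⁻¹ * (w * (c * y * c⁻¹)) * c := by group
        _ = c⁻¹ * ((c * y * c⁻¹) * w) * c := by rw [this]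
        _ = y * (c⁻¹ * w * c) := by group
    · simpa using congrArg Subtype.val e
  exact S.code.notConj S.big pair_ok S.moves wok_C ne_C star_ok starPair_ok v1_ok bas_C bound_C hbig hs hs2

/-- Involutions with the first action are conjugate to `z`. -/
theorem Setting.isConj_A (S : Setting z Q cd) {x : G} (hx : S.code.Acts x (wd K6 wA)) (hx2 : x * x = 1) :
    IsConj z x := by
  obtain ⟨g, hg, hne⟩ := S.moves
  obtain ⟨y, hyc, hyz, hy2, hyQ⟩ := S.code.exists_outside S.big pair_ok hg hne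
  have hy1 : y ≠ 1 := fun e => hyQ (e ▸ one_mem _)
  obtain ⟨c, hc, hyA⟩ := Setting.kinds S hyz hy2
    hyQ
  have hzy : IsConj z (c * y * c⁻¹) :=
    (S.code.isConj_z_Qc pair_ok S.moves hyc hy2 hy1).trans (isConj_iff.2 ⟨c, rfl⟩)
  have hyA := hyA.resolve_right fun hC => Setting.notConj_C S hC (invol_conj c hy2) hzy
  set s1 := c * y * c⁻¹ with hs1
  have hs12 : s1 * s1 = 1 := invol_conj c hy2
  have hs1z : IsConj z (s1 * z) := by
    have hg' : (c * g) * z * (c * g)⁻¹ ∈ Q := by
      rw [show c * g * z * (c * g)⁻¹ = c * (g * z * g⁻¹) * c⁻¹ by group]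
      exact S.code.ext.norm c hc _ hg
    have hs1Q : s1 ∈ Qc Q (c * g) := mem_Qc.2 (by
      rw [hs1, show (c * g)⁻¹ * (c * y * c⁻¹) * (c * g) = g⁻¹ * y * g by group]
      exact mem_Qc.1 hyc)
    refine S.code.isConj_z_Qc pair_ok S.moves (mul_mem hs1Q (S.code.symm S.big hg')) ?_ ?_
    · rw [sq_mul_z S.code hyA.1, hs12]
    · intro e
      exact hyA.not_mem ne_A (by rw [eq_inv_of_mul_eq_one_left e]; exact inv_mem S.code.ext.mem)
  rcases S.code.conj_or wok_gA wok_gA2 bas_A coset_A hyA hs12 hx hx2 with e | e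
  · exact hzy.trans e
  · exact hs1z.trans e

/-- A chosen element over the second base. -/
noncomputable def tOf (S : Setting z Q cd) : G := Classical.choose (Setting.sq_bases S 2).2

theorem tOf_hat (S : Setting z Q cd) : IsHat S.code (tOf S) fT :=
  Classical.choose_spec (Setting.sq_bases S 2).2

theorem tOf_sq (S : Setting z Q cd) : tOf S * tOf S = 1 := by
  simpa using (Setting.sq_bases S 2).1 _ (tOf_hat S)

theorem tOf_comm (S : Setting z Q cd) : tOf S * z = z * tOf S := (tOf_hat S).comm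

theorem acts_ok : ((pts K6).all fun a =>
    ap K6 fA (2 * a) / 2 == wd K6 wA a && ap K6 fA (2 * a) / 2 == lin lineA.1 lineA.2 a &&
      ap K6 fT (2 * a) / 2 == wd K6 ed.sw a) = true := by decide +kernel

theorem tOf_acts (S : Setting z Q cd) : S.code.Acts (tOf S) (wd K6 ed.sw) := by
  refine ⟨tOf_comm S, fun a ha => ?_⟩
  have := acts_ok
  simp only [List.all_eq_true, pts, List.mem_range, Bool.and_eq_true, beq_iff_eq] at this
  rw [(tOf_hat S).act_eq ha, (this a ha).2]

theorem not_conj_t (S : Setting z Q cd) : ¬ IsConj z (tOf S) :=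
  Setting.notConj_C S (tOf_acts S) (tOf_sq S)

theorem tOf_ne_one (S : Setting z Q cd) : tOf S ≠ 1 := (tOf_hat S).ne_one (by decide +kernel)

theorem tOf_order (S : Setting z Q cd) : orderOf (tOf S) = 2 :=
  by
  haveI : Fact (Nat.Prime 2) := ⟨Nat.prime_two⟩
  exact orderOf_eq_prime_iff.mpr ⟨by rw [pow_two]; exact tOf_sq S, tOf_ne_one S⟩

/-- `t` is conjugate to `t z` inside the centralizer. -/
theorem tOf_swap (S : Setting z Q cd) : ∃ r, r * z = z * r ∧ r * tOf S * r⁻¹ = tOf S * z := by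
  have hr := S.code.ext.central _ (el_mem S.code 2)
  refine ⟨el S.code 2, hr, ?_⟩
  have e := (tOf_hat S).app 2
  rw [show ap K6 fT 2 = 3 by decide +kernel, show (3 : ℕ) = 2 ^^^ 1 from rfl, el_xor_one] at e
  have e' : tOf S * el S.code 2 = el S.code 2 * z * tOf S := mul_inv_eq_iff_eq_mul.1 e
  calc el S.code 2 * tOf S * (el S.code 2)⁻¹ = el S.code 2 * z * tOf S * z * (el S.code 2)⁻¹ := by
        calc el S.code 2 * tOf S * (el S.code 2)⁻¹ = el S.code 2 * (z * z) * tOf S * (el S.code 2)⁻¹ := by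
              rw [S.code.ext.zz, mul_one]
          _ = el S.code 2 * z * (z * tOf S) * (el S.code 2)⁻¹ := by group
          _ = _ := by rw [← tOf_comm S]; group
    _ = tOf S * el S.code 2 * z * (el S.code 2)⁻¹ := by rw [e']
    _ = tOf S * (el S.code 2 * z * (el S.code 2)⁻¹) := by group
    _ = tOf S * z := by rw [hr, mul_inv_cancel_right]

/-- Every involutive preimage list over the second action is listed. -/
def chkFib : Bool :=
  (fib.all fun p => Wok K6 p.2.1 && decide (p.2.2 < 64) && (conjH (fibTurn p) fT == p.1) &&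
    chkConj K6 (fibTurn p) (invH (fibTurn p)) fT p.1) &&
  (pts K6).all fun a => !(mulP K6 (ap K6 fT (2 * a)) (2 * a) == 0) || (fib.map Prod.fst).contains (cmp K6 fT (innH K6 a))

theorem fib_ok : chkFib = true := by decide +kernel

theorem exists_fibTurn (S : Setting z Q cd) {p : List ℕ × List ℕ × ℕ} (hp : p ∈ fib) :
    ∃ g, IsHat S.code g (fibTurn p) ∧ IsHat S.code (g * tOf S * g⁻¹) p.1 := by
  have h := fib_ok
  simp only [chkFib, Bool.and_eq_true, List.all_eq_true, decide_eq_true_eq, beq_iff_eq] at h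
  obtain ⟨⟨⟨hw, hr⟩, -⟩, hc⟩ := h.1 p hp
  obtain ⟨g, hg⟩ := exists_lift0 S.code hw
  have hrn : 2 * p.2.2 < 2 ^ (K6.n + 1) := by rw [K6_n]; omega
  have := hg.mul (isHat_el S.code hrn)
  rw [Nat.mul_div_cancel_left _ two_pos] at this
  exact ⟨_, this, this.conj (tOf_hat S) hc⟩

/-- Involutions with the second action are conjugate to `t` in the centralizer. -/
theorem Setting.conj_t_of_acts (S : Setting z Q cd) {x : G} (hx : S.code.Acts x (wd K6 ed.sw)) (hx2 : x * x = 1) :
    ∃ c, c * z = z * c ∧ c * tOf S * c⁻¹ = x := by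
  set h := S.code
  have hT := tOf_acts S
  have hq : (tOf S)⁻¹ * x ∈ Q := (h.mem_iff (comm_mul (comm_inv hT.1) hx.1)).2 fun a ha => by
    rw [h.act_mul (comm_inv hT.1) hx.1 ha, hx.2 a ha, ← hT.2 a ha, h.act_inv_left hT.1 ha]
  obtain ⟨y, hy, hye⟩ := exists_el h hq
  have hxy : x = tOf S * el h y := by rw [hye]; group
  have hhat := ((tOf_hat S).mul (isHat_el h hy))
  have hzero : mulP K6 (ap K6 fT (2 * (y / 2))) (2 * (y / 2)) = 0 := by
    have hm : y / 2 < 2 ^ K6.n := cd_el_lt h hy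
    have h2 : 2 * (y / 2) < 2 ^ (K6.n + 1) := by rw [pow_succ]; omega
    refine el_inj h (mulP_lt ((tOf_hat S).app_lt _) h2) (Nat.two_pow_pos _) ?_
    rw [el_zero, ← el_mul, ← (tOf_hat S).app]
    set u := el h (2 * (y / 2))
    obtain ⟨e, he⟩ : ∃ e : Bool, el h y = u * (if e then z else 1) := by
      rcases Nat.mod_two_eq_zero_or_one y with e | e
      · exact ⟨false, by simp [u, show 2 * (y / 2) = y by omega]⟩
      · refine ⟨true, ?_⟩
        show el h y = el h (2 * (y / 2)) * z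
        rw [← el_xor_one, Nat.xor_one_of_even (even_two_mul _), show 2 * (y / 2) + 1 = y by omega]
    have hu : tOf S * u * (tOf S)⁻¹ * u = 1 := by
      have hsq : tOf S * u * (tOf S * u) = 1 := by
        rw [hxy, he] at hx2
        cases e
        · simpa using hx2
        · simp only [if_true, ← mul_assoc (tOf S)] at hx2
          rwa [sq_mul_z h (comm_mul (tOf_comm S) (h.ext.central _ (el_mem h _)))] at hx2
      calc tOf S * u * (tOf S)⁻¹ * u = tOf S * u * (tOf S * u) := by
            rw [show (tOf S)⁻¹ = tOf S from inv_eq_of_mul_eq_one_right (tOf_sq S)]; group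
        _ = 1 := hsq
    exact hu
  have hf := fib_ok
  simp only [chkFib, Bool.and_eq_true, List.all_eq_true, Bool.or_eq_true, Bool.not_eq_true', beq_eq_false_iff_ne,
    List.contains_iff_mem, List.mem_map, pts, List.mem_range] at hf
  rcases hf.2 (y / 2) (cd_el_lt h hy) with e | ⟨p, hp, hpe⟩
  · exact absurd hzero e
  obtain ⟨g, hg, hgt⟩ := exists_fibTurn S hp
  rw [hpe] at hgt
  rw [← hxy] at hhat
  rcases hgt.cancel hhat with e | e
  · exact ⟨g, hg.comm, e.symm⟩
  · obtain ⟨r, hr, hrt⟩ := tOf_swap S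
    refine ⟨g * r, comm_mul hg.comm hr, ?_⟩
    calc g * r * tOf S * (g * r)⁻¹ = g * (r * tOf S * r⁻¹) * g⁻¹ := by group
      _ = g * tOf S * g⁻¹ * (g * z * g⁻¹) := by rw [hrt]; group
      _ = x := by rw [hg.comm, mul_inv_cancel_right, e]

/-- The involutions of the centralizer that are not conjugates of `z`. -/
theorem Setting.conj_t (S : Setting z Q cd) {x : G} (hx : x * z = z * x) (hx2 : x * x = 1) (hx1 : x ≠ 1)
    (hn : ¬ IsConj z x) : ∃ c, c * z = z * c ∧ c * tOf S * c⁻¹ = x := by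
  have hxQ : x ∉ Q := fun hq => hn (by
    by_cases e : x = z
    · rw [e]
    · exact S.code.isConj_z pair_ok S.moves ⟨hq, hx2, hx1, e⟩)
  obtain ⟨c, hc, hA | hC⟩ := Setting.kinds S hx hx2 hxQ
  · exact absurd ((Setting.isConj_A S hA (invol_conj c hx2)).trans (isConj_iff.2 ⟨c, rfl⟩).symm) hn
  obtain ⟨d, hd, hde⟩ := Setting.conj_t_of_acts S hC (invol_conj c hx2)
  refine ⟨c⁻¹ * d, comm_mul (comm_inv hc) hd, ?_⟩
  calc c⁻¹ * d * tOf S * (c⁻¹ * d)⁻¹ = c⁻¹ * (d * tOf S * d⁻¹) * c := by group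
    _ = x := by rw [hde]; group

theorem Setting.two_class (S : Setting z Q cd) (x : G) (hx : orderOf x = 2) : IsConj x z ∨ IsConj x (tOf S) := by
  classical
  have hx2 : x * x = 1 := by rw [← pow_two, ← hx, pow_orderOf_eq_one]
  have hx1 : x ≠ 1 := fun e => by rw [e, orderOf_one] at hx; omega
  obtain ⟨H, hH, -⟩ := S.code.exists_syl syl_ok (by decide : Odd 405) S.card
  obtain ⟨g, hg⟩ := hH.global S.code hx2
  by_cases e : IsConj z (g * x * g⁻¹)
  · exact Or.inl ((isConj_iff.2 ⟨g, rfl⟩).trans e.symm)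
  obtain ⟨c, -, hc⟩ := Setting.conj_t S (Subgroup.mem_centralizer_singleton_iff.1 (hH.le hg)) (invol_conj g hx2)
    (fun e' => hx1 (conj_eq_one_iff.1 e')) e
  exact Or.inr ((isConj_iff.2 ⟨g, rfl⟩).trans (isConj_iff.2 ⟨c, hc⟩).symm)

/-- The checks on the lines. -/
def chkLines : Bool :=
  (lines.all fun p => Wok K6 p.2.2 && chkConj K6 (lift0 p.2.2) (inv0 p.2.2) fA (turned p.2.2 fA) &&
    (pts K6).all fun a => ap K6 (turned p.2.2 fA) (2 * a) / 2 == lin p.1 p.2.1 a) &&
  ((pts K6).all fun a => (pts K6).all fun b => a == 0 || b == 0 || a == b || K6.q a || K6.q b || bq K6 a b ||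
    lines.any fun p => tab K6 (lin p.1 p.2.1) == tab K6 (lin a b))

theorem lines_ok : chkLines = true := by decide +kernel

/-- The element over a line. -/
noncomputable def dLine (S : Setting z Q cd) (p : ℕ × ℕ × List ℕ) : G :=
  if hp : Wok K6 p.2.2 = true then
    Classical.choose (exists_lift0 S.code hp) * Classical.choose (Setting.sq_bases S 1).2 *
      (Classical.choose (exists_lift0 S.code hp))⁻¹
  else 1

theorem dLine_hat (S : Setting z Q cd) {p : ℕ × ℕ × List ℕ} (hp : p ∈ lines) :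
    IsHat S.code (dLine S p) (turned p.2.2 fA) ∧ dLine S p * dLine S p = 1 := by
  have h := lines_ok
  simp only [chkLines, Bool.and_eq_true, List.all_eq_true] at h
  obtain ⟨⟨hw, hc⟩, -⟩ := h.1 p hp
  have hγ := Classical.choose_spec (exists_lift0 S.code hw)
  have hA := Classical.choose_spec (Setting.sq_bases S 1).2
  rw [dLine, dif_pos hw]
  refine ⟨hγ.conj hA hc, invol_conj _ ?_⟩
  simpa using (Setting.sq_bases S 1).1 _ hA

theorem dLine_acts (S : Setting z Q cd) {p : ℕ × ℕ × List ℕ} (hp : p ∈ lines) {a : ℕ} (ha : a < 2 ^ K6.n) :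
    S.code.act (dLine S p) a = lin p.1 p.2.1 a := by
  have h := lines_ok
  simp only [chkLines, Bool.and_eq_true, List.all_eq_true, pts, List.mem_range, beq_iff_eq] at h
  rw [(dLine_hat S hp).1.act_eq ha, (h.1 p hp).2 a ha]

/-- Outside `Q`, conjugates of `z` lie over the lines. -/
theorem Setting.line_of_conj (S : Setting z Q cd) {x : G} (hx : x * z = z * x) (hx2 : x * x = 1) (hxQ : x ∉ Q)
    (hA : IsConj z x) : ∃ p ∈ lines, ∃ y < 128, x = dLine S p * el S.code y := by
  obtain ⟨c, hc, hAc | hC⟩ := Setting.kinds S hx hx2 hxQ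
  swap
  · exact absurd (hA.trans (isConj_iff.2 ⟨c, rfl⟩)) (Setting.notConj_C S hC (invol_conj c hx2))
  set h := S.code
  have hci := comm_inv hc
  have hok := acts_ok
  simp only [List.all_eq_true, pts, List.mem_range, Bool.and_eq_true, beq_iff_eq] at hok
  have l2 : (2 : ℕ) < 2 ^ K6.n := by decide
  have l53 : (53 : ℕ) < 2 ^ K6.n := by decide
  set A := h.act c⁻¹ 2
  set B := h.act c⁻¹ 53
  have hlin : ∀ a < 2 ^ K6.n, h.act x a = lin A B a := by
    intro a ha
    have hca := h.act_lt hc a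
    have e1 : h.act x a = h.act c⁻¹ (lin 2 53 (h.act c a)) := by
      have : x = c⁻¹ * (c * x * c⁻¹) * c := by group
      conv_lhs => rw [this]
      rw [h.act_mul (comm_mul hci hAc.1) hc ha, h.act_mul hci hAc.1 hca, hAc.2 _ hca, ← (hok _ hca).1.1,
        (hok _ hca).1.2]
      rfl
    have hb : ∀ v < 2 ^ K6.n, bq K6 (h.act c a) v = bq K6 a (h.act c⁻¹ v) := fun v hv => by
      conv_rhs => rw [← h.bq_act hc ha (h.act_lt hci v), h.act_inv_right hc hv]
    rw [e1, lin, hb _ l53, hb _ l2]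
    have hz0 : h.act c⁻¹ 0 = 0 := by simpa using h.act_xor hci (Nat.two_pow_pos K6.n) (Nat.two_pow_pos K6.n)
    have hA' : ∀ (b : Bool) (v : ℕ), v < 2 ^ K6.n → (if b then v else 0) < 2 ^ K6.n := fun b v hv => by
      cases b <;> simp [hv]
    rw [h.act_xor hci (Nat.xor_lt_two_pow hca (hA' _ _ l2)) (hA' _ _ l53), h.act_xor hci hca (hA' _ _ l2),
      h.act_inv_left hc ha, apply_ite (h.act c⁻¹), apply_ite (h.act c⁻¹), hz0]
    rfl
  have h0 : ∀ {a}, a < 2 ^ K6.n → a ≠ 0 → h.act c⁻¹ a ≠ 0 := fun {a} ha hne e => by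
    have := h.act_inv_right hc ha
    rw [e] at this
    exact hne (this.symm.trans (by simpa using h.act_xor hc (Nat.two_pow_pos K6.n) (Nat.two_pow_pos K6.n)))
  have hAB : A ≠ B := fun e => by
    have := congrArg (h.act c) e
    rw [h.act_inv_right hc l2, h.act_inv_right hc l53] at this
    exact absurd this (by decide)
  have hk := lines_ok
  simp only [chkLines, Bool.and_eq_true, List.all_eq_true, pts, List.mem_range, Bool.or_eq_true, beq_iff_eq,
    List.any_eq_true] at hk
  rcases hk.2 A (h.act_lt hci _) B (h.act_lt hci _) with (((((e | e) | e) | e) | e) | e) | ⟨p, hp, hpe⟩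
  · exact absurd e (h0 l2 (by decide))
  · exact absurd e (h0 l53 (by decide))
  · exact absurd e hAB
  · rw [h.act_q hci l2] at e; exact absurd e (by decide +kernel)
  · rw [h.act_q hci l53] at e; exact absurd e (by decide +kernel)
  · rw [h.bq_act hci l2 l53] at e; exact absurd e (by decide +kernel)
  have hd := (dLine_hat S hp).1.comm
  have hq : (dLine S p)⁻¹ * x ∈ Q := (h.mem_iff (comm_mul (comm_inv hd) hx)).2 fun a ha => by
    rw [h.act_mul (comm_inv hd) hx ha, hlin a ha, ← (tab_eq_iff K6).1 hpe a ha, ← dLine_acts S hp ha,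
      h.act_inv_left hd ha]
  obtain ⟨y, hy, hye⟩ := exists_el h hq
  exact ⟨p, hp, y, hy, by rw [hye]; group⟩

end Cfsg.Agent.Invol.Suz.Loc
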