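import Cfsg.Agent.Lib.Invol.Suz.Loc.LocalD
import Mathlib

/-!
# The centralizer of the five-element of the centralizer of `z`
-/

set_option autoImplicit false
set_option linter.unusedSectionVars false
set_option linter.style.haveILetI false

namespace Cfsg.Agent.Invol.Suz.Loc

open Cfsg Cfsg.Agent.Classical.BinCoc Cfsg.Agent.Invol.Big Cfsg.Agent.Invol.Big.Code

/-- The coded elements fixed by the five-element. -/
def fixB : List ℕ := [0, 1, 2, 3, 72, 73, 74, 75]

/-- The dihedral group of the fixed coded elements. -/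
def dB : DihedralGroup 4 → ℕ
  | .r i => [0, 72, 1, 73].getD i.val 0
  | .sr i => [2, 74, 3, 75].getD i.val 0

theorem dB_mul : ∀ a b : DihedralGroup 4, mulP K6 (dB a) (dB b) = dB (a * b) := by decide +kernel

theorem dB_mem : ∀ a : DihedralGroup 4, dB a ∈ fixB ∧ dB a < 128 := by decide +kernel

theorem dB_surj : ∀ x ∈ fixB, ∃ a : DihedralGroup 4, dB a = x := by decide +kernel

theorem dB_inj : ∀ a b : DihedralGroup 4, dB a = dB b → a = b := by decide +kernel

theorem dB_center : ∀ a : DihedralGroup 4, (∀ b, a * b = b * a) → a = 1 ∨ a = .r 2 := by decide +kernel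

theorem dB_sq : ∀ a : DihedralGroup 4, a * a = 1 → a ≠ 1 → (dB a ≠ 0 ∧ (a = .r 2 ∨ dB a / 2 ≠ 0)) := by decide +kernel

/-- The checks on the five-element. -/
def chkFive : Bool :=
  ((List.range 128).all fun x => (ap K6 bh x == x) == fixB.contains x) &&
  ((pts K6).all fun a => ap K6 bh (2 * a) / 2 == wd K6 wb a) &&
  (sd.elems.all fun ix => ((pts K6).filter fun a => wd K6 (ewd sd ix) a == a).length != 32) &&
  (((pts K6).filter fun a => tr K6 36 a == a).length == 32)

theorem five_ok : chkFive = true := by decide +kernel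

variable {G : Type*} [Group G] [Finite G] {z : G} {Q : Subgroup G} {cd : G → ℕ} {β : G}

theorem Setting.beta_comm (S : Setting z Q cd) (hβ : IsHat S.code β bh) : β * z = z * β := hβ.comm

theorem Setting.act_beta (S : Setting z Q cd) (hβ : IsHat S.code β bh) :
    ∀ j : ℕ, β ^ j * z = z * β ^ j ∧ ∀ a < 2 ^ K6.n, S.code.act (β ^ j) a = bIt j a := by
  have h := five_ok
  simp only [chkFive, Bool.and_eq_true, List.all_eq_true, pts, List.mem_range, beq_iff_eq] at h
  intro j
  refine ⟨((show Commute β z from hβ.comm).pow_left j).eq, ?_⟩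
  induction j with
  | zero => exact fun a ha => by rw [pow_zero, S.code.act_one ha]; rfl
  | succ j ih =>
    intro a ha
    have hc : β ^ j * z = z * β ^ j := ((show Commute β z from hβ.comm).pow_left j).eq
    rw [pow_succ', S.code.act_mul hβ.comm hc ha, hβ.act_eq (S.code.act_lt hc a),
      h.1.1.2 _ (S.code.act_lt hc a), ih a ha]
    rfl

/-- The transvection is not induced. -/
theorem Setting.no_tr (S : Setting z Q cd) {u : G} (hu : u * z = z * u)
    (ha : ∀ a < 2 ^ K6.n, S.code.act u a = tr K6 36 a) : False := by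
  classical
  haveI : Fact (Nat.Prime 2) := ⟨Nat.prime_two⟩
  have h := five_ok
  simp only [chkFive, Bool.and_eq_true, List.all_eq_true, beq_iff_eq, bne_iff_ne] at h
  obtain ⟨⟨-, hne⟩, h32⟩ := h
  have htt : ∀ a < 2 ^ K6.n, tr K6 36 (tr K6 36 a) = a := by
    have : (pts K6).all (fun a => tr K6 36 (tr K6 36 a) == a) = true := by decide +kernel
    simpa [pts] using this
  have hu2 : u * u ∈ Q := (S.code.mem_iff (comm_mul hu hu)).2 fun a ha' => by
    rw [S.code.act_mul hu hu ha', ha _ (S.code.act_lt hu a), ha a ha', htt a ha']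
  obtain ⟨H, hH, hact⟩ := S.code.exists_syl syl_ok (by decide : Odd 405) S.card
  set C := Subgroup.centralizer ({z} : Set G)
  set u' : C := ⟨u, Subgroup.mem_centralizer_singleton_iff.2 hu⟩
  have hP : IsPGroup 2 (Subgroup.zpowers u') := by
    have hQ : Nat.card Q = 2 ^ 7 := Setting.card_Q S
    have h7 : (u * u) ^ 2 ^ 7 = 1 :=
      orderOf_dvd_iff_pow_eq_one.1 (hQ ▸ Subgroup.orderOf_dvd_natCard _ hu2)
    obtain ⟨j, -, hj⟩ := (Nat.dvd_prime_pow Nat.prime_two).1
      (orderOf_dvd_of_pow_eq_one (show u ^ 2 ^ 8 = 1 by rw [show 2 ^ 8 = 2 * 2 ^ 7 by norm_num, pow_mul, pow_two, h7]))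
    exact IsPGroup.of_card (n := j) (by rw [Nat.card_zpowers, Subgroup.orderOf_mk, hj])
  obtain ⟨l, hl⟩ := IsPGroup.iff_card.1 hH.two
  have hHC : Nat.card (H.subgroupOf C) = 2 ^ l := by
    rw [Nat.card_congr (Subgroup.subgroupOfEquivOfLe hH.le).toEquiv, hl]
  obtain ⟨P, hP'⟩ := (IsPGroup.of_card hHC).exists_le_sylow
  have hPe : (P : Subgroup C) = H.subgroupOf C := by
    refine (Subgroup.eq_of_le_of_card_ge hP' ?_).symm
    obtain ⟨n, hn⟩ := IsPGroup.iff_card.1 P.isPGroup'
    rw [hn, hHC]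
    refine Nat.pow_le_pow_right (by norm_num) ?_
    by_contra hlt
    exact hH.full l hl ((pow_dvd_pow 2 (by omega : l + 1 ≤ n)).trans (hn ▸ Subgroup.card_subgroup_dvd_card _))
  obtain ⟨R, hR⟩ := hP.exists_le_sylow
  obtain ⟨c, hc⟩ := MulAction.exists_smul_eq C R P
  have hcH : (c : G) * u * (c : G)⁻¹ ∈ H := by
    have : MulAut.conj c u' ∈ (P : Subgroup C) := by
      rw [← hc, Sylow.coe_subgroup_smul]
      exact Subgroup.smul_mem_pointwise_smul u' (MulAut.conj c) _ (hR (Subgroup.mem_zpowers u'))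
    rw [hPe, Subgroup.mem_subgroupOf] at this
    exact this
  obtain ⟨ix, hix, hix'⟩ := hact _ hcH
  have hcz := Subgroup.mem_centralizer_singleton_iff.1 c.2
  refine hne ix hix ?_
  rw [← h32]
  have hnd : ∀ f : ℕ → Bool, ((pts K6).filter f).Nodup := fun f => List.nodup_range.filter _
  rw [← List.toFinset_card_of_nodup (hnd _), ← List.toFinset_card_of_nodup (hnd _)]
  have hy : ∀ a < 2 ^ K6.n, wd K6 (ewd sd ix) a = S.code.act c (tr K6 36 (S.code.act (c : G)⁻¹ a)) := by
    intro a ha'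
    have := S.code.act_lt (comm_inv hcz) a
    rw [← hix' a ha', S.code.act_mul (comm_mul hcz hu) (comm_inv hcz) ha', S.code.act_mul hcz hu this, ha _ this]
  refine Finset.card_bij' (fun a _ => S.code.act (c : G)⁻¹ a) (fun a _ => S.code.act c a) ?_ ?_ ?_ ?_ <;>
    simp only [List.mem_toFinset, List.mem_filter, pts, List.mem_range, beq_iff_eq]
  · rintro a ⟨hlt, hfix⟩
    refine ⟨S.code.act_lt (comm_inv hcz) a, ?_⟩
    rw [hy a hlt] at hfix
    conv_rhs => rw [← hfix]
    rw [S.code.act_inv_left hcz]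
    exact ha _ (S.code.act_lt (comm_inv hcz) a) ▸ S.code.act_lt hu _
  · rintro a ⟨hlt, hfix⟩
    refine ⟨S.code.act_lt hcz a, ?_⟩
    rw [hy _ (S.code.act_lt hcz a), S.code.act_inv_left hcz hlt, hfix]
  · rintro a ⟨hlt, -⟩; exact S.code.act_inv_right hcz hlt
  · rintro a ⟨hlt, -⟩; exact S.code.act_inv_left hcz hlt

theorem Setting.el_fix (S : Setting z Q cd) (hβ : IsHat S.code β bh) {x : ℕ} (hx : x ∈ fixB) :
    el S.code x * β = β * el S.code x := by
  have h := five_ok
  simp only [chkFive, Bool.and_eq_true, List.all_eq_true, List.mem_range, beq_iff_eq] at h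
  have hlt : x < 128 := by simp only [fixB, List.mem_cons, List.not_mem_nil, or_false] at hx; omega
  have := h.1.1.1 x hlt
  rw [show fixB.contains x = true by simpa using hx, beq_iff_eq] at this
  exact (hβ.comm_el this).symm

/-- The centralizer of the five-element in the centralizer of `z`. -/
theorem Setting.cent_five (S : Setting z Q cd) (hβ : IsHat S.code β bh) {u : G} (hu : u * z = z * u)
    (hub : u * β = β * u) : ∃ i < 5, ∃ x ∈ fixB, u = β ^ i * el S.code x := by
  set h := S.code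
  obtain ⟨i, hi5, hi⟩ := comm_classify (h.act u) (fun a _ => h.act_lt hu a)
    (fun a b ha hb => h.act_xor hu ha hb) (fun a ha => h.act_q hu ha) (fun a ha => by
      have hb1 : ∀ a < 2 ^ K6.n, h.act β a = wd K6 wb a := fun a ha => by
        have := (Setting.act_beta S hβ 1).2 a ha
        rwa [pow_one] at this
      rw [← hb1 a ha, ← h.act_mul hu hβ.comm ha, hub, h.act_mul hβ.comm hu ha, hb1 _ (h.act_lt hu a)])
  obtain ⟨hiz, hiact⟩ := Setting.act_beta S hβ i
  rcases hi with hi | ⟨hi, -⟩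
  swap
  · exfalso
    refine Setting.no_tr S (u := u * (β ^ i)⁻¹) (comm_mul hu (comm_inv hiz)) fun a ha => ?_
    have hlt := h.act_lt (comm_inv hiz) a
    rw [h.act_mul hu (comm_inv hiz) ha, hi _ hlt, ← hiact _ hlt, h.act_inv_right hiz ha]
  have hr : (β ^ i)⁻¹ * u ∈ Q := (h.mem_iff (comm_mul (comm_inv hiz) hu)).2 fun a ha => by
    rw [h.act_mul (comm_inv hiz) hu ha, hi a ha, ← hiact a ha, h.act_inv_left hiz ha]
  have hrb : (β ^ i)⁻¹ * u * β = β * ((β ^ i)⁻¹ * u) :=
    ((((Commute.refl β).pow_left i).inv_left).mul_left (show Commute u β from hub)).eq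
  obtain ⟨x, hx, hxe⟩ := exists_el h hr
  refine ⟨i, hi5, x, ?_, by rw [hxe]; group⟩
  have hfix : ap K6 bh x = x := el_inj h (hβ.app_lt x) hx (by rw [← hβ.app, hxe, ← hrb, mul_inv_cancel_right])
  have hok := five_ok
  simp only [chkFive, Bool.and_eq_true, List.all_eq_true, List.mem_range, beq_iff_eq] at hok
  have := hok.1.1.1 x hx
  rw [show (ap K6 bh x == x) = true by simpa using hfix] at this
  simpa using this.symm

/-- Elements of `Q` of order prime to two are trivial. -/
theorem Setting.beta_pow_Q (S : Setting z Q cd) (hb5 : β ^ 5 = 1) {j : ℕ} (hj : β ^ j ∈ Q) : β ^ j = 1 := by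
  refine orderOf_eq_one_iff.1 (Nat.eq_one_of_dvd_coprimes (show Nat.Coprime 5 128 by norm_num) ?_ ?_)
  · exact orderOf_dvd_of_pow_eq_one (by rw [← pow_mul, mul_comm, pow_mul, hb5, one_pow])
  · exact Setting.card_Q S ▸ Subgroup.orderOf_dvd_natCard _ hj

theorem order_five (hb5 : β ^ 5 = 1) (hb1 : β ≠ 1) : orderOf β = 5 :=
  haveI : Fact (Nat.Prime 5) := ⟨by norm_num⟩
  orderOf_eq_prime hb5 hb1

/-- Its order. -/
theorem Setting.card_cent_five (S : Setting z Q cd) (hβ : IsHat S.code β bh) (hb5 : β ^ 5 = 1) (hb1 : β ≠ 1) :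
    Nat.card (cx (Subgroup.centralizer ({z} : Set G)) β) = 40 := by
  have hord := order_five hb5 hb1
  let F : Fin 5 × DihedralGroup 4 → cx (Subgroup.centralizer ({z} : Set G)) β := fun p =>
    ⟨β ^ p.1.val * el S.code (dB p.2), mem_cx.2 ⟨Subgroup.mem_centralizer_singleton_iff.2
      (comm_mul ((show Commute β z from hβ.comm).pow_left _).eq (S.code.ext.central _ (el_mem _ _))),
      (((Commute.refl β).pow_left _).mul_left (show Commute _ β from Setting.el_fix S hβ (dB_mem p.2).1)).eq⟩⟩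
  have hb : Function.Bijective F := by
    refine ⟨?_, fun ⟨u, hu⟩ => ?_⟩
    · rintro ⟨i, a⟩ ⟨i', a'⟩ e
      have e' : β ^ i.val * el S.code (dB a) = β ^ i'.val * el S.code (dB a') := congrArg Subtype.val e
      have key : ∀ (i i' : ℕ) (x x' : ℕ), i' ≤ i → β ^ i * el S.code x = β ^ i' * el S.code x' → β ^ i = β ^ i' := by
        intro i i' x x' hle e
        rw [show i = i' + (i - i') by omega, pow_add, mul_assoc] at e
        have h2 := mul_left_cancel e
        have h3 : β ^ (i - i') = 1 := Setting.beta_pow_Q S hb5 (by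
          rw [eq_mul_inv_of_mul_eq h2]; exact mul_mem (el_mem _ _) (inv_mem (el_mem _ _)))
        rw [show i = i' + (i - i') by omega, pow_add, h3, mul_one]
      have hii : β ^ i.val = β ^ i'.val := by
        rcases le_total i'.val i.val with h | h
        · exact key _ _ _ _ h e'
        · exact (key _ _ _ _ h e'.symm).symm
      rw [hii] at e'
      have hinj := pow_injOn_Iio_orderOf (x := β) (by rw [hord]; exact i.2) (by rw [hord]; exact i'.2) hii
      exact Prod.ext (Fin.ext hinj) (dB_inj _ _ (el_inj S.code (dB_mem a).2 (dB_mem a').2 (mul_left_cancel e')))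
    · obtain ⟨hz, hb⟩ := mem_cx.1 hu
      obtain ⟨i, hi, x, hx, e⟩ := Setting.cent_five S hβ (Subgroup.mem_centralizer_singleton_iff.1 hz) hb
      obtain ⟨a, rfl⟩ := dB_surj x hx
      exact ⟨(⟨i, hi⟩, a), Subtype.ext e.symm⟩
  rw [← Nat.card_eq_of_bijective _ hb, Nat.card_prod, Nat.card_fin, DihedralGroup.nat_card]

/-- The dihedral group of fixed elements. -/
noncomputable def Setting.homB (S : Setting z Q cd) : DihedralGroup 4 →* G :=
  MonoidHom.mk' (fun a => el S.code (dB a)) fun a b => by rw [el_mul, dB_mul]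

theorem Setting.homB_inj (S : Setting z Q cd) : Function.Injective (Setting.homB S) := fun a b e =>
  dB_inj a b (el_inj S.code (dB_mem a).2 (dB_mem b).2 e)

theorem Setting.homB_two (S : Setting z Q cd) : Setting.homB S (.r 2) = z := by
  show el S.code 1 = z
  exact el_one S.code

theorem Setting.homB_invol (S : Setting z Q cd) {a : DihedralGroup 4} (h2 : a * a = 1) (h1 : a ≠ 1) :
    IsConj z (Setting.homB S a) := by
  have hne : Setting.homB S a ≠ 1 := fun e => h1 (Setting.homB_inj S (e.trans (map_one _).symm))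
  have hsq : Setting.homB S a * Setting.homB S a = 1 := by rw [← map_mul, h2, map_one]
  by_cases e : Setting.homB S a = z
  · rw [e]
  · exact S.code.isConj_z pair_ok S.moves ⟨el_mem _ _, hsq, hne, e⟩

/-- An element of order five commuting with `z` is conjugate there into `⟨β⟩`. -/
theorem Setting.into_beta (S : Setting z Q cd) (hβ : IsHat S.code β bh) (hb5 : β ^ 5 = 1) (hb1 : β ≠ 1) {x : G}
    (hx : orderOf x = 5) (hxz : x * z = z * x) : ∃ c, c * z = z * c ∧ c * x * c⁻¹ ∈ Subgroup.zpowers β := by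
  haveI : Fact (Nat.Prime 5) := ⟨by norm_num⟩
  obtain ⟨c, hc, h⟩ := conj_of_part (H := Subgroup.centralizer ({z} : Set G)) (order_five hb5 hb1)
    (Subgroup.mem_centralizer_singleton_iff.2 hβ.comm) hx (Subgroup.mem_centralizer_singleton_iff.2 hxz)
    (by rw [Setting.card_C S]; norm_num)
  exact ⟨c, Subgroup.mem_centralizer_singleton_iff.1 hc, h⟩

/-- The Sylow two-subgroup of the centralizer. -/
theorem Setting.sylow_five (S : Setting z Q cd) (hβ : IsHat S.code β bh) (hb5 : β ^ 5 = 1) :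
    ∃ P : Sylow 2 (Subgroup.centralizer ({β} : Set G)),
      (P : Subgroup (Subgroup.centralizer ({β} : Set G))) =
        (Setting.homB S).range.subgroupOf (Subgroup.centralizer ({β} : Set G)) := by
  haveI : Fact (Nat.Prime 2) := ⟨Nat.prime_two⟩
  set H := Subgroup.centralizer ({β} : Set G)
  set F := (Setting.homB S).range
  have hFH : F ≤ H := by
    rintro _ ⟨a, rfl⟩
    exact Subgroup.mem_centralizer_singleton_iff.2 (Setting.el_fix S hβ (dB_mem a).1)
  have hFp : IsPGroup 2 F := IsPGroup.of_card (n := 3) (by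
    rw [← Nat.card_congr (MonoidHom.ofInjective (Setting.homB_inj S)).toEquiv, DihedralGroup.nat_card]; rfl)
  obtain ⟨P, hP⟩ := (hFp.comap_subtype : IsPGroup 2 (F.subgroupOf H)).exists_le_sylow
  refine ⟨P, ?_⟩
  by_contra hne
  haveI : Group.IsNilpotent (P : Subgroup H) := P.isPGroup'.isNilpotent
  have hlt : (F.subgroupOf H).subgroupOf (P : Subgroup H) < ⊤ := lt_top_iff_ne_top.2 fun e =>
    hne (le_antisymm (Subgroup.subgroupOf_eq_top.1 e) hP)
  obtain ⟨⟨⟨p, hp⟩, hpP⟩, hpn, hpF⟩ := SetLike.exists_of_lt (Group.normalizerCondition_of_isNilpotent _ hlt)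
  simp only [Subgroup.mem_subgroupOf] at hpF
  have hconj : ∀ w ∈ F, p * w * p⁻¹ ∈ F ∧ p⁻¹ * w * p ∈ F := fun w hw => by
    have h1 := (Subgroup.mem_normalizer_iff.1 hpn ⟨⟨w, hFH hw⟩, hP (Subgroup.mem_subgroupOf.2 hw)⟩).1
      (by simpa [Subgroup.mem_subgroupOf] using hw)
    have h2 := (Subgroup.mem_normalizer_iff''.1 hpn ⟨⟨w, hFH hw⟩, hP (Subgroup.mem_subgroupOf.2 hw)⟩).1
      (by simpa [Subgroup.mem_subgroupOf] using hw)
    exact ⟨by simpa [Subgroup.mem_subgroupOf] using h1, by simpa [Subgroup.mem_subgroupOf] using h2⟩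
  have hzF : z ∈ F := ⟨.r 2, Setting.homB_two S⟩
  obtain ⟨a, ha⟩ := (hconj z hzF).1
  have hcent : ∀ b, a * b = b * a := fun b => Setting.homB_inj S (by
    obtain ⟨b', hb'⟩ := (hconj _ ⟨b, rfl⟩).2
    have hzb : z * Setting.homB S b' = Setting.homB S b' * z := (S.code.ext.central _ (el_mem _ _)).symm
    rw [hb'] at hzb
    rw [map_mul, map_mul, ha]
    calc p * z * p⁻¹ * Setting.homB S b = p * (z * (p⁻¹ * Setting.homB S b * p)) * p⁻¹ := by group
      _ = p * ((p⁻¹ * Setting.homB S b * p) * z) * p⁻¹ := by rw [hzb]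
      _ = _ := by group)
  have hpz : p * z = z * p := by
    rcases dB_center a hcent with rfl | rfl
    · rw [map_one] at ha
      exact absurd (conj_eq_one_iff.1 ha.symm) S.code.ne
    · rw [Setting.homB_two] at ha
      exact mul_inv_eq_iff_eq_mul.1 ha.symm
  obtain ⟨i, -, x, hx, e⟩ := Setting.cent_five S hβ hpz (Subgroup.mem_centralizer_singleton_iff.1 hp)
  obtain ⟨b, rfl⟩ := dB_surj x hx
  have hbi : β ^ i = 1 := by
    have hβi : (⟨β ^ i, pow_mem (Subgroup.mem_centralizer_singleton_iff.2 rfl) i⟩ : H) ∈ (P : Subgroup H) := by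
      have hb : (⟨Setting.homB S b, hFH ⟨b, rfl⟩⟩ : H) ∈ (P : Subgroup H) := hP (Subgroup.mem_subgroupOf.2 ⟨b, rfl⟩)
      have := mul_mem hpP (inv_mem hb)
      convert this using 1
      exact Subtype.ext (by simp [e, Setting.homB])
    obtain ⟨k, hk⟩ := P.isPGroup' ⟨_, hβi⟩
    have hk' : (β ^ i) ^ 2 ^ k = 1 := congrArg (fun w : (P : Subgroup H) => ((w : H) : G)) hk
    exact orderOf_eq_one_iff.1 (Nat.eq_one_of_dvd_coprimes (Nat.Coprime.pow_left k (by norm_num : Nat.Coprime 2 5))
      (orderOf_dvd_of_pow_eq_one hk')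
      (orderOf_dvd_of_pow_eq_one (by rw [← pow_mul, mul_comm, pow_mul, hb5, one_pow])))
  exact hpF ⟨b, by rw [e, hbi, one_mul]; rfl⟩

/-- A two-subgroup centralizing the five-element is conjugate there into the dihedral group. -/
theorem Setting.conj_homB (S : Setting z Q cd) (hβ : IsHat S.code β bh) (hb5 : β ^ 5 = 1) {R : Subgroup G}
    (hR : IsPGroup 2 R) (hRb : ∀ w ∈ R, w * β = β * w) :
    ∃ h, h * β = β * h ∧ ∀ w ∈ R, ∃ a, Setting.homB S a = h * w * h⁻¹ := by
  haveI : Fact (Nat.Prime 2) := ⟨Nat.prime_two⟩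
  set H := Subgroup.centralizer ({β} : Set G)
  obtain ⟨P, hP⟩ := Setting.sylow_five S hβ hb5
  obtain ⟨P', hP'⟩ := (hR.comap_subtype : IsPGroup 2 (R.subgroupOf H)).exists_le_sylow
  obtain ⟨h, hh⟩ := MulAction.exists_smul_eq H P' P
  refine ⟨h, Subgroup.mem_centralizer_singleton_iff.1 h.2, fun w hw => ?_⟩
  have h1 : (⟨w, Subgroup.mem_centralizer_singleton_iff.2 (hRb w hw)⟩ : H) ∈ (P' : Subgroup H) :=
    hP' (Subgroup.mem_subgroupOf.2 hw)
  have h2 := Subgroup.smul_mem_pointwise_smul _ (MulAut.conj h) _ h1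
  rw [← Sylow.coe_subgroup_smul, hh, hP, Subgroup.mem_subgroupOf] at h2
  exact h2

theorem zpowers_two_group {w : G} (h2 : w * w = 1) : IsPGroup 2 (Subgroup.zpowers w) := by
  obtain ⟨j, -, hj⟩ := (Nat.dvd_prime_pow Nat.prime_two).1
    (orderOf_dvd_of_pow_eq_one (show w ^ 2 ^ 1 = 1 by rw [pow_one, pow_two, h2]))
  exact IsPGroup.of_card (n := j) (by rw [Nat.card_zpowers, hj])

/-- The involutions centralizing the five-element are conjugates of `z`. -/
theorem Setting.five_invol_A (S : Setting z Q cd) (hβ : IsHat S.code β bh) (hb5 : β ^ 5 = 1) {w : G}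
    (hw : w * β = β * w) (h2 : w * w = 1) (h1 : w ≠ 1) : IsConj z w := by
  obtain ⟨h, -, hh⟩ := Setting.conj_homB S hβ hb5 (zpowers_two_group h2) fun v hv => by
    obtain ⟨k, rfl⟩ := Subgroup.mem_zpowers_iff.1 hv
    exact ((show Commute w β from hw).zpow_left k).eq
  obtain ⟨a, ha⟩ := hh w (Subgroup.mem_zpowers w)
  refine (Setting.homB_invol S (a := a) (Setting.homB_inj S ?_) fun e => h1 ?_).trans ?_
  · rw [map_mul, map_one, ha, conj_mul, h2, mul_one, mul_inv_cancel]
  · rw [e, map_one] at ha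
    exact conj_eq_one_iff.1 ha.symm
  · rw [ha]; exact (isConj_iff.2 ⟨h, rfl⟩).symm

/-- They form one class in the centralizer of the five-element. -/
theorem Setting.five_invol_conj (S : Setting z Q cd) (hβ : IsHat S.code β bh) (hb5 : β ^ 5 = 1) (hb1 : β ≠ 1)
    {w : G} (hw : w * β = β * w) (h2 : w * w = 1) (h1 : w ≠ 1) : ∃ h, h * β = β * h ∧ h * w * h⁻¹ = z := by
  haveI : Fact (Nat.Prime 5) := ⟨by norm_num⟩
  have hord := order_five hb5 hb1
  obtain ⟨k0, hk0⟩ := isConj_iff.1 (Setting.five_invol_A S hβ hb5 hw h2 h1).symm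
  obtain ⟨c, hc, hcb⟩ := Setting.into_beta S hβ hb5 hb1 (x := k0 * β * k0⁻¹)
    (by rw [← MulAut.conj_apply, MulEquiv.orderOf_eq, hord]) (by
      calc k0 * β * k0⁻¹ * z = k0 * (β * w) * k0⁻¹ := by rw [← hk0]; group
        _ = k0 * (w * β) * k0⁻¹ := by rw [hw]
        _ = z * (k0 * β * k0⁻¹) := by rw [← hk0]; group)
  set k := c * k0 with hk
  have hkw : k * w * k⁻¹ = z := by
    calc k * w * k⁻¹ = c * (k0 * w * k0⁻¹) * c⁻¹ := by rw [hk]; group
      _ = z := by rw [hk0, hc, mul_inv_cancel_right]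
  have hkb : k * β * k⁻¹ ∈ Subgroup.zpowers β := by
    rwa [show k * β * k⁻¹ = c * (k0 * β * k0⁻¹) * c⁻¹ by rw [hk]; group]
  have hcent : ∀ v : G, v * β = β * v → k⁻¹ * v * k * β = β * (k⁻¹ * v * k) := by
    intro v hv
    obtain ⟨j, hj⟩ := Subgroup.mem_zpowers_iff.1 hkb
    have := ((show Commute v β from hv).zpow_right j).eq
    rw [hj] at this
    calc k⁻¹ * v * k * β = k⁻¹ * (v * (k * β * k⁻¹)) * k := by group
      _ = k⁻¹ * (k * β * k⁻¹ * v) * k := by rw [this]
      _ = β * (k⁻¹ * v * k) := by group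
  set R : Subgroup G := (Setting.homB S).range.map (MulAut.conj k⁻¹).toMonoidHom
  have hR : IsPGroup 2 R := (IsPGroup.of_card (n := 3) (by
    rw [← Nat.card_congr (MonoidHom.ofInjective (Setting.homB_inj S)).toEquiv, DihedralGroup.nat_card]; rfl) :
      IsPGroup 2 (Setting.homB S).range).map _
  obtain ⟨h, hhb, hh⟩ := Setting.conj_homB S hβ hb5 hR (by
    rintro _ ⟨_, ⟨a, rfl⟩, rfl⟩
    show k⁻¹ * Setting.homB S a * k⁻¹⁻¹ * β = β * (k⁻¹ * Setting.homB S a * k⁻¹⁻¹)
    rw [inv_inv]
    exact hcent _ (Setting.el_fix S hβ (dB_mem a).1))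
  have hRmem : ∀ a, k⁻¹ * Setting.homB S a * k ∈ R := fun a => ⟨_, ⟨a, rfl⟩, by simp⟩
  choose f hf using fun a => hh _ (hRmem a)
  have hwz : k⁻¹ * Setting.homB S (.r 2) * k = w := by
    rw [Setting.homB_two, ← hkw]; group
  have hfinj : Function.Injective f := fun a b e => by
    have := (hf a).symm.trans ((congrArg (Setting.homB S) e).trans (hf b))
    exact Setting.homB_inj S (mul_left_cancel (mul_right_cancel (mul_left_cancel (mul_right_cancel this))))
  have hfsurj := Finite.injective_iff_surjective.1 hfinj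
  refine ⟨h, hhb, ?_⟩
  have hz2 := hf (.r 2)
  rw [hwz] at hz2
  rw [← hz2]
  refine (congrArg (Setting.homB S) ?_).trans (Setting.homB_two S)
  refine (dB_center _ fun b => ?_).resolve_left fun e => h1 ?_
  · obtain ⟨b', rfl⟩ := hfsurj b
    refine Setting.homB_inj S ?_
    have hzb : Setting.homB S (.r 2) * Setting.homB S b' = Setting.homB S b' * Setting.homB S (.r 2) := by
      rw [Setting.homB_two]; exact (S.code.ext.central _ (el_mem _ _)).symm
    rw [map_mul, map_mul, hf, hf]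
    calc h * (k⁻¹ * Setting.homB S (.r 2) * k) * h⁻¹ * (h * (k⁻¹ * Setting.homB S b' * k) * h⁻¹)
        = h * k⁻¹ * (Setting.homB S (.r 2) * Setting.homB S b') * k * h⁻¹ := by group
      _ = h * k⁻¹ * (Setting.homB S b' * Setting.homB S (.r 2)) * k * h⁻¹ := by rw [hzb]
      _ = _ := by group
  · rw [e, map_one] at hz2
    exact conj_eq_one_iff.1 hz2.symm

end Cfsg.Agent.Invol.Suz.Loc
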