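import Mathlib

/-!
# Tools for centralizers and normalizers of subgroups of prime order
-/

set_option autoImplicit false
set_option linter.unusedSectionVars false
set_option linter.style.haveILetI false

namespace Cfsg.Agent.Invol.Suz.Loc

variable {G : Type*} [Group G] [Finite G]

/-- The centralizer in `H` of an element. -/
abbrev cx (H : Subgroup G) (x : G) : Subgroup G := H ⊓ Subgroup.centralizer ({x} : Set G)

/-- The normalizer in `H` of a cyclic subgroup. -/
abbrev nz (H : Subgroup G) (x : G) : Subgroup G :=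
  H ⊓ Subgroup.normalizer ((Subgroup.zpowers x : Subgroup G) : Set G)

theorem mem_cx {H : Subgroup G} {x u : G} : u ∈ cx H x ↔ u ∈ H ∧ u * x = x * u := by
  simp [cx, Subgroup.mem_centralizer_singleton_iff]

theorem cx_le_nz (H : Subgroup G) (x : G) : cx H x ≤ nz H x :=
  inf_le_inf_left H (by
    rw [← Subgroup.centralizer_closure, ← Subgroup.zpowers_eq_closure]
    exact Subgroup.centralizer_le_normalizer _)

theorem zpowers_le_cx {H : Subgroup G} {x : G} (hx : x ∈ H) : Subgroup.zpowers x ≤ cx H x :=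
  Subgroup.zpowers_le.2 (mem_cx.2 ⟨hx, rfl⟩)

theorem mem_nz_of {H : Subgroup G} {x u : G} {p : ℕ} [Fact p.Prime] (hx : orderOf x = p) (hu : u ∈ H)
    (h : u * x * u⁻¹ ∈ Subgroup.zpowers x) : u ∈ nz H x := by
  refine ⟨hu, ?_⟩
  have hle : (Subgroup.zpowers x).map (MulAut.conj u).toMonoidHom ≤ Subgroup.zpowers x := by
    rw [MonoidHom.map_zpowers]
    exact Subgroup.zpowers_le.2 h
  have heq := Subgroup.eq_of_le_of_card_ge hle
    (Nat.card_congr ((Subgroup.zpowers x).equivMapOfInjective _ (MulAut.conj u).injective).toEquiv).le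
  refine Subgroup.mem_normalizer_iff.2 fun n => ⟨fun hn => hle ⟨n, hn, rfl⟩, fun hn => ?_⟩
  rw [← heq] at hn
  obtain ⟨m, hm, e⟩ := hn
  exact (MulAut.conj u).injective e ▸ hm

theorem mem_nz {H : Subgroup G} {x u : G} (hu : u ∈ nz H x) :
    u ∈ H ∧ u * x * u⁻¹ ∈ Subgroup.zpowers x :=
  ⟨hu.1, (Subgroup.mem_normalizer_iff.1 hu.2 x).1 (Subgroup.mem_zpowers x)⟩

theorem prime_zpowers_eq {x y : G} {p : ℕ} [Fact p.Prime] (hx : orderOf x = p) (hy : y ∈ Subgroup.zpowers x)
    (hy1 : y ≠ 1) : Subgroup.zpowers y = Subgroup.zpowers x ∧ orderOf y = p := by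
  have hle : Subgroup.zpowers y ≤ Subgroup.zpowers x := Subgroup.zpowers_le.2 hy
  have hd : orderOf y ∣ p := by
    rw [← hx, ← Nat.card_zpowers x]
    exact Subgroup.orderOf_dvd_natCard _ hy
  have ho : orderOf y = p :=
    ((Nat.dvd_prime Fact.out).1 hd).resolve_left fun e => hy1 (orderOf_eq_one_iff.1 e)
  exact ⟨Subgroup.eq_of_le_of_card_ge hle (by rw [Nat.card_zpowers, Nat.card_zpowers, ho, hx]), ho⟩

/-- The normalizer over the centralizer of an element of prime order. -/
theorem index_cx {H : Subgroup G} {x : G} {p : ℕ} [Fact p.Prime] (hx : orderOf x = p) :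
    ∃ e, e ∣ p - 1 ∧ Nat.card (nz H x) = Nat.card (cx H x) * e := by
  let φ : nz H x →* MulAut (Subgroup.zpowers x) :=
    (Subgroup.zpowers x).normalizerMonoidHom.comp (Subgroup.inclusion inf_le_right)
  have hker : φ.ker = (cx H x).subgroupOf (nz H x) := by
    ext u
    rw [MonoidHom.mem_ker, MonoidHom.comp_apply, ← MonoidHom.mem_ker, Subgroup.normalizerMonoidHom_ker,
      Subgroup.mem_subgroupOf, Subgroup.mem_subgroupOf, mem_cx, Subgroup.coe_inclusion,
      Subgroup.zpowers_eq_closure, Subgroup.centralizer_closure, Subgroup.mem_centralizer_singleton_iff]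
    exact ⟨fun h => ⟨u.2.1, h⟩, fun h => h.2⟩
  refine ⟨Nat.card φ.range, ?_, ?_⟩
  · have := Subgroup.card_subgroup_dvd_card φ.range
    rwa [IsCyclic.card_mulAut, Nat.card_zpowers, hx, Nat.totient_prime Fact.out] at this
  · rw [Subgroup.card_eq_card_quotient_mul_card_subgroup φ.ker,
      Nat.card_congr (QuotientGroup.quotientKerEquivRange φ).toEquiv, hker,
      Nat.card_congr (Subgroup.subgroupOfEquivOfLe (cx_le_nz H x)).toEquiv, mul_comm]

/-- An element of order `p` generates a Sylow subgroup when `p` divides the order once. -/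
theorem exists_sylow_zpowers {H : Subgroup G} {x : G} {p : ℕ} [Fact p.Prime] (hx : orderOf x = p) (hxH : x ∈ H)
    (hp2 : ¬ p ^ 2 ∣ Nat.card H) :
    ∃ P : Sylow p H, (P : Subgroup H) = (Subgroup.zpowers x).subgroupOf H := by
  have hc : Nat.card ((Subgroup.zpowers x).subgroupOf H) = p := by
    rw [Nat.card_congr (Subgroup.subgroupOfEquivOfLe (Subgroup.zpowers_le.2 hxH)).toEquiv, Nat.card_zpowers, hx]
  obtain ⟨P, hP⟩ := (IsPGroup.of_card (n := 1) (by rw [hc, pow_one]) :
    IsPGroup p ((Subgroup.zpowers x).subgroupOf H)).exists_le_sylow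
  refine ⟨P, (Subgroup.eq_of_le_of_card_ge hP ?_).symm⟩
  obtain ⟨n, hn⟩ := IsPGroup.iff_card.1 P.isPGroup'
  rw [hc, hn]
  rcases Nat.lt_or_ge n 2 with h | h
  · calc p ^ n ≤ p ^ 1 := Nat.pow_le_pow_right (Fact.out : p.Prime).pos (by omega)
      _ = p := pow_one p
  · exact absurd ((pow_dvd_pow p h).trans (hn ▸ Subgroup.card_subgroup_dvd_card _)) hp2

/-- Elements of order `p` are conjugate into the same cyclic subgroup when `p` divides the order once. -/
theorem conj_of_part {H : Subgroup G} {x y : G} {p : ℕ} [Fact p.Prime] (hx : orderOf x = p) (hxH : x ∈ H)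
    (hy : orderOf y = p) (hyH : y ∈ H) (hp2 : ¬ p ^ 2 ∣ Nat.card H) :
    ∃ h ∈ H, h * y * h⁻¹ ∈ Subgroup.zpowers x := by
  obtain ⟨P, hP⟩ := exists_sylow_zpowers hx hxH hp2
  obtain ⟨P', hP'⟩ := exists_sylow_zpowers hy hyH hp2
  obtain ⟨h, hh⟩ := MulAction.exists_smul_eq H P' P
  refine ⟨h, h.2, ?_⟩
  have h1 : (⟨y, hyH⟩ : H) ∈ (P' : Subgroup H) := by
    rw [hP', Subgroup.mem_subgroupOf]
    exact Subgroup.mem_zpowers y
  have h2 := Subgroup.smul_mem_pointwise_smul _ (MulAut.conj h) _ h1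
  rw [← Sylow.coe_subgroup_smul, hh, hP, Subgroup.mem_subgroupOf] at h2
  exact h2

/-- The count of the Sylow subgroups. -/
theorem sylow_count {H : Subgroup G} {x : G} {p : ℕ} [Fact p.Prime] (hx : orderOf x = p) (hxH : x ∈ H)
    (hp2 : ¬ p ^ 2 ∣ Nat.card H) : ∃ n, n % p = 1 ∧ Nat.card H = Nat.card (nz H x) * n := by
  obtain ⟨P, hP⟩ := exists_sylow_zpowers hx hxH hp2
  refine ⟨Nat.card (Sylow p H), ?_, ?_⟩
  · have := card_sylow_modEq_one p H
    rwa [Nat.ModEq, Nat.one_mod_eq_one.2 (Fact.out : p.Prime).one_lt.ne'] at this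
  · have hN : Subgroup.normalizer ((P : Subgroup H) : Set H) = (nz H x).subgroupOf H := by
      ext u
      rw [Subgroup.mem_subgroupOf]
      constructor
      · intro hu
        refine mem_nz_of hx u.2 ?_
        have h1 : (⟨x, hxH⟩ : H) ∈ (P : Subgroup H) := by
          rw [hP, Subgroup.mem_subgroupOf]; exact Subgroup.mem_zpowers x
        have h2 : u * ⟨x, hxH⟩ * u⁻¹ ∈ (P : Subgroup H) := (Subgroup.mem_normalizer_iff.1 hu _).1 h1
        rw [hP, Subgroup.mem_subgroupOf] at h2
        exact h2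
      · intro hu
        refine Subgroup.mem_normalizer_iff.2 fun n => ?_
        simp only [SetLike.mem_coe, hP, Subgroup.mem_subgroupOf]
        exact Subgroup.mem_normalizer_iff.1 hu.2 n
    rw [P.card_eq_index_normalizer, show Subgroup.normalizer (P : Set H) = _ from hN,
      ← Nat.card_congr (Subgroup.subgroupOfEquivOfLe (inf_le_left : nz H x ≤ H)).toEquiv,
      Subgroup.card_mul_index]

/-- A simple group which is not abelian has no self-centralizing Sylow normalizer of prime order. -/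
theorem no_burnside {H : Subgroup G} [IsSimpleGroup H] (hnc : ¬ IsMulCommutative H) {x : G} {p : ℕ} [Fact p.Prime]
    (hx : orderOf x = p) (hxH : x ∈ H) (hp2 : ¬ p ^ 2 ∣ Nat.card H)
    (hN : Nat.card (nz H x) = Nat.card (cx H x)) : False := by
  obtain ⟨P, hP⟩ := exists_sylow_zpowers hx hxH hp2
  have heq : cx H x = nz H x := Subgroup.eq_of_le_of_card_ge (cx_le_nz H x) hN.le
  have hNC : Subgroup.normalizer ((P : Subgroup H) : Set H) ≤ Subgroup.centralizer ((P : Subgroup H) : Set H) := by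
    intro u hu
    have h1 : (⟨x, hxH⟩ : H) ∈ (P : Subgroup H) := by
      rw [hP, Subgroup.mem_subgroupOf]; exact Subgroup.mem_zpowers x
    have h2 : u * ⟨x, hxH⟩ * u⁻¹ ∈ (P : Subgroup H) := (Subgroup.mem_normalizer_iff.1 hu _).1 h1
    rw [hP, Subgroup.mem_subgroupOf] at h2
    have hux : (u : G) * x = x * u := (mem_cx.1 (heq ▸ mem_nz_of hx u.2 h2)).2
    refine Subgroup.mem_centralizer_iff.2 fun w hw => ?_
    rw [SetLike.mem_coe, hP, Subgroup.mem_subgroupOf] at hw
    obtain ⟨k, hk⟩ := Subgroup.mem_zpowers_iff.1 hw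
    refine Subtype.ext ?_
    show (w : G) * u = u * w
    rw [← hk]
    exact ((show Commute (u : G) x from hux).zpow_right k).eq.symm
  have hc := MonoidHom.ker_transferSylow_isComplement' P hNC
  rcases (MonoidHom.transferSylow P hNC).normal_ker.eq_bot_or_eq_top with e | e <;> rw [e] at hc
  · have hP' : (P : Subgroup H) = ⊤ := Subgroup.isComplement'_bot_left.1 hc
    refine hnc ⟨⟨fun a b => Subtype.ext ?_⟩⟩
    have key : ∀ a : H, (a : G) ∈ Subgroup.zpowers x := fun a => by
      have : a ∈ (P : Subgroup H) := hP' ▸ Subgroup.mem_top a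
      rwa [hP, Subgroup.mem_subgroupOf] at this
    obtain ⟨i, hi⟩ := Subgroup.mem_zpowers_iff.1 (key a)
    obtain ⟨j, hj⟩ := Subgroup.mem_zpowers_iff.1 (key b)
    show (a : G) * b = b * a
    rw [← hi, ← hj, ← zpow_add, ← zpow_add, add_comm]
  · have hP' : (P : Subgroup H) = ⊥ := Subgroup.isComplement'_top_left.1 hc
    have h1 : (⟨x, hxH⟩ : H) ∈ (P : Subgroup H) := by
      rw [hP, Subgroup.mem_subgroupOf]; exact Subgroup.mem_zpowers x
    rw [hP', Subgroup.mem_bot] at h1
    have : x = 1 := congrArg Subtype.val h1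
    rw [this, orderOf_one] at hx
    exact (Fact.out : p.Prime).one_lt.ne hx

/-- The preimage of a subgroup of a quotient. -/
theorem card_comap_mk {H : Type*} [Group H] [Finite H] (N : Subgroup H) [N.Normal] (K : Subgroup (H ⧸ N)) :
    Nat.card (K.comap (QuotientGroup.mk' N)) = Nat.card N * Nat.card K := by
  have h := (K.comap (QuotientGroup.mk' N)).card_mul_index
  rw [Subgroup.index_comap_of_surjective _ (QuotientGroup.mk'_surjective N),
    Subgroup.card_eq_card_quotient_mul_card_subgroup N, ← K.card_mul_index] at h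
  have h0 : 0 < K.index := Nat.pos_of_ne_zero Subgroup.index_ne_zero_of_finite
  exact Nat.eq_of_mul_eq_mul_right h0 (by rw [h]; ring)

end Cfsg.Agent.Invol.Suz.Loc
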