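import Mathlib
import Cfsg.Agent.Lib.Invol.Suz.Loc.Tools

/-!
# The centralizer of an element modulo the group it generates
-/

set_option autoImplicit false
set_option linter.unusedSectionVars false
set_option linter.style.haveILetI false

namespace Cfsg.Agent.Invol.Suz.Loc

variable {G : Type*} [Group G] [Finite G] {x : G}

/-- The centralizer of an element. -/
abbrev Cx (x : G) : Subgroup G := Subgroup.centralizer ({x} : Set G)

/-- The cyclic group inside the centralizer. -/
abbrev Cn (x : G) : Subgroup (Cx x) := (Subgroup.zpowers x).subgroupOf (Cx x)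

theorem mem_Cx {x v : G} : v ∈ Cx x ↔ v * x = x * v := Subgroup.mem_centralizer_singleton_iff

theorem Cn_comm {n : Cx x} (hn : n ∈ Cn x) (v : Cx x) : n * v = v * n := by
  obtain ⟨k, hk⟩ := Subgroup.mem_zpowers_iff.1 (Subgroup.mem_subgroupOf.1 hn)
  refine Subtype.ext ?_
  show (n : G) * v = v * n
  rw [← hk]
  exact ((show Commute (v : G) x from mem_Cx.1 v.2).zpow_right k).eq.symm

instance Cn_normal : (Cn x).Normal :=
  ⟨fun n hn v => by rw [← Cn_comm hn v, mul_inv_cancel_right]; exact hn⟩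

theorem card_Cn : Nat.card (Cn x) = orderOf x := by
  rw [Nat.card_congr (Subgroup.subgroupOfEquivOfLe (Subgroup.zpowers_le.2 (mem_Cx.2 rfl))).toEquiv,
    Nat.card_zpowers]

theorem card_Cx : Nat.card (Cx x) = orderOf x * Nat.card (Cx x ⧸ Cn x) := by
  rw [Subgroup.card_eq_card_quotient_mul_card_subgroup (Cn x), card_Cn, mul_comm]

/-- An element whose order is prime to that of the kernel commutes with what its image commutes with. -/
theorem comm_of_mk {w v : Cx x} {m : ℕ} (hm : m.Coprime (orderOf x)) (hw : w ^ m = 1)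
    (h : QuotientGroup.mk' (Cn x) v * QuotientGroup.mk' (Cn x) w =
      QuotientGroup.mk' (Cn x) w * QuotientGroup.mk' (Cn x) v) : v * w = w * v := by
  have hn : (v * w * v⁻¹) * w⁻¹ ∈ Cn x := by
    refine (QuotientGroup.eq_one_iff _).1 ?_
    show QuotientGroup.mk' (Cn x) (v * w * v⁻¹ * w⁻¹) = 1
    rw [map_mul, map_mul, map_mul, map_inv, map_inv, h]
    group
  set n := v * w * v⁻¹ * w⁻¹
  have e : (v * w * v⁻¹) ^ m = n ^ m * w ^ m := by
    rw [show v * w * v⁻¹ = n * w by simp only [n]; group]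
    exact (show Commute n w from Cn_comm hn w).mul_pow m
  rw [conj_pow, hw, mul_one, mul_inv_cancel, mul_one] at e
  have h1 : orderOf n ∣ m := orderOf_dvd_of_pow_eq_one e.symm
  have h2 : orderOf n ∣ orderOf x := by rw [← card_Cn (x := x)]; exact Subgroup.orderOf_dvd_natCard _ hn
  have hn1 := orderOf_eq_one_iff.1 (Nat.eq_one_of_dvd_coprimes hm h1 h2)
  calc v * w = n * w * v := by simp only [n]; group
    _ = w * v := by rw [hn1, one_mul]

/-- Involutions of the quotient lift. -/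
theorem lift_invol {p : ℕ} (hp : orderOf x = p) (hodd : Odd p) {a : Cx x ⧸ Cn x} (ha : orderOf a = 2) :
    ∃ w : Cx x, w * w = 1 ∧ w ≠ 1 ∧ QuotientGroup.mk' (Cn x) w = a := by
  obtain ⟨v, rfl⟩ := QuotientGroup.mk'_surjective (Cn x) a
  have hne : QuotientGroup.mk' (Cn x) v ≠ 1 := fun e => by rw [e, orderOf_one] at ha; omega
  have hsq : QuotientGroup.mk' (Cn x) v ^ 2 = 1 := ha ▸ pow_orderOf_eq_one _
  have hvp : QuotientGroup.mk' (Cn x) (v ^ p) = QuotientGroup.mk' (Cn x) v := by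
    obtain ⟨m, hm⟩ := hodd
    rw [map_pow, hm, pow_succ, pow_mul, hsq, one_pow, one_mul]
  refine ⟨v ^ p, ?_, fun e => hne (by rw [← hvp, e, map_one]), hvp⟩
  rw [← pow_two, ← pow_mul, mul_comm, pow_mul]
  have h2 : v ^ 2 ∈ Cn x := (QuotientGroup.eq_one_iff _).1 ((map_pow (QuotientGroup.mk' (Cn x)) v 2).trans hsq)
  have : orderOf (v ^ 2) ∣ p := by rw [← hp, ← card_Cn (x := x)]; exact Subgroup.orderOf_dvd_natCard _ h2
  exact orderOf_dvd_iff_pow_eq_one.1 this

/-- The centralizer of the image of an involution. -/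
theorem cent_mk {p : ℕ} (hp : orderOf x = p) (hodd : Odd p) {w : Cx x} (hw : w * w = 1) :
    p * Nat.card (Subgroup.centralizer ({QuotientGroup.mk' (Cn x) w} : Set (Cx x ⧸ Cn x))) =
      Nat.card (cx (Cx (w : G)) x) ∧
    ∀ a ∈ Subgroup.centralizer ({QuotientGroup.mk' (Cn x) w} : Set (Cx x ⧸ Cn x)),
      ∃ v : Cx x, (v : G) ∈ cx (Cx (w : G)) x ∧ QuotientGroup.mk' (Cn x) v = a := by
  have hcop : (2 : ℕ).Coprime (orderOf x) := hp ▸ Nat.coprime_two_left.2 hodd
  have hcomap : (Subgroup.centralizer ({QuotientGroup.mk' (Cn x) w} : Set (Cx x ⧸ Cn x))).comap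
      (QuotientGroup.mk' (Cn x)) = (cx (Cx (w : G)) x).subgroupOf (Cx x) := by
    ext v
    rw [Subgroup.mem_comap, Subgroup.mem_centralizer_singleton_iff, Subgroup.mem_subgroupOf, mem_cx, mem_Cx]
    constructor
    · intro h
      exact ⟨congrArg Subtype.val (comm_of_mk hcop (by rw [pow_two]; exact hw) h), mem_Cx.1 v.2⟩
    · intro h
      rw [← map_mul, ← map_mul, show v * w = w * v from Subtype.ext h.1]
  constructor
  · have := card_comap_mk (Cn x) (Subgroup.centralizer ({QuotientGroup.mk' (Cn x) w} : Set (Cx x ⧸ Cn x)))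
    rw [hcomap, card_Cn, hp,
      Nat.card_congr (Subgroup.subgroupOfEquivOfLe (inf_le_right : cx (Cx (w : G)) x ≤ Cx x)).toEquiv] at this
    exact this.symm
  · intro a ha
    obtain ⟨v, rfl⟩ := QuotientGroup.mk'_surjective (Cn x) a
    refine ⟨v, ?_, rfl⟩
    rw [← Subgroup.mem_subgroupOf, ← hcomap]
    exact ha

/-- Conjugation of relative centralizers. -/
theorem card_cx_conj (k w x : G) :
    Nat.card (cx (Cx w) x) = Nat.card (cx (Cx (k * w * k⁻¹)) (k * x * k⁻¹)) ∧
    ∀ v ∈ cx (Cx w) x, k * v * k⁻¹ ∈ cx (Cx (k * w * k⁻¹)) (k * x * k⁻¹) := by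
  have key : ∀ (k w x v : G), v ∈ cx (Cx w) x → k * v * k⁻¹ ∈ cx (Cx (k * w * k⁻¹)) (k * x * k⁻¹) := by
    intro k w x v hv
    rw [mem_cx, mem_Cx] at hv ⊢
    constructor
    · rw [conj_mul, conj_mul, hv.1]
    · rw [conj_mul, conj_mul, hv.2]
  refine ⟨Nat.card_congr
    { toFun := fun v => ⟨_, key k w x v.1 v.2⟩
      invFun := fun v => ⟨k⁻¹ * v.1 * k⁻¹⁻¹, by
        have := key k⁻¹ _ _ _ v.2
        rwa [show k⁻¹ * (k * w * k⁻¹) * k⁻¹⁻¹ = w by group, show k⁻¹ * (k * x * k⁻¹) * k⁻¹⁻¹ = x by group] at this⟩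
      left_inv := fun v => Subtype.ext (by group)
      right_inv := fun v => Subtype.ext (by group) }, fun v hv => key k w x v hv⟩

/-- A group of exponent two is commutative. -/
theorem comm_of_sq {H : Type*} [Group H] {K : Subgroup H} (h : ∀ a ∈ K, a ^ 2 = 1) : IsMulCommutative K :=
  ⟨⟨fun a b => by
    have hs : ∀ c : K, c⁻¹ = c := fun c => inv_eq_of_mul_eq_one_right (Subtype.ext (by
      show (c : H) * c = 1
      rw [← pow_two]; exact h c c.2))
    calc a * b = (a * b)⁻¹ := (hs _).symm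
      _ = b⁻¹ * a⁻¹ := mul_inv_rev a b
      _ = b * a := by rw [hs, hs]⟩⟩

end Cfsg.Agent.Invol.Suz.Loc
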