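import Cfsg.Agent.Lib.Invol.Suz.Loc.FiveB
import Cfsg.Agent.Lib.Invol.Suz.Loc.Quot
import Cfsg.Agent.Lib.Invol.D8Order
import Cfsg.Agent.Lib.Invol.RegularInversionFamilies
import Cfsg.Agent.S1230

/-!
# The orders of the centralizers of the elements of order five
-/

set_option autoImplicit false
set_option linter.unusedSectionVars false
set_option linter.style.haveILetI false

namespace Cfsg.Agent.Invol.Suz.Loc

open Cfsg Cfsg.Agent.Classical.BinCoc Cfsg.Agent.Invol.Big Cfsg.Agent.Invol.Big.Code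

variable {G : Type*} [Group G] [Finite G] {z : G} {Q : Subgroup G} {cd : G → ℕ} {β c x : G}

namespace Mdl

variable {S : Setting z Q cd} {g : ℕ → G}

/-- The part of the order prime to five. -/
theorem sylow_five_card (M : Mdl S g) (P : Sylow 5 G) : Nat.card (P : Subgroup G) = 25 := by
  haveI : Fact (Nat.Prime 5) := ⟨by norm_num⟩
  rw [P.card_eq_multiplicity, M.card_G, show 448345497600 = 5 ^ 2 * 17933819904 by norm_num,
    Nat.factorization_mul (by norm_num) (by norm_num), Finsupp.add_apply,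
    Nat.Prime.factorization_pow (by norm_num : Nat.Prime 5), Finsupp.single_eq_same,
    Nat.factorization_eq_zero_of_not_dvd (by norm_num : ¬ 5 ∣ 17933819904)]
  norm_num

/-- The Sylow five-subgroups are abelian. -/
theorem sylow_five_comm (M : Mdl S g) (P : Sylow 5 G) {a b : G} (ha : a ∈ P) (hb : b ∈ P) : a * b = b * a := by
  haveI : Fact (Nat.Prime 5) := ⟨by norm_num⟩
  have := IsPGroup.commutative_of_card_eq_prime_sq (p := 5) (G := (P : Subgroup G))
    ((M.sylow_five_card P).trans (by norm_num)) ⟨a, ha⟩ ⟨b, hb⟩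
  exact congrArg Subtype.val this

theorem exists_sylow_five (M : Mdl S g) (hx : orderOf x = 5) : ∃ P : Sylow 5 G, x ∈ P := by
  haveI : Fact (Nat.Prime 5) := ⟨by norm_num⟩
  obtain ⟨P, hP⟩ := (IsPGroup.of_card (n := 1) (by rw [Nat.card_zpowers, hx, pow_one]) :
    IsPGroup 5 (Subgroup.zpowers x)).exists_le_sylow
  exact ⟨P, hP (Subgroup.mem_zpowers x)⟩

theorem sylow_le_Cx (M : Mdl S g) (P : Sylow 5 G) (hx : x ∈ P) : (P : Subgroup G) ≤ Cx x := fun _ hv =>
  mem_Cx.2 (M.sylow_five_comm P hv hx)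

theorem five_dvd_quot (M : Mdl S g) (hx : orderOf x = 5) : 5 ∣ Nat.card (Cx x ⧸ Cn x) := by
  obtain ⟨P, hP⟩ := M.exists_sylow_five hx
  have := Subgroup.card_dvd_of_le (M.sylow_le_Cx P hP)
  rw [M.sylow_five_card P, card_Cx, hx, show (25 : ℕ) = 5 * 5 by norm_num] at this
  exact Nat.dvd_of_mul_dvd_mul_left (by norm_num) this

/-- An element of order five of `C(t)` is not conjugate into `⟨β⟩`. -/
theorem five_ne (M : Mdl S g) (hβ : IsHat S.code β bh) (hb5 : β ^ 5 = 1) (hc : c ∈ Dg g) (ho : orderOf c = 5)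
    {k : G} (hk : k * c * k⁻¹ ∈ Subgroup.zpowers β) : False := by
  haveI : Fact (Nat.Prime 5) := ⟨by norm_num⟩
  have hb1 : β ≠ 1 := fun e => by
    rw [e, Subgroup.zpowers_one_eq_bot, Subgroup.mem_bot, conj_eq_one_iff] at hk
    rw [hk, orderOf_one] at ho
    omega
  obtain ⟨he, -⟩ := prime_zpowers_eq (order_five hb5 hb1) hk fun e => by
    rw [conj_eq_one_iff] at e
    rw [e, orderOf_one] at ho
    omega
  obtain ⟨j, hj⟩ := Subgroup.mem_zpowers_iff.1 (he ▸ Subgroup.mem_zpowers β : β ∈ Subgroup.zpowers (k * c * k⁻¹))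
  have hcomm : k * g 2 * k⁻¹ * β = β * (k * g 2 * k⁻¹) := by
    rw [← hj]
    refine ((show Commute (k * g 2 * k⁻¹) (k * c * k⁻¹) from ?_).zpow_right j).eq
    show k * g 2 * k⁻¹ * (k * c * k⁻¹) = k * c * k⁻¹ * (k * g 2 * k⁻¹)
    rw [conj_mul, conj_mul, Subgroup.mem_centralizer_singleton_iff.1 hc]
  exact M.t_not_conj ((Setting.five_invol_A S hβ hb5 hcomm (invol_conj k M.g2_sq)
    fun e => M.t_ne_one (conj_eq_one_iff.1 e)).trans (isConj_iff.2 ⟨k, rfl⟩).symm)

/-- Involutions centralizing an element of order five or seven of `C(t)`, carried to `t`. -/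
theorem B_cent (M : Mdl S g) {p : ℕ} (hp : p = 5 ∨ p = 7) (hx : orderOf x = p) {w : G} (hw : w * x = x * w)
    (hB : IsConj w (g 2)) :
    Nat.card (cx (Cx w) x) = 4 * p ∧ ∀ v ∈ cx (Cx w) x, v ^ (4 * p) = 1 ∧ (v ^ p) ^ 2 = 1 := by
  obtain ⟨k, hk⟩ := isConj_iff.1 hB
  have hxD : k * x * k⁻¹ ∈ Dg g := Subgroup.mem_centralizer_singleton_iff.2 (by rw [← hk, conj_mul, conj_mul, hw])
  have hx' : orderOf (k * x * k⁻¹) = p := by rw [← MulAut.conj_apply, MulEquiv.orderOf_eq, hx]
  have hxL := M.mem_L_of_order hp hxD hx'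
  obtain ⟨hcard, -⟩ := M.D_local hp hxL hx'
  obtain ⟨he, hmap⟩ := card_cx_conj k w x
  rw [hk] at he hmap
  refine ⟨he.trans hcard, fun v hv => ?_⟩
  have h4 : v ^ (4 * p) = 1 := by
    rw [← hcard, ← he]
    exact orderOf_dvd_iff_pow_eq_one.1 (Subgroup.orderOf_dvd_natCard _ hv)
  refine ⟨h4, ?_⟩
  have := M.D_cent_sq hp hxL hx' (w := k * v ^ p * k⁻¹) (k := 2)
    (by rw [← conj_pow]; exact pow_mem (hmap v hv) p)
    (by rw [conj_pow, ← pow_mul, show p * 2 ^ 2 = 4 * p by ring, h4, mul_one, mul_inv_cancel])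
  rw [conj_mul, conj_eq_one_iff] at this
  rw [pow_two, this]

/-- The centralizer of an involution in the quotient is a four-group. -/
theorem quot_four (M : Mdl S g) {p : ℕ} (hp : p = 5 ∨ p = 7) (hx : orderOf x = p)
    (hB : ∀ w : G, w * x = x * w → w * w = 1 → w ≠ 1 → IsConj w (g 2)) {a : Cx x ⧸ Cn x} (ha : orderOf a = 2) :
    Nat.card (Subgroup.centralizer ({a} : Set (Cx x ⧸ Cn x))) = 4 ∧
      ∀ b ∈ Subgroup.centralizer ({a} : Set (Cx x ⧸ Cn x)), b ^ 2 = 1 := by
  have hodd : Odd p := by rcases hp with rfl | rfl <;> decide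
  obtain ⟨w, hw2, hw1, rfl⟩ := lift_invol hx hodd ha
  obtain ⟨hcard, hsq⟩ := M.B_cent hp hx (mem_Cx.1 w.2) (hB w (mem_Cx.1 w.2) (congrArg Subtype.val hw2)
    fun e => hw1 (Subtype.ext e))
  obtain ⟨h1, h2⟩ := cent_mk hx hodd hw2
  rw [hcard, mul_comm 4 p] at h1
  have h4 := Nat.eq_of_mul_eq_mul_left (by rcases hp with rfl | rfl <;> norm_num) h1
  refine ⟨h4, fun b hb => ?_⟩
  obtain ⟨v, hv, rfl⟩ := h2 b hb
  have e4 : QuotientGroup.mk' (Cn x) v ^ 4 = 1 :=
    orderOf_dvd_iff_pow_eq_one.1 (h4 ▸ Subgroup.orderOf_dvd_natCard _ hb)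
  have e2p : (QuotientGroup.mk' (Cn x) v ^ p) ^ 2 = 1 := by
    rw [← map_pow, ← map_pow, show (v ^ p) ^ 2 = 1 from Subtype.ext (by simpa using (hsq v hv).2), map_one]
  obtain ⟨m, hm⟩ := hodd
  rw [← pow_mul, hm, show (2 * m + 1) * 2 = 4 * m + 2 by ring, pow_add, pow_mul, e4, one_pow, one_mul] at e2p
  exact e2p

theorem invol_B (M : Mdl S g) (hβ : IsHat S.code β bh) (hb5 : β ^ 5 = 1) (hb1 : β ≠ 1) (hc : c ∈ Dg g)
    (ho : orderOf c = 5) (w : G) (hw : w * c = c * w) (h2 : w * w = 1) (h1 : w ≠ 1) : IsConj w (g 2) := by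
  haveI : Fact (Nat.Prime 2) := ⟨Nat.prime_two⟩
  refine (M.two_class' w (orderOf_eq_prime (by rw [pow_two]; exact h2) h1)).resolve_left fun hA => ?_
  obtain ⟨k, hk⟩ := isConj_iff.1 hA
  obtain ⟨d, hd, hdb⟩ := Setting.into_beta S hβ hb5 hb1 (x := k * c * k⁻¹)
    (by rw [← MulAut.conj_apply, MulEquiv.orderOf_eq, ho]) (by rw [← hk, conj_mul, conj_mul, hw])
  exact M.five_ne hβ hb5 hc ho (k := d * k)
    (by rwa [show d * k * c * (d * k)⁻¹ = d * (k * c * k⁻¹) * d⁻¹ by group])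

/-- The quotient of the centralizer of `c` has order sixty. -/
theorem card_Cx_c (M : Mdl S g) (hβ : IsHat S.code β bh) (hb5 : β ^ 5 = 1) (hb1 : β ≠ 1) (hc : c ∈ Dg g)
    (ho : orderOf c = 5) : Nat.card (Cx c ⧸ Cn c) = 60 := by
  classical
  haveI : Fact (Nat.Prime 2) := ⟨Nat.prime_two⟩
  set Z := Cx c ⧸ Cn c
  have hq := fun a (ha : orderOf a = 2) => M.quot_four (Or.inl rfl) ho (M.invol_B hβ hb5 hb1 hc ho) (a := a) ha
  set t : Cx c := ⟨g 2, mem_Cx.2 (Subgroup.mem_centralizer_singleton_iff.1 hc).symm⟩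
  have htne : QuotientGroup.mk' (Cn c) t ≠ 1 := fun e => by
    have := Subgroup.orderOf_dvd_natCard (Subgroup.zpowers c)
      (Subgroup.mem_subgroupOf.1 ((QuotientGroup.eq_one_iff _).1 e))
    rw [Nat.card_zpowers, ho, M.order_t] at this
    norm_num at this
  have hto : orderOf (QuotientGroup.mk' (Cn c) t) = 2 :=
    orderOf_eq_prime (by rw [← map_pow, show t ^ 2 = 1 from Subtype.ext (by rw [pow_two]; exact M.g2_sq), map_one]) htne
  set V := Subgroup.centralizer ({QuotientGroup.mk' (Cn c) t} : Set Z)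
  obtain ⟨T, hT⟩ := (IsPGroup.of_card (n := 2) ((hq _ hto).1.trans (by norm_num)) : IsPGroup 2 V).exists_le_sylow
  -- a Sylow subgroup is no bigger
  have hT4 : Nat.card (T : Subgroup Z) = 4 := by
    refine le_antisymm ?_ ((hq _ hto).1 ▸ Subgroup.card_le_of_le hT)
    obtain ⟨n, hn⟩ := IsPGroup.iff_card.1 T.isPGroup'
    haveI : Nontrivial (T : Subgroup Z) := ⟨⟨⟨_, hT (Subgroup.mem_centralizer_singleton_iff.2 rfl)⟩, 1,
      fun e => htne (congrArg Subtype.val e)⟩⟩
    haveI := T.isPGroup'.center_nontrivial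
    obtain ⟨⟨⟨w, hwT⟩, hw⟩, hw1⟩ := exists_ne (1 : Subgroup.center (T : Subgroup Z))
    obtain ⟨j, -, hj⟩ := (Nat.dvd_prime_pow Nat.prime_two).1 (hn ▸ Subgroup.orderOf_dvd_natCard _ hwT)
    obtain ⟨i, rfl⟩ : ∃ i, j = i + 1 := ⟨j - 1, by
      rcases j with _ | j
      · rw [pow_zero, orderOf_eq_one_iff] at hj
        exact absurd (Subtype.ext (Subtype.ext hj)) hw1
      · rfl⟩
    have hw2 : orderOf (w ^ 2 ^ i) = 2 := by
      rw [orderOf_pow_of_dvd (by positivity) (by rw [hj, pow_succ]; exact dvd_mul_right _ _), hj, pow_succ,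
        Nat.mul_div_cancel_left _ (Nat.two_pow_pos i)]
    rw [← (hq _ hw2).1]
    refine Subgroup.card_le_of_le fun v hv => ?_
    have hcomm : v * w = w * v := congrArg Subtype.val (Subgroup.mem_center_iff.1 hw ⟨v, hv⟩)
    exact Subgroup.mem_centralizer_singleton_iff.2 ((show Commute v w from hcomm).pow_right _).eq
  have hTV : V = (T : Subgroup Z) := Subgroup.eq_of_le_of_card_ge hT (by rw [hT4, (hq _ hto).1])
  have hnc : ¬ IsCyclic (T : Subgroup Z) := fun h => by
    obtain ⟨a, ha⟩ := h.exists_ofOrder_eq_natCard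
    have h2 : a ^ 2 = 1 := Subtype.ext (by
      have := (hq _ hto).2 (a : Z) (hTV.ge a.2)
      simpa using this)
    have := orderOf_dvd_of_pow_eq_one h2
    rw [ha, hT4] at this
    norm_num at this
  have h5 := M.five_dvd_quot ho
  haveI : Fact (Nat.Prime 5) := ⟨by norm_num⟩
  have hnn : ¬ (T : Subgroup Z).Normal := fun hN => by
    obtain ⟨f, hf⟩ := exists_prime_orderOf_dvd_card' (G := Z) 5 h5
    -- `f` fixes an involution of `T`
    set φ : Z →* MulAut (T : Subgroup Z) := MulAut.conjNormal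
    have hφ : orderOf (φ f) ∣ 5 := hf ▸ orderOf_map_dvd φ f
    have hinj : Function.Injective fun e : MulAut (T : Subgroup Z) =>
        fun v : {v : (T : Subgroup Z) // v ≠ 1} => (⟨e v.1, fun h => v.2 (e.injective (h.trans (map_one e).symm))⟩ :
          {v : (T : Subgroup Z) // v ≠ 1}) := fun e e' h => by
      ext v
      by_cases hv : v = 1
      · simp [hv]
      · exact congrArg (fun f : {v : (T : Subgroup Z) // v ≠ 1} → {v : (T : Subgroup Z) // v ≠ 1} =>
          (((f ⟨v, hv⟩).1 : (T : Subgroup Z)) : Z)) h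
    have h3 : Nat.card {v : (T : Subgroup Z) // v ≠ 1} = 3 := by
      haveI := Fintype.ofFinite (T : Subgroup Z)
      rw [Nat.card_eq_fintype_card, Fintype.card_subtype_compl, Fintype.card_subtype_eq,
        ← Nat.card_eq_fintype_card, hT4]
    let ψ : MulAut (T : Subgroup Z) →* Equiv.Perm {v : (T : Subgroup Z) // v ≠ 1} :=
      { toFun := fun e => e.toEquiv.subtypeEquiv fun v => by simp
        map_one' := Equiv.ext fun v => rfl
        map_mul' := fun e e' => Equiv.ext fun v => rfl }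
    have hψ : Function.Injective ψ := fun e e' h => hinj (funext fun v => Subtype.ext
      (congrArg (fun π : Equiv.Perm {v : (T : Subgroup Z) // v ≠ 1} => (π v).1) h))
    have h6 : orderOf (φ f) ∣ 6 := by
      rw [← orderOf_injective ψ hψ]
      refine (orderOf_dvd_natCard _).trans (dvd_of_eq ?_)
      rw [Nat.card_perm, h3]
      rfl
    have h1 := orderOf_eq_one_iff.1 (Nat.eq_one_of_dvd_coprimes (by norm_num : Nat.Coprime 5 6) hφ h6)
    set v : (T : Subgroup Z) := ⟨_, hTV.le (Subgroup.mem_centralizer_singleton_iff.2 rfl)⟩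
    have hfv : f * QuotientGroup.mk' (Cn c) t * f⁻¹ = QuotientGroup.mk' (Cn c) t :=
      congrArg Subtype.val (DFunLike.congr_fun h1 v)
    have := Subgroup.orderOf_dvd_natCard V (Subgroup.mem_centralizer_singleton_iff.2 (mul_inv_eq_iff_eq_mul.1 hfv))
    rw [hf, (hq _ hto).1] at this
    norm_num at this
  obtain ⟨F, iF, iF', hF, ⟨e⟩⟩ := S1230.result T hnc hnn fun a ha => ⟨comm_of_sq (hq a ha).2, (hq a ha).2⟩
  rw [hT4] at hF
  haveI : CharP F 2 := charP_of_card_eq_prime_pow (f := 2) (p := 2) (by rw [hF]; norm_num)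
  rw [Nat.card_congr e.toEquiv, RegInv.card_PSL2, hF]

/-- The quotient of the centralizer of `β` has order 360. -/
theorem card_Cx_b (M : Mdl S g) (hβ : IsHat S.code β bh) (hb5 : β ^ 5 = 1) (hb1 : β ≠ 1) :
    Nat.card (Cx β ⧸ Cn β) = 360 := by
  classical
  haveI : Fact (Nat.Prime 2) := ⟨Nat.prime_two⟩
  have hord := order_five hb5 hb1
  set Y := Cx β ⧸ Cn β
  set ζ : Cx β := ⟨z, mem_Cx.2 hβ.comm.symm⟩
  have hker : ∀ w : Cx β, w ^ 8 = 1 → QuotientGroup.mk' (Cn β) w = 1 → w = 1 := fun w hw h =>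
    orderOf_eq_one_iff.1 (Nat.eq_one_of_dvd_coprimes (by norm_num : Nat.Coprime 8 5)
      (orderOf_dvd_of_pow_eq_one hw)
      (by rw [← hord, ← card_Cn (x := β)]; exact Subgroup.orderOf_dvd_natCard _ ((QuotientGroup.eq_one_iff _).1 h)))
  have hζ2 : ζ * ζ = 1 := Subtype.ext S.code.ext.zz
  have hto : orderOf (QuotientGroup.mk' (Cn β) ζ) = 2 := by
    refine orderOf_eq_prime (by rw [← map_pow, pow_two, hζ2, map_one]) fun e => S.code.ne ?_
    exact congrArg Subtype.val (hker ζ (by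
      rw [show (8 : ℕ) = 2 * 4 by norm_num, pow_mul, pow_two, hζ2, one_pow]) e)
  obtain ⟨hcard, -⟩ := cent_mk hord (by decide) hζ2
  rw [show Cx (ζ : G) = Subgroup.centralizer ({z} : Set G) from rfl, Setting.card_cent_five S hβ hb5 hb1] at hcard
  set C := Subgroup.centralizer ({QuotientGroup.mk' (Cn β) ζ} : Set Y)
  let ψ : DihedralGroup 4 →* C :=
    ((QuotientGroup.mk' (Cn β)).comp ((Setting.homB S).codRestrict (Cx β) fun a =>
      mem_Cx.2 (Setting.el_fix S hβ (dB_mem a).1))).codRestrict C fun a =>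
        Subgroup.mem_centralizer_singleton_iff.2 (by
          show QuotientGroup.mk' (Cn β) _ * _ = _ * QuotientGroup.mk' (Cn β) _
          rw [← map_mul, ← map_mul]
          exact congrArg _ (Subtype.ext (S.code.ext.central _ (el_mem _ _))))
  have hψ : Function.Injective ψ := by
    refine (injective_iff_map_eq_one ψ).2 fun a h => Setting.homB_inj S ?_
    have h8 : a ^ 8 = 1 := by
      have := pow_card_eq_one' (x := a)
      rwa [DihedralGroup.nat_card] at this
    have := hker ⟨Setting.homB S a, mem_Cx.2 (Setting.el_fix S hβ (dB_mem a).1)⟩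
      (Subtype.ext (by show Setting.homB S a ^ 8 = 1; rw [← map_pow, h8, map_one])) (congrArg Subtype.val h)
    rw [map_one]
    exact congrArg Subtype.val this
  have hbij : Function.Bijective ψ :=
    (Nat.bijective_iff_injective_and_card _).2 ⟨hψ, by
      change 5 * Nat.card C = 40 at hcard
      rw [DihedralGroup.nat_card]; omega⟩
  have h5 := M.five_dvd_quot hord
  rcases D8Order.order_eq (QuotientGroup.mk' (Cn β) ζ) hto (MulEquiv.ofBijective ψ hbij).symm
    (fun a ha => by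
      obtain ⟨w, hw2, hw1, rfl⟩ := lift_invol hord (by decide) ha
      obtain ⟨h, hh, hhw⟩ := Setting.five_invol_conj S hβ hb5 hb1 (mem_Cx.1 w.2) (congrArg Subtype.val hw2)
        fun e => hw1 (Subtype.ext e)
      refine (isConj_iff.2 ⟨QuotientGroup.mk' (Cn β) ⟨h, mem_Cx.2 hh⟩, ?_⟩).symm
      rw [← map_inv, ← map_mul, ← map_mul]
      exact congrArg _ (Subtype.ext hhw)) with e | e
  · rw [show Nat.card Y = 168 from e] at h5; norm_num at h5
  · exact e

end Mdl

end Cfsg.Agent.Invol.Suz.Loc
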