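import Cfsg.Agent.Lib.Invol.Suz.Loc.FiveC

/-!
# The normalizer of a Sylow five-subgroup
-/

set_option autoImplicit false
set_option linter.unusedSectionVars false
set_option linter.style.haveILetI false

namespace Cfsg.Agent.Invol.Suz.Loc

open Cfsg Cfsg.Agent.Classical.BinCoc Cfsg.Agent.Invol.Big Cfsg.Agent.Invol.Big.Code

/-- The hat of an element squaring the five-element. -/
def gh : List ℕ := [74, 17, 106, 54, 56, 34]

/-- The inverse. -/
def ghi : List ℕ := [74, 85, 47, 5, 11, 102]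

theorem gamma_ok : Wok K6 [10, 19, 36, 49] = true ∧ cmp K6 (lift0 [10, 19, 36, 49]) (innH K6 8) = gh ∧
    chkConj K6 gh ghi bh (cmp K6 bh bh) = true := by decide +kernel

theorem two_pow_five (j : ℕ) (h : 2 ^ j % 5 = 1) : 4 ∣ j := by
  rw [← Nat.mod_add_div j 4, pow_add, pow_mul, Nat.mul_mod, Nat.pow_mod (2 ^ 4)] at h
  norm_num at h
  have : j % 4 = 0 ∨ j % 4 = 1 ∨ j % 4 = 2 ∨ j % 4 = 3 := by omega
  rcases this with e | e | e | e
  · exact Nat.dvd_of_mod_eq_zero e
  all_goals (rw [e] at h; norm_num at h)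

section General

variable {G : Type*} [Group G] [Finite G] {x γ : G} {H : Subgroup G}

theorem sq_conj_pow (hγ : γ * x * γ⁻¹ = x ^ 2) : ∀ i : ℕ, γ ^ i * x * (γ ^ i)⁻¹ = x ^ 2 ^ i
  | 0 => by simp
  | i + 1 => by
    calc γ ^ (i + 1) * x * (γ ^ (i + 1))⁻¹ = γ * (γ ^ i * x * (γ ^ i)⁻¹) * γ⁻¹ := by rw [pow_succ']; group
      _ = x ^ 2 ^ (i + 1) := by rw [sq_conj_pow hγ i, ← conj_pow, hγ, ← pow_mul, pow_succ']

/-- An element inducing the squaring gives the whole automorphism group. -/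
theorem card_nz_sq (hx : orderOf x = 5) (hγH : γ ∈ H) (hγ : γ * x * γ⁻¹ = x ^ 2) :
    Nat.card (nz H x) = 4 * Nat.card (cx H x) := by
  haveI : Fact (Nat.Prime 5) := ⟨by norm_num⟩
  obtain ⟨e, he, hN⟩ := index_cx (H := H) hx
  have hle : 4 * Nat.card (cx H x) ≤ Nat.card (nz H x) := by
    have hγn : γ ∈ nz H x := mem_nz_of hx hγH (by rw [hγ]; exact pow_mem (Subgroup.mem_zpowers x) 2)
    let f : Fin 4 × cx H x → nz H x := fun p => ⟨γ ^ p.1.val * (p.2 : G), mul_mem (pow_mem hγn _) (cx_le_nz H x p.2.2)⟩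
    have hf : Function.Injective f := by
      rintro ⟨i, v⟩ ⟨j, w⟩ e
      have e' : γ ^ i.val * (v : G) = γ ^ j.val * (w : G) := congrArg Subtype.val e
      have hv := (mem_cx.1 v.2).2
      have hw := (mem_cx.1 w.2).2
      have h1 : x ^ 2 ^ i.val = x ^ 2 ^ j.val := by
        rw [← sq_conj_pow hγ, ← sq_conj_pow hγ]
        calc γ ^ i.val * x * (γ ^ i.val)⁻¹ = γ ^ i.val * ((v : G) * x * (v : G)⁻¹) * (γ ^ i.val)⁻¹ := by
              rw [hv, mul_inv_cancel_right]
          _ = (γ ^ i.val * (v : G)) * x * (γ ^ i.val * (v : G))⁻¹ := by group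
          _ = (γ ^ j.val * (w : G)) * x * (γ ^ j.val * (w : G))⁻¹ := by rw [e']
          _ = γ ^ j.val * ((w : G) * x * (w : G)⁻¹) * (γ ^ j.val)⁻¹ := by group
          _ = γ ^ j.val * x * (γ ^ j.val)⁻¹ := by rw [hw, mul_inv_cancel_right]
      have h2 := pow_eq_pow_iff_modEq.1 h1
      rw [hx] at h2
      have hij : i = j := by
        fin_cases i <;> fin_cases j <;> first | rfl | (exfalso; revert h2; decide)
      subst hij
      exact Prod.ext rfl (Subtype.ext (mul_left_cancel e'))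
    have := Nat.card_le_card_of_injective f hf
    rwa [Nat.card_prod, Nat.card_fin] at this
  rw [hN] at hle ⊢
  have h4 := Nat.le_of_dvd (by norm_num) he
  have hpos : 0 < Nat.card (cx H x) := Nat.card_pos
  interval_cases e <;> omega

/-- If the whole automorphism group is induced, some element induces the squaring. -/
theorem exists_sq (hx : orderOf x = 5) (h : Nat.card (nz H x) = 4 * Nat.card (cx H x)) :
    ∃ γ ∈ H, γ * x * γ⁻¹ = x ^ 2 := by
  classical
  haveI : Fact (Nat.Prime 5) := ⟨by norm_num⟩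
  haveI := Fintype.ofFinite G
  by_contra hne
  push Not at hne
  have hcard := card_of_orbit (nz H x) (cx H x) x (fun w => ∃ u ∈ nz H x, u * x * u⁻¹ = w)
    (fun v => ⟨fun hv => ⟨cx_le_nz H x hv, (mem_cx.1 hv).2⟩, fun hv => mem_cx.2 ⟨hv.1.1, hv.2⟩⟩)
    (fun w hw => hw) (fun u hu => ⟨u, hu, rfl⟩)
  have hsub : (Finset.univ.filter fun w : G => ∃ u ∈ nz H x, u * x * u⁻¹ = w) ⊆ {x, x ^ 3, x ^ 4} := by
    intro w hw
    obtain ⟨u, hu, rfl⟩ := (Finset.mem_filter.1 hw).2
    obtain ⟨k, hk, he⟩ := Finset.mem_image.1 ((isOfFinOrder_of_finite x).mem_zpowers_iff_mem_range_orderOf.1 (mem_nz hu).2)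
    rw [hx, Finset.mem_range] at hk
    simp only [Finset.mem_insert, Finset.mem_singleton]
    interval_cases k
    · exfalso
      rw [pow_zero, eq_comm, conj_eq_one_iff] at he
      rw [he, orderOf_one] at hx; omega
    · exact Or.inl (by rw [← he, pow_one])
    · exact absurd he.symm (hne u hu.1)
    · exact Or.inr (Or.inl he.symm)
    · exact Or.inr (Or.inr he.symm)
  have h3 := (Finset.card_le_card hsub).trans Finset.card_le_three
  rw [h] at hcard
  have h3' : Nat.card {w : G // ∃ u ∈ nz H x, u * x * u⁻¹ = w} ≤ 3 := by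
    rw [Nat.card_eq_fintype_card, Fintype.card_subtype]; exact h3
  have hpos : 0 < Nat.card (cx H x) := Nat.card_pos
  have := Nat.eq_of_mul_eq_mul_right hpos hcard
  omega

theorem card_Cx_conj (k x : G) : Nat.card (Cx (k * x * k⁻¹)) = Nat.card (Cx x) := by
  refine Nat.card_congr
    { toFun := fun v => ⟨k⁻¹ * v.1 * k, mem_Cx.2 ?_⟩
      invFun := fun v => ⟨k * v.1 * k⁻¹, mem_Cx.2 (by rw [conj_mul, conj_mul, mem_Cx.1 v.2])⟩
      left_inv := fun v => Subtype.ext (by group)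
      right_inv := fun v => Subtype.ext (by group) }
  have := mem_Cx.1 v.2
  calc k⁻¹ * v.1 * k * x = k⁻¹ * (v.1 * (k * x * k⁻¹)) * k := by group
    _ = k⁻¹ * (k * x * k⁻¹ * v.1) * k := by rw [this]
    _ = x * (k⁻¹ * v.1 * k) := by group

end General

variable {G : Type*} [Group G] [Finite G] {z : G} {Q : Subgroup G} {cd : G → ℕ} {β x : G}

/-- An element squaring the five-element. -/
theorem Setting.exists_gamma (S : Setting z Q cd) (hβ : IsHat S.code β bh) (hb5 : β ^ 5 = 1) :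
    ∃ γ, γ * β * γ⁻¹ = β ^ 2 := by
  obtain ⟨hw, hgh, hchk⟩ := gamma_ok
  obtain ⟨d, hd⟩ := exists_lift0 S.code hw
  have hγ := (hd.mul (isHat_el S.code (x := 16) (by decide))).ext_hat hgh
  refine ⟨_, ((hβ.mul hβ).cancel (hγ.conj hβ hchk)).elim (fun e => e.trans (pow_two β).symm) fun e => ?_⟩
  exfalso
  have h5 : (_ : G) ^ 5 = (β * β * z) ^ 5 := congrArg (fun w => w ^ 5) e
  rw [conj_pow, hb5, mul_one, mul_inv_cancel, ((show Commute (β * β) z from comm_mul hβ.comm hβ.comm)).mul_pow,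
    ← pow_two, ← pow_mul, mul_comm 2 5, pow_mul, hb5, one_pow, one_mul,
    show z ^ 5 = z * z * (z * z) * z by simp only [pow_succ, pow_zero, one_mul, mul_assoc], S.code.ext.zz] at h5
  exact S.code.ne (by simpa using h5.symm)

/-- Elements of order five of the first kind. -/
def Bty (β x : G) : Prop := ∃ k : G, k * β * k⁻¹ = x

/-- Elements of order five of the second kind. -/
def Cty (g : ℕ → G) (x : G) : Prop := ∃ k c : G, c ∈ Dg g ∧ orderOf c = 5 ∧ k * c * k⁻¹ = x

namespace Mdl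

variable {S : Setting z Q cd} {g : ℕ → G}

/-- The facts used about an element of order five. -/
theorem kind_facts (M : Mdl S g) (hβ : IsHat S.code β bh) (hb5 : β ^ 5 = 1) (hb1 : β ≠ 1)
    (hx : Bty β x ∨ Cty g x) : orderOf x = 5 ∧
      (Nat.card (Cx x ⧸ Cn x) = 60 ∨ Nat.card (Cx x ⧸ Cn x) = 360) ∧ ∃ γ, γ * x * γ⁻¹ = x ^ 2 := by
  have hord := order_five hb5 hb1
  have trans_ : ∀ {c : G} {n : ℕ} (k : G), orderOf c = 5 → Nat.card (Cx c ⧸ Cn c) = n →
      (∃ γ, γ * c * γ⁻¹ = c ^ 2) → orderOf (k * c * k⁻¹) = 5 ∧ Nat.card (Cx (k * c * k⁻¹) ⧸ Cn (k * c * k⁻¹)) = n ∧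
        ∃ γ, γ * (k * c * k⁻¹) * γ⁻¹ = (k * c * k⁻¹) ^ 2 := by
    rintro c n k ho hn ⟨γ, hγ⟩
    have ho' : orderOf (k * c * k⁻¹) = 5 := by rw [← MulAut.conj_apply, MulEquiv.orderOf_eq, ho]
    refine ⟨ho', ?_, k * γ * k⁻¹, ?_⟩
    · have h := card_Cx_conj k c
      rw [card_Cx, card_Cx, ho, ho', hn] at h
      exact Nat.eq_of_mul_eq_mul_left (by norm_num) h
    · rw [conj_pow, ← hγ]; group
  rcases hx with ⟨k, rfl⟩ | ⟨k, c, hc, ho, rfl⟩
  · obtain ⟨h1, h2, h3⟩ := trans_ k hord (M.card_Cx_b hβ hb5 hb1) (Setting.exists_gamma S hβ hb5)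
    exact ⟨h1, Or.inr h2, h3⟩
  · obtain ⟨hn1, hn2⟩ := M.D_local (Or.inl rfl) (M.mem_L_of_order (Or.inl rfl) hc ho) ho
    obtain ⟨γ, -, hγ⟩ := exists_sq (H := Dg g) ho (by rw [hn1, hn2])
    obtain ⟨h1, h2, h3⟩ := trans_ k ho (M.card_Cx_c hβ hb5 hb1 hc ho) ⟨γ, hγ⟩
    exact ⟨h1, Or.inl h2, h3⟩

/-- The two kinds are different. -/
theorem kinds_ne (M : Mdl S g) (hβ : IsHat S.code β bh) (hb5 : β ^ 5 = 1) {a b : G} (ha : Bty β a) (hb : Cty g b)
    {k : G} (hk : k * b * k⁻¹ ∈ Subgroup.zpowers a) : False := by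
  obtain ⟨l, rfl⟩ := ha
  obtain ⟨m, c, hc, ho, rfl⟩ := hb
  obtain ⟨j, hj⟩ := Subgroup.mem_zpowers_iff.1 hk
  refine M.five_ne hβ hb5 hc ho (k := l⁻¹ * k * m) (Subgroup.mem_zpowers_iff.2 ⟨j, ?_⟩)
  rw [conj_zpow] at hj
  calc β ^ j = l⁻¹ * (l * β ^ j * l⁻¹) * l := by group
    _ = _ := by rw [hj]; group

/-- Every Sylow five-subgroup contains elements of both kinds. -/
theorem exists_kinds (M : Mdl S g) (hb5 : β ^ 5 = 1) (hb1 : β ≠ 1) (P : Sylow 5 G) :
    (∃ a ∈ P, Bty β a) ∧ ∃ b ∈ P, Cty g b := by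
  haveI : Fact (Nat.Prime 5) := ⟨by norm_num⟩
  have key : ∀ y : G, orderOf y = 5 → ∃ k : G, k * y * k⁻¹ ∈ P := fun y hy => by
    obtain ⟨P', hP'⟩ := M.exists_sylow_five hy
    obtain ⟨k, hk⟩ := MulAction.exists_smul_eq G P' P
    refine ⟨k, ?_⟩
    have := Subgroup.smul_mem_pointwise_smul y (MulAut.conj k) _ hP'
    rw [← Sylow.coe_subgroup_smul, hk] at this
    exact this
  obtain ⟨c, hc, ho⟩ := M.exists_order (p := 5) (Or.inl rfl)
  obtain ⟨k, hk⟩ := key β (order_five hb5 hb1)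
  obtain ⟨l, hl⟩ := key c ho
  exact ⟨⟨_, hk, k, rfl⟩, _, hl, l, c, M.L_le hc, ho, rfl⟩

/-- The image of a Sylow subgroup in the quotient of a centralizer. -/
theorem sylow_image (M : Mdl S g) (P : Sylow 5 G) (hxP : x ∈ P) (hx : orderOf x = 5) :
    Nat.card (((P : Subgroup G).subgroupOf (Cx x)).map (QuotientGroup.mk' (Cn x))) = 5 ∧
      (((P : Subgroup G).subgroupOf (Cx x)).map (QuotientGroup.mk' (Cn x))).comap (QuotientGroup.mk' (Cn x)) =
        (P : Subgroup G).subgroupOf (Cx x) := by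
  have hle : Cn x ≤ (P : Subgroup G).subgroupOf (Cx x) := fun v hv =>
    Subgroup.mem_subgroupOf.2 ((Subgroup.zpowers_le.2 hxP) (Subgroup.mem_subgroupOf.1 hv))
  have heq : (((P : Subgroup G).subgroupOf (Cx x)).map (QuotientGroup.mk' (Cn x))).comap (QuotientGroup.mk' (Cn x)) =
      (P : Subgroup G).subgroupOf (Cx x) := Subgroup.comap_map_eq_self (by rwa [QuotientGroup.ker_mk'])
  refine ⟨?_, heq⟩
  have := card_comap_mk (Cn x) (((P : Subgroup G).subgroupOf (Cx x)).map (QuotientGroup.mk' (Cn x)))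
  rw [heq, Nat.card_congr (Subgroup.subgroupOfEquivOfLe (M.sylow_le_Cx P hxP)).toEquiv, M.sylow_five_card P,
    card_Cn, hx] at this
  omega

/-- The centralizer of a Sylow five-subgroup is of odd order. -/
theorem cent_P_odd (M : Mdl S g) (P : Sylow 5 G) {w : G} (hw : ∀ v ∈ P, v * w = w * v) (h2 : w * w = 1) : w = 1 := by
  haveI : Fact (Nat.Prime 2) := ⟨Nat.prime_two⟩
  by_contra h1
  have hle : (P : Subgroup G) ≤ Cx w := fun v hv => mem_Cx.2 (hw v hv)
  have h25 := M.sylow_five_card P ▸ Subgroup.card_dvd_of_le hle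
  rcases M.two_class' w (orderOf_eq_prime (by rw [pow_two]; exact h2) h1) with e | e <;>
    obtain ⟨k, hk⟩ := isConj_iff.1 e
  · rw [← card_Cx_conj k w, hk, Setting.card_C S] at h25
    norm_num at h25
  · rw [← card_Cx_conj k w, hk, show Nat.card (Cx (g 2)) = 161280 from M.card_D] at h25
    norm_num at h25

/-- Elements of order prime to five of the quotient commuting with the image of `P` lift to `C(P)`. -/
theorem lift_cent (M : Mdl S g) (P : Sylow 5 G) (hxP : x ∈ P) (hx : orderOf x = 5) {v : Cx x} {m : ℕ}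
    (hm : m.Coprime 5) (hv : v ^ m = 1)
    (hc : ∀ q ∈ ((P : Subgroup G).subgroupOf (Cx x)).map (QuotientGroup.mk' (Cn x)),
      q * QuotientGroup.mk' (Cn x) v = QuotientGroup.mk' (Cn x) v * q) {u : G} (hu : u ∈ P) :
    u * v = v * u := by
  have hu' : (⟨u, M.sylow_le_Cx P hxP hu⟩ : Cx x) ∈ (P : Subgroup G).subgroupOf (Cx x) := Subgroup.mem_subgroupOf.2 hu
  exact congrArg Subtype.val (comm_of_mk (hx ▸ hm) hv (hc _ (Subgroup.mem_map_of_mem _ hu')))

/-- The centralizer of a Sylow five-subgroup. -/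
theorem cent_P (M : Mdl S g) (hβ : IsHat S.code β bh) (hb5 : β ^ 5 = 1) (hb1 : β ≠ 1) (P : Sylow 5 G) {u : G}
    (hu : ∀ v ∈ P, v * u = u * v) : u ∈ P := by
  classical
  haveI : Fact (Nat.Prime 5) := ⟨by norm_num⟩
  haveI : Fact (Nat.Prime 3) := ⟨Nat.prime_three⟩
  haveI : Fact (Nat.Prime 2) := ⟨Nat.prime_two⟩
  obtain ⟨-, x, hxP, hxC⟩ := M.exists_kinds (g := g) hb5 hb1 P
  obtain ⟨k0, c, hcD, hco, hkx⟩ := hxC
  have hxo : orderOf x = 5 := by rw [← hkx, ← MulAut.conj_apply, MulEquiv.orderOf_eq, hco]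
  have hZ : Nat.card (Cx x) = 300 := by
    rw [← hkx, card_Cx_conj, card_Cx, hco, M.card_Cx_c hβ hb5 hb1 hcD hco]
  set K := Subgroup.centralizer ((P : Subgroup G) : Set G)
  have hPK : (P : Subgroup G) ≤ K := fun v hv => Subgroup.mem_centralizer_iff.2 fun w hw =>
    M.sylow_five_comm P hw hv
  have hKx : K ≤ Cx x := fun v hv => mem_Cx.2 (Subgroup.mem_centralizer_iff.1 hv x hxP).symm
  suffices hK : Nat.card K ≤ 25 by
    have := Subgroup.eq_of_le_of_card_ge hPK (hK.trans (M.sylow_five_card P).ge)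
    show u ∈ (P : Subgroup G)
    rw [this]
    exact Subgroup.mem_centralizer_iff.2 hu
  have h25 : 25 ∣ Nat.card K := M.sylow_five_card P ▸ Subgroup.card_dvd_of_le hPK
  have h300 : Nat.card K ∣ 300 := hZ ▸ Subgroup.card_dvd_of_le hKx
  have hodd : ¬ 2 ∣ Nat.card K := fun h => by
    obtain ⟨⟨w, hw⟩, ho⟩ := exists_prime_orderOf_dvd_card' (G := K) 2 h
    rw [Subgroup.orderOf_mk] at ho
    have := M.cent_P_odd P (w := w) (fun v hv => Subgroup.mem_centralizer_iff.1 hw v hv)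
      (by rw [← pow_two, ← ho, pow_orderOf_eq_one])
    rw [this, orderOf_one] at ho
    omega
  have h3 : ¬ 3 ∣ Nat.card K := fun h => by
    obtain ⟨⟨w, hw⟩, ho⟩ := exists_prime_orderOf_dvd_card' (G := K) 3 h
    rw [Subgroup.orderOf_mk] at ho
    -- pass to the quotient of the centralizer of `x`
    obtain ⟨hb, hcomap⟩ := M.sylow_image P hxP hxo
    set Pb := ((P : Subgroup G).subgroupOf (Cx x)).map (QuotientGroup.mk' (Cn x))
    obtain ⟨⟨f, hfPb⟩, hfo⟩ := exists_prime_orderOf_dvd_card' (G := Pb) 5 (dvd_of_eq hb.symm)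
    rw [Subgroup.orderOf_mk] at hfo
    have hPbf : Subgroup.zpowers f = Pb :=
      Subgroup.eq_of_le_of_card_ge (Subgroup.zpowers_le.2 hfPb) (by rw [hb, Nat.card_zpowers, hfo])
    set e := QuotientGroup.mk' (Cn x) ⟨w, hKx hw⟩
    have heo : orderOf e = 3 := by
      refine orderOf_eq_prime ?_ fun h1 => ?_
      · rw [← map_pow, show (⟨w, hKx hw⟩ : Cx x) ^ 3 = 1 from Subtype.ext (by
          show w ^ 3 = 1
          rw [← ho, pow_orderOf_eq_one]), map_one]
      · have := Subgroup.orderOf_dvd_natCard (Subgroup.zpowers x) (Subgroup.mem_subgroupOf.1 ((QuotientGroup.eq_one_iff _).1 h1))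
        rw [Nat.card_zpowers, hxo, show ((⟨w, hKx hw⟩ : Cx x) : G) = w from rfl, ho] at this
        norm_num at this
    obtain ⟨fv, hfv, rfl⟩ := hfPb
    have hef : e * QuotientGroup.mk' (Cn x) fv = QuotientGroup.mk' (Cn x) fv * e := by
      rw [← map_mul, ← map_mul]
      exact congrArg _ (Subtype.ext (Subgroup.mem_centralizer_iff.1 hw (fv : G) hfv).symm)
    set f := QuotientGroup.mk' (Cn x) fv
    have h60 : Nat.card (Cx x ⧸ Cn x) = 60 := by
      have := card_Cx (x := x)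
      rw [hZ, hxo] at this
      omega
    -- the centralizer of `f` has order fifteen
    have hCodd : ¬ 2 ∣ Nat.card (cx ⊤ f) := fun h2 => by
      obtain ⟨⟨a, ha⟩, hao⟩ := exists_prime_orderOf_dvd_card' (G := cx ⊤ f) 2 h2
      rw [Subgroup.orderOf_mk] at hao
      obtain ⟨v, hv2, hv1, hva⟩ := lift_invol hxo (by decide) hao
      refine hv1 (Subtype.ext (M.cent_P_odd P (w := (v : G)) (fun u hu => ?_) (congrArg Subtype.val hv2)))
      refine M.lift_cent P hxP hxo (m := 2) (by norm_num) (by rw [pow_two]; exact hv2) (fun q hq => ?_) hu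
      rw [hva]
      change q ∈ Pb at hq
      rw [← hPbf] at hq
      obtain ⟨j, rfl⟩ := Subgroup.mem_zpowers_iff.1 hq
      exact ((show Commute a f from (mem_cx.1 ha).2).zpow_right j).eq.symm
    obtain ⟨n5, hn5, hn⟩ := sylow_count (H := (⊤ : Subgroup (Cx x ⧸ Cn x))) hfo (Subgroup.mem_top f)
      (by rw [Subgroup.card_top, h60]; norm_num)
    obtain ⟨d, hd, hnc⟩ := index_cx (H := (⊤ : Subgroup (Cx x ⧸ Cn x))) hfo
    rw [Subgroup.card_top, h60, hnc] at hn
    have h15 : 15 ∣ Nat.card (cx ⊤ f) := by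
      refine (Nat.Coprime.mul_dvd_of_dvd_of_dvd (by norm_num : Nat.Coprime 3 5) ?_ ?_)
      · exact heo ▸ Subgroup.orderOf_dvd_natCard _ (mem_cx.2 ⟨Subgroup.mem_top e, hef⟩)
      · exact hfo ▸ Subgroup.orderOf_dvd_natCard _ (mem_cx.2 ⟨Subgroup.mem_top f, rfl⟩)
    have h15' : Nat.card (cx ⊤ f) = 15 ∧ d = 4 := by
      obtain ⟨m, hm⟩ := h15
      rw [hm] at hn hCodd ⊢
      have : d ≤ 4 := Nat.le_of_dvd (by norm_num) hd
      have hmd : m * d * n5 = 4 := by
        refine Nat.eq_of_mul_eq_mul_left (show 0 < 15 by norm_num) ?_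
        rw [show 15 * (m * d * n5) = 15 * m * d * n5 by ring, ← hn]
      have hm4 : m ∣ 4 := ⟨d * n5, by rw [← hmd]; ring⟩
      have := Nat.le_of_dvd (by norm_num) hm4
      interval_cases m <;> (try omega)
      interval_cases d <;> norm_num at hd <;> omega
    obtain ⟨γ, -, hγ⟩ := exists_sq (H := (⊤ : Subgroup (Cx x ⧸ Cn x))) hfo (by rw [hnc, h15'.1, h15'.2])
    -- an element of order four
    have h4 : 4 ∣ orderOf γ := by
      have h1 := sq_conj_pow hγ (orderOf γ)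
      rw [pow_orderOf_eq_one, one_mul, inv_one, mul_one] at h1
      have h2 := pow_eq_pow_iff_modEq.1 (show f ^ 1 = f ^ 2 ^ orderOf γ by rw [pow_one]; exact h1)
      rw [hfo, Nat.ModEq] at h2
      exact two_pow_five _ h2.symm
    set a := γ ^ (orderOf γ / 2)
    have hao : orderOf a = 2 := by
      obtain ⟨j, hj⟩ := h4
      have hpos : 0 < orderOf γ := orderOf_pos γ
      rw [orderOf_pow_of_dvd (by omega) (Nat.div_dvd_of_dvd (by omega)), Nat.div_div_self (by omega) (by omega)]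
    obtain ⟨kk, hkk⟩ := isConj_iff.1 (show IsConj c x from isConj_iff.2 ⟨k0, hkx⟩)
    have hB : ∀ v : G, v * x = x * v → v * v = 1 → v ≠ 1 → IsConj v (g 2) := fun v hvx hv2 hv1 => by
      refine (isConj_iff.2 ⟨k0⁻¹, rfl⟩).trans
        (M.invol_B hβ hb5 hb1 hcD hco (k0⁻¹ * v * k0⁻¹⁻¹) ?_ (invol_conj _ hv2) fun e => hv1 (conj_eq_one_iff.1 e))
      rw [← hkx] at hvx
      calc k0⁻¹ * v * k0⁻¹⁻¹ * c = k0⁻¹ * (v * (k0 * c * k0⁻¹)) * k0 := by group
        _ = k0⁻¹ * (k0 * c * k0⁻¹ * v) * k0 := by rw [hvx]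
        _ = c * (k0⁻¹ * v * k0⁻¹⁻¹) := by group
    have := orderOf_dvd_of_pow_eq_one ((M.quot_four (Or.inl rfl) hxo hB hao).2 γ
      (Subgroup.mem_centralizer_singleton_iff.2 ((Commute.refl γ).pow_right _).eq))
    have := Nat.le_of_dvd (by norm_num) (h4.trans this)
    omega
  obtain ⟨m, hm⟩ := h25
  rw [hm] at hodd h3 h300 ⊢
  have hm12 : m ∣ 12 := Nat.dvd_of_mul_dvd_mul_left (by norm_num : 0 < 25) (by simpa using h300)
  have := Nat.le_of_dvd (by norm_num) hm12
  interval_cases m <;> omega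

/-- The part of the normalizer centralizing an element of either kind. -/
theorem cx_norm (M : Mdl S g) (hβ : IsHat S.code β bh) (hb5 : β ^ 5 = 1) (hb1 : β ≠ 1) (P : Sylow 5 G)
    (hxP : x ∈ P) (hx : Bty β x ∨ Cty g x) :
    Nat.card (cx (Subgroup.normalizer ((P : Subgroup G) : Set G)) x) = 50 ∧
      ∃ γ ∈ Subgroup.normalizer ((P : Subgroup G) : Set G), γ * x * γ⁻¹ = x ^ 2 := by
  classical
  haveI : Fact (Nat.Prime 5) := ⟨by norm_num⟩
  obtain ⟨hxo, hY, γ, hγ⟩ := M.kind_facts hβ hb5 hb1 hx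
  constructor
  · obtain ⟨hb, hcomap⟩ := M.sylow_image P hxP hxo
    set Pb := ((P : Subgroup G).subgroupOf (Cx x)).map (QuotientGroup.mk' (Cn x))
    obtain ⟨⟨f, hfPb⟩, hfo⟩ := exists_prime_orderOf_dvd_card' (G := Pb) 5 (dvd_of_eq hb.symm)
    rw [Subgroup.orderOf_mk] at hfo
    have hPbf : Subgroup.zpowers f = Pb :=
      Subgroup.eq_of_le_of_card_ge (Subgroup.zpowers_le.2 hfPb) (by rw [hb, Nat.card_zpowers, hfo])
    -- the centralizer of `f` is a five-group
    have h5only : ∀ q : ℕ, q.Prime → q ∣ Nat.card (cx ⊤ f) → q = 5 := fun q hq hdvd => by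
      by_contra h5
      haveI : Fact q.Prime := ⟨hq⟩
      obtain ⟨⟨a, ha⟩, hao⟩ := exists_prime_orderOf_dvd_card' (G := cx ⊤ f) q hdvd
      rw [Subgroup.orderOf_mk] at hao
      obtain ⟨v0, rfl⟩ := QuotientGroup.mk'_surjective (Cn x) a
      have hcop : q.Coprime 5 := (Nat.coprime_primes hq (by norm_num)).2 h5
      set v := v0 ^ 5
      have hv0 : v0 ^ q ∈ Cn x := (QuotientGroup.eq_one_iff _).1
        (show QuotientGroup.mk' (Cn x) (v0 ^ q) = 1 by rw [map_pow, ← hao, pow_orderOf_eq_one])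
      have hv : v ^ q = 1 := by
        rw [← pow_mul, mul_comm, pow_mul]
        refine orderOf_dvd_iff_pow_eq_one.1 ?_
        rw [← hxo, ← card_Cn (x := x)]
        exact Subgroup.orderOf_dvd_natCard _ hv0
      have hvP : (v : G) ∈ P := M.cent_P hβ hb5 hb1 P fun u hu => M.lift_cent P hxP hxo hcop hv (fun w hw => by
        rw [map_pow]
        change w ∈ Pb at hw
        rw [← hPbf] at hw
        obtain ⟨j, rfl⟩ := Subgroup.mem_zpowers_iff.1 hw
        exact (((show Commute (QuotientGroup.mk' (Cn x) v0) f from (mem_cx.1 ha).2).pow_left 5).zpow_right j).eq.symm) hu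
      have hv5 : v = 1 := by
        refine orderOf_eq_one_iff.1 (Nat.eq_one_of_dvd_coprimes (hcop.pow_right 2) (orderOf_dvd_of_pow_eq_one hv) ?_)
        rw [← Subgroup.orderOf_coe, show 5 ^ 2 = Nat.card (P : Subgroup G) by rw [M.sylow_five_card P]; norm_num]
        exact Subgroup.orderOf_dvd_natCard _ hvP
      have : orderOf (QuotientGroup.mk' (Cn x) v0) ∣ 5 :=
        orderOf_dvd_of_pow_eq_one (by rw [← map_pow, show v0 ^ 5 = v from rfl, hv5, map_one])
      rw [hao] at this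
      exact h5 ((Nat.prime_dvd_prime_iff_eq hq (by norm_num)).1 this)
    have hc5 : Nat.card (cx ⊤ f) = 5 := by
      have hpw := Nat.eq_prime_pow_of_unique_prime_dvd Nat.card_pos.ne'
        (fun {q} hq hd => h5only q hq hd)
      have h5 : 5 ∣ Nat.card (cx ⊤ f) := hfo ▸ Subgroup.orderOf_dvd_natCard _ (mem_cx.2 ⟨Subgroup.mem_top f, rfl⟩)
      have hdiv : Nat.card (cx ⊤ f) ∣ 360 := by
        refine (Subgroup.card_subgroup_dvd_card _).trans ?_
        rcases hY with e | e <;> rw [e] <;> norm_num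
      generalize (Nat.card (cx ⊤ f)).primeFactorsList.length = n at hpw
      rw [hpw] at h5 hdiv ⊢
      rcases n with _ | _ | n
      · norm_num at h5
      · norm_num
      · exfalso
        have := (pow_dvd_pow 5 (show 2 ≤ n + 1 + 1 by omega)).trans hdiv
        norm_num at this
    obtain ⟨n5, hn5, hn⟩ := sylow_count (H := (⊤ : Subgroup (Cx x ⧸ Cn x))) hfo (Subgroup.mem_top f)
      (by rw [Subgroup.card_top]; rcases hY with e | e <;> rw [e] <;> norm_num)
    obtain ⟨d, hd, hnc⟩ := index_cx (H := (⊤ : Subgroup (Cx x ⧸ Cn x))) hfo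
    rw [Subgroup.card_top, hnc, hc5] at hn
    have hN10 : Nat.card (nz ⊤ f) = 10 := by
      rw [hnc, hc5]
      have := Nat.le_of_dvd (by norm_num) hd
      rcases hY with e | e <;> rw [e] at hn <;> interval_cases d <;> omega
    have hcm : (nz ⊤ f).comap (QuotientGroup.mk' (Cn x)) =
        (cx (Subgroup.normalizer ((P : Subgroup G) : Set G)) x).subgroupOf (Cx x) := by
      ext v
      rw [Subgroup.mem_comap, Subgroup.mem_subgroupOf, Subgroup.mem_inf, Subgroup.mem_inf, hPbf]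
      constructor
      · intro hv
        refine ⟨Subgroup.mem_normalizer_iff.2 fun u => ⟨fun hu => ?_, fun hu => ?_⟩, v.2⟩
        · have hu' : QuotientGroup.mk' (Cn x) ⟨u, M.sylow_le_Cx P hxP hu⟩ ∈ Pb := Subgroup.mem_map_of_mem _ hu
          have := (Subgroup.mem_normalizer_iff.1 hv.2 _).1 hu'
          rw [← map_inv, ← map_mul, ← map_mul, ← Subgroup.mem_comap, hcomap] at this
          exact this
        · have h1 : (v : G) * u * (v : G)⁻¹ ∈ P := hu
          have huC : u ∈ Cx x := by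
            rw [show u = (v : G)⁻¹ * ((v : G) * u * (v : G)⁻¹) * v by group]
            exact mul_mem (mul_mem (inv_mem v.2) (M.sylow_le_Cx P hxP h1)) v.2
          have hu' : QuotientGroup.mk' (Cn x) (v * ⟨u, huC⟩ * v⁻¹) ∈ Pb := Subgroup.mem_map_of_mem _ h1
          rw [map_mul, map_mul, map_inv] at hu'
          have := (Subgroup.mem_normalizer_iff.1 hv.2 _).2 hu'
          rw [← Subgroup.mem_comap, hcomap] at this
          exact this
      · rintro ⟨hv, -⟩
        refine ⟨Subgroup.mem_top _, Subgroup.mem_normalizer_iff.2 fun q => ?_⟩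
        obtain ⟨u, rfl⟩ := QuotientGroup.mk'_surjective (Cn x) q
        rw [← map_inv, ← map_mul, ← map_mul]
        show QuotientGroup.mk' (Cn x) u ∈ Pb ↔ QuotientGroup.mk' (Cn x) (v * u * v⁻¹) ∈ Pb
        rw [← Subgroup.mem_comap, ← Subgroup.mem_comap, hcomap]
        exact Subgroup.mem_normalizer_iff.1 hv u
    have := card_comap_mk (Cn x) (nz ⊤ f)
    rw [hcm, card_Cn, hxo, hN10, Nat.card_congr (Subgroup.subgroupOfEquivOfLe
      (inf_le_right : cx (Subgroup.normalizer ((P : Subgroup G) : Set G)) x ≤ Cx x)).toEquiv] at this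
    exact this
  · -- correct the squaring element by the centralizer
    set P' : Sylow 5 G := γ • P
    have hx2 : x ^ 2 ∈ P' := by
      have := Subgroup.smul_mem_pointwise_smul x (MulAut.conj γ) _ hxP
      rw [← Sylow.coe_subgroup_smul] at this
      change γ * x * γ⁻¹ ∈ (P' : Subgroup G) at this
      rw [hγ] at this
      exact this
    have hxP' : x ∈ P' := by
      have h6 : (x ^ 2) ^ 3 = x := by
        rw [← pow_mul, show 2 * 3 = 5 + 1 by norm_num, pow_succ, ← hxo, pow_orderOf_eq_one, one_mul]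
      rw [← h6]; exact pow_mem hx2 3
    have hle := M.sylow_le_Cx P hxP
    have hle' := M.sylow_le_Cx P' hxP'
    obtain ⟨h, hh⟩ := MulAction.exists_smul_eq (Cx x) (P'.subtype hle') (P.subtype hle)
    have hsub : (h : G) • (P' : Sylow 5 G) = P := by
      refine Sylow.ext ?_
      rw [Sylow.coe_subgroup_smul]
      refine Subgroup.eq_of_le_of_card_ge ?_ ?_
      · intro w hw
        rw [Subgroup.mem_smul_pointwise_iff_exists] at hw
        obtain ⟨u, hu, rfl⟩ := hw
        have h1 : (⟨u, hle' hu⟩ : Cx x) ∈ ((P'.subtype hle' : Sylow 5 (Cx x)) : Subgroup (Cx x)) := hu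
        have h2 := Subgroup.smul_mem_pointwise_smul _ (MulAut.conj h) _ h1
        rw [← Sylow.coe_subgroup_smul, hh] at h2
        exact h2
      · rw [← Sylow.coe_subgroup_smul, M.sylow_five_card, M.sylow_five_card]
    refine ⟨(h : G) * γ, ?_, ?_⟩
    · exact Sylow.smul_eq_iff_mem_normalizer.1 (by rw [mul_smul]; exact hsub)
    · rw [show (h : G) * γ * x * ((h : G) * γ)⁻¹ = (h : G) * (γ * x * γ⁻¹) * (h : G)⁻¹ by group, hγ]
      exact mul_inv_eq_iff_eq_mul.2 ((show Commute (h : G) x from mem_Cx.1 h.2).pow_right 2).eq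

/-- The order of the normalizer, and the two orbits on the elements. -/
theorem norm_five (M : Mdl S g) (hβ : IsHat S.code β bh) (hb5 : β ^ 5 = 1) (hb1 : β ≠ 1) (P : Sylow 5 G) :
    Nat.card (Subgroup.normalizer ((P : Subgroup G) : Set G)) = 600 ∧
      ∀ u ∈ P, u ≠ 1 → Bty β u ∨ Cty g u := by
  classical
  haveI : Fact (Nat.Prime 5) := ⟨by norm_num⟩
  haveI := Fintype.ofFinite G
  obtain ⟨⟨a, haP, ha⟩, b, hbP, hb⟩ := M.exists_kinds (g := g) hb5 hb1 P
  set N := Subgroup.normalizer ((P : Subgroup G) : Set G)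
  set O : G → Finset G := fun x => Finset.univ.filter fun w => ∃ n ∈ N, n * x * n⁻¹ = w with hO
  have horb : ∀ x ∈ P, (Bty β x ∨ Cty g x) → Nat.card N = (O x).card * 50 ∧ 200 ∣ Nat.card N ∧
      O x ⊆ (Finset.univ.filter fun w => w ∈ (P : Subgroup G)).erase 1 := by
    intro x hxP hx
    obtain ⟨h50, γ, hγN, hγ⟩ := M.cx_norm hβ hb5 hb1 P hxP hx
    have hxo := (M.kind_facts hβ hb5 hb1 hx).1
    have := card_of_orbit N (cx N x) x (fun w => ∃ n ∈ N, n * x * n⁻¹ = w) (fun v => mem_cx)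
      (fun w hw => hw) (fun n hn => ⟨n, hn, rfl⟩)
    refine ⟨?_, ?_, fun w hw => ?_⟩
    · rw [this, h50, Nat.card_eq_fintype_card, Fintype.card_subtype]
    · rw [show 200 = 4 * Nat.card (cx N x) by rw [h50], ← card_nz_sq hxo hγN hγ]
      exact Subgroup.card_dvd_of_le inf_le_left
    · obtain ⟨n, hn, rfl⟩ := (Finset.mem_filter.1 hw).2
      refine Finset.mem_erase.2 ⟨fun e => ?_, Finset.mem_filter.2 ⟨Finset.mem_univ _,
        (Subgroup.mem_normalizer_iff.1 hn x).1 hxP⟩⟩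
      rw [conj_eq_one_iff] at e
      rw [e, orderOf_one] at hxo
      omega
  obtain ⟨ha1, ha2, ha3⟩ := horb a haP (Or.inl ha)
  obtain ⟨hb1', -, hb3⟩ := horb b hbP (Or.inr hb)
  have hdisj : Disjoint (O a) (O b) := by
    rw [Finset.disjoint_left]
    intro w hwa hwb
    obtain ⟨n, -, hn⟩ := (Finset.mem_filter.1 hwa).2
    obtain ⟨m, -, hm⟩ := (Finset.mem_filter.1 hwb).2
    refine M.kinds_ne hβ hb5 ha hb (k := n⁻¹ * m) ?_
    rw [show n⁻¹ * m * b * (n⁻¹ * m)⁻¹ = n⁻¹ * (m * b * m⁻¹) * n by group, hm, ← hn,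
      show n⁻¹ * (n * a * n⁻¹) * n = a by group]
    exact Subgroup.mem_zpowers a
  have hsub := Finset.union_subset ha3 hb3
  have h24 : ((Finset.univ.filter fun w => w ∈ (P : Subgroup G)).erase 1).card = 24 := by
    rw [Finset.card_erase_of_mem (by simp [one_mem]), ← Fintype.card_subtype,
      ← Nat.card_eq_fintype_card, show Nat.card {w // w ∈ (P : Subgroup G)} = 25 from M.sylow_five_card P]
  have hle := Finset.card_le_card hsub
  rw [Finset.card_union_of_disjoint hdisj, h24] at hle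
  -- the congruence of Sylow
  have hn5 := card_sylow_modEq_one 5 G
  have hG : Nat.card N * Nat.card (Sylow 5 G) = 448345497600 := by
    rw [P.card_eq_index_normalizer, ← M.card_G]
    exact Subgroup.card_mul_index _
  obtain ⟨m, hm⟩ := ha2
  rw [hm] at hG ha1 hb1'
  have h8 : 8 * m * Nat.card (Sylow 5 G) = 17933819904 := by
    refine Nat.eq_of_mul_eq_mul_left (show 0 < 25 by norm_num) ?_
    rw [show 25 * (8 * m * Nat.card (Sylow 5 G)) = 200 * m * Nat.card (Sylow 5 G) by ring, hG]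
  have hmod : 8 * m % 5 = 4 := by
    have := congrArg (· % 5) h8
    simp only [Nat.mul_mod (8 * m)] at this
    rw [show Nat.card (Sylow 5 G) % 5 = 1 from hn5, mul_one, Nat.mod_mod] at this
    exact this
  have hm3 : m = 3 := by omega
  subst hm3
  refine ⟨by rw [hm], fun u hu hu1 => ?_⟩
  have heq := Finset.eq_of_subset_of_card_le hsub (by rw [Finset.card_union_of_disjoint hdisj, h24]; omega)
  have : u ∈ O a ∪ O b := heq ▸ Finset.mem_erase.2 ⟨hu1, Finset.mem_filter.2 ⟨Finset.mem_univ _, hu⟩⟩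
  rcases Finset.mem_union.1 this with h | h <;> obtain ⟨n, -, hn⟩ := (Finset.mem_filter.1 h).2
  · obtain ⟨k, hk⟩ := ha
    exact Or.inl ⟨n * k, by rw [← hn, ← hk]; group⟩
  · obtain ⟨k, c, hc, ho, hk⟩ := hb
    exact Or.inr ⟨n * k, c, hc, ho, by rw [← hn, ← hk]; group⟩

end Mdl

end Cfsg.Agent.Invol.Suz.Loc
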