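import Cfsg.Agent.Lib.Invol.Suz.Loc.FiveN

/-!
# The two classes of subgroups of order five and the quotient of the normalizer
-/

set_option autoImplicit false
set_option linter.unusedSectionVars false
set_option linter.style.haveILetI false

namespace Cfsg.Agent.Invol.Suz.Loc

open Cfsg Cfsg.Agent.Classical.BinCoc Cfsg.Agent.Invol.Big Cfsg.Agent.Invol.Big.Code

theorem perm_three : ∀ a b : Equiv.Perm (Fin 3), a * a = 1 → a ≠ 1 → b * b * b = 1 → b ≠ 1 → a * b * a = b⁻¹ := by
  decide +kernel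

/-- The dihedral group of order six in terms of two elements. -/
def dihHom {H : Type*} [Group H] (r y : H) (hr : r * r = 1) (hy : y ^ 3 = 1) (hry : r * y * r = y⁻¹) :
    DihedralGroup 3 →* H := by
  have hpow : ∀ i j : ZMod 3, y ^ (i + j).val = y ^ i.val * y ^ j.val := fun i j => by
    rw [ZMod.val_add, ← pow_add, ← pow_mod_orderOf y ((i.val + j.val) % 3), Nat.mod_mod_of_dvd _
      (orderOf_dvd_of_pow_eq_one hy), pow_mod_orderOf]
  have hneg : ∀ i : ℕ, y ^ i * r = r * (y ^ i)⁻¹ := fun i => by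
    have hri : r⁻¹ = r := inv_eq_of_mul_eq_one_right hr
    calc y ^ i * r = r * (r * y * r⁻¹) ^ i := by
          rw [conj_pow, hri]
          calc y ^ i * r = (r * r) * (y ^ i * r) := by rw [hr, one_mul]
            _ = _ := by group
      _ = r * (y ^ i)⁻¹ := by rw [hri, hry, inv_pow]
  have hsub : ∀ i j : ZMod 3, y ^ (j - i).val = (y ^ i.val)⁻¹ * y ^ j.val := fun i j => by
    rw [eq_inv_mul_iff_mul_eq, ← hpow, add_sub_cancel]
  exact
    { toFun := fun d => match d with
        | .r i => y ^ i.val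
        | .sr i => r * y ^ i.val
      map_one' := by show y ^ (0 : ZMod 3).val = 1; simp
      map_mul' := fun a b => by
        cases a with
        | r i => cases b with
          | r j => exact hpow i j
          | sr j =>
            show r * y ^ (j - i).val = y ^ i.val * (r * y ^ j.val)
            rw [← mul_assoc, hneg, hsub, mul_assoc]
        | sr i => cases b with
          | r j =>
            show r * y ^ (i + j).val = r * y ^ i.val * y ^ j.val
            rw [hpow, mul_assoc]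
          | sr j =>
            show y ^ (j - i).val = r * y ^ i.val * (r * y ^ j.val)
            rw [hsub, show r * y ^ i.val * (r * y ^ j.val) = r * (y ^ i.val * r) * y ^ j.val by group, hneg,
              ← mul_assoc r r, hr, one_mul] }

variable {G : Type*} [Group G] [Finite G] {z : G} {Q : Subgroup G} {cd : G → ℕ} {β : G}

/-- Two subgroups of order five generate the Sylow subgroup. -/
theorem gen_of_lines {P : Subgroup G} (hP : Nat.card P = 25) {u v : G} (hu : u ∈ P) (hv : v ∈ P)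
    (huo : orderOf u = 5) (hvo : orderOf v = 5) (hne : Subgroup.zpowers u ≠ Subgroup.zpowers v) :
    Subgroup.zpowers u ⊔ Subgroup.zpowers v = P := by
  set R := Subgroup.zpowers u ⊔ Subgroup.zpowers v
  have hle : R ≤ P := sup_le (Subgroup.zpowers_le.2 hu) (Subgroup.zpowers_le.2 hv)
  refine Subgroup.eq_of_le_of_card_ge hle ?_
  obtain ⟨j, hj, hjR⟩ := (Nat.dvd_prime_pow (by norm_num : Nat.Prime 5)).1
    (show Nat.card R ∣ 5 ^ 2 by rw [show (5 : ℕ) ^ 2 = 25 by norm_num, ← hP]; exact Subgroup.card_dvd_of_le hle)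
  have h5 : Nat.card (Subgroup.zpowers u) = 5 := by rw [Nat.card_zpowers, huo]
  have h1 : 5 ≤ Nat.card R := h5 ▸ Subgroup.card_le_of_le le_sup_left
  rw [hP, hjR]
  interval_cases j
  · rw [hjR] at h1; norm_num at h1
  · exfalso
    refine hne (((Subgroup.eq_of_le_of_card_ge le_sup_left (hjR.trans_le ?_)).trans
      (Subgroup.eq_of_le_of_card_ge le_sup_right (hjR.trans_le ?_)).symm))
    · rw [h5]; norm_num
    · rw [Nat.card_zpowers, hvo]; norm_num
  · norm_num

namespace Mdl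

variable {S : Setting z Q cd} {g : ℕ → G}

/-- The quotient of the normalizer. -/
theorem norm_quot (M : Mdl S g) (hβ : IsHat S.code β bh) (hb5 : β ^ 5 = 1) (hb1 : β ≠ 1) (P : Sylow 5 G) :
    Nonempty (↥(Subgroup.normalizer ((P : Subgroup G) : Set G)) ⧸
      (P : Subgroup G).subgroupOf (Subgroup.normalizer ((P : Subgroup G) : Set G)) ≃*
        Multiplicative (ZMod 4) × Equiv.Perm (Fin 3)) := by
  classical
  haveI : Fact (Nat.Prime 5) := ⟨by norm_num⟩
  haveI : Fact (Nat.Prime 2) := ⟨Nat.prime_two⟩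
  haveI : Fact (Nat.Prime 3) := ⟨Nat.prime_three⟩
  obtain ⟨⟨a, haP, ha⟩, b, hbP, hb⟩ := M.exists_kinds (g := g) hb5 hb1 P
  set N := Subgroup.normalizer ((P : Subgroup G) : Set G)
  obtain ⟨hN, -⟩ := M.norm_five hβ hb5 hb1 P
  obtain ⟨ha50, γa, hγaN, hγa⟩ := M.cx_norm hβ hb5 hb1 P haP (Or.inl ha)
  obtain ⟨hb50, -⟩ := M.cx_norm hβ hb5 hb1 P hbP (Or.inr hb)
  have hao := (M.kind_facts hβ hb5 hb1 (Or.inl ha)).1
  have hbo := (M.kind_facts hβ hb5 hb1 (Or.inr hb)).1
  have hP25 := M.sylow_five_card P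
  have hPN : (P : Subgroup G) ≤ N := Subgroup.le_normalizer
  -- the action on the three lines
  set S0 : Subgroup N := (nz N a).subgroupOf N
  have hS0 : S0.index = 3 := by
    have h := S0.card_mul_index
    rw [Nat.card_congr (Subgroup.subgroupOfEquivOfLe (inf_le_left : nz N a ≤ N)).toEquiv,
      card_nz_sq hao hγaN hγa, ha50, hN] at h
    omega
  have h3 : Nat.card (N ⧸ S0) = 3 := by rw [← Subgroup.index_eq_card]; exact hS0
  let φ : N →* Equiv.Perm (N ⧸ S0) := MulAction.toPermHom N (N ⧸ S0)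
  have hker : φ.ker = S0.normalCore := (Subgroup.normalCore_eq_ker S0).symm
  -- elements of the kernel normalize the three lines
  have hline : ∀ k ∈ φ.ker, ∀ n : N, (k : G) * ((n : G) * a * (n : G)⁻¹) * (k : G)⁻¹ ∈
      Subgroup.zpowers ((n : G) * a * (n : G)⁻¹) := by
    intro k hk n
    rw [hker] at hk
    have h1 : n⁻¹ * k * n ∈ S0 := by
      simpa using S0.normalCore_le ((Subgroup.normalCore_normal S0).conj_mem k hk n⁻¹)
    obtain ⟨j, hj⟩ := Subgroup.mem_zpowers_iff.1 (mem_nz (Subgroup.mem_subgroupOf.1 h1)).2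
    refine Subgroup.mem_zpowers_iff.2 ⟨j, ?_⟩
    rw [conj_zpow, hj]
    simp only [Subgroup.coe_mul, Subgroup.coe_inv]
    group
  -- three different lines
  obtain ⟨q0, q1, q2, h01, h02, h12⟩ : ∃ q0 q1 q2 : N ⧸ S0, q0 = ((1 : N) : N ⧸ S0) ∧ q1 ≠ q0 ∧ q2 ≠ q0 ∧ q1 ≠ q2 := by
    haveI := Fintype.ofFinite (N ⧸ S0)
    have hc : (Finset.univ.erase ((1 : N) : N ⧸ S0)).card = 2 := by
      rw [Finset.card_erase_of_mem (Finset.mem_univ _), Finset.card_univ, ← Nat.card_eq_fintype_card, h3]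
    obtain ⟨q1, q2, hne, hq⟩ := Finset.card_eq_two.1 hc
    have hq1 : q1 ∈ Finset.univ.erase ((1 : N) : N ⧸ S0) := by rw [hq]; simp
    have hq2 : q2 ∈ Finset.univ.erase ((1 : N) : N ⧸ S0) := by rw [hq]; simp
    exact ⟨_, q1, q2, rfl, (Finset.mem_erase.1 hq1).1, (Finset.mem_erase.1 hq2).1, hne⟩
  obtain ⟨h12, h12'⟩ := h12
  obtain ⟨n1, rfl⟩ := QuotientGroup.mk_surjective q1
  obtain ⟨n2, rfl⟩ := QuotientGroup.mk_surjective q2
  subst h01
  have hlne : ∀ n m : N, (n : N ⧸ S0) ≠ (m : N ⧸ S0) →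
      Subgroup.zpowers ((n : G) * a * (n : G)⁻¹) ≠ Subgroup.zpowers ((m : G) * a * (m : G)⁻¹) := by
    intro n m hne e
    refine hne (QuotientGroup.eq.2 (Subgroup.mem_subgroupOf.2 (mem_nz_of hao (n⁻¹ * m).2 ?_)))
    have hm : (m : G) * a * (m : G)⁻¹ ∈ Subgroup.zpowers ((n : G) * a * (n : G)⁻¹) := e ▸ Subgroup.mem_zpowers _
    obtain ⟨j, hj⟩ := Subgroup.mem_zpowers_iff.1 hm
    refine Subgroup.mem_zpowers_iff.2 ⟨j, ?_⟩
    rw [conj_zpow] at hj
    simp only [Subgroup.coe_mul, Subgroup.coe_inv]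
    calc a ^ j = (n : G)⁻¹ * ((n : G) * a ^ j * (n : G)⁻¹) * n := by group
      _ = _ := by rw [hj]; group
  set x1 := (n1 : G) * a * (n1 : G)⁻¹
  set x2 := (n2 : G) * a * (n2 : G)⁻¹
  have hx1P : x1 ∈ P := (Subgroup.mem_normalizer_iff.1 n1.2 a).1 haP
  have hx2P : x2 ∈ P := (Subgroup.mem_normalizer_iff.1 n2.2 a).1 haP
  have hx1o : orderOf x1 = 5 := by rw [← hao]; exact MulEquiv.orderOf_eq (MulAut.conj (n1 : G)) a
  have hx2o : orderOf x2 = 5 := by rw [← hao]; exact MulEquiv.orderOf_eq (MulAut.conj (n2 : G)) a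
  have d1 : Subgroup.zpowers a ≠ Subgroup.zpowers x1 := by
    have := hlne 1 n1 h02.symm
    simpa using this
  have d2 : Subgroup.zpowers a ≠ Subgroup.zpowers x2 := by
    have := hlne 1 n2 h12.symm
    simpa using this
  have d12 : Subgroup.zpowers x1 ≠ Subgroup.zpowers x2 := hlne n1 n2 h12'
  have hg1 := gen_of_lines hP25 haP hx1P hao hx1o d1
  have hg2 := gen_of_lines hP25 haP hx2P hao hx2o d2
  -- an element of the kernel acts as a power map
  have hpow : ∀ k ∈ φ.ker, ∃ r : ℤ, ∀ v ∈ P, (k : G) * v * (k : G)⁻¹ = v ^ r := by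
    intro k hk
    obtain ⟨r, hr⟩ := Subgroup.mem_zpowers_iff.1 (by simpa using hline k hk 1 :
      (k : G) * a * (k : G)⁻¹ ∈ Subgroup.zpowers a)
    refine ⟨r, ?_⟩
    let T : Subgroup G :=
      { carrier := {v | v ∈ P ∧ (k : G) * v * (k : G)⁻¹ * (v ^ r)⁻¹ ∈ Subgroup.zpowers x1}
        mul_mem' := fun {v w} hv hw => ⟨mul_mem hv.1 hw.1, by
          have hkP : ∀ u ∈ P, (k : G) * u * (k : G)⁻¹ ∈ P := fun u hu => (Subgroup.mem_normalizer_iff.1 k.2 u).1 hu
          have hc := M.sylow_five_comm P (mul_mem (hkP w hw.1) (inv_mem (zpow_mem hw.1 r)))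
            (inv_mem (zpow_mem hv.1 r))
          rw [(show Commute v w from M.sylow_five_comm P hv.1 hw.1).mul_zpow,
            show (k : G) * (v * w) * (k : G)⁻¹ * (v ^ r * w ^ r)⁻¹ =
              (k : G) * v * (k : G)⁻¹ * ((k : G) * w * (k : G)⁻¹ * (w ^ r)⁻¹ * (v ^ r)⁻¹) by group, hc, ← mul_assoc]
          exact mul_mem hv.2 hw.2⟩
        one_mem' := ⟨one_mem _, by simp⟩
        inv_mem' := fun {v} hv => ⟨inv_mem hv.1, by
          have hc := M.sylow_five_comm P (inv_mem ((Subgroup.mem_normalizer_iff.1 k.2 v).1 hv.1)) (zpow_mem hv.1 r)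
          rw [inv_zpow, inv_inv,
            show (k : G) * v⁻¹ * (k : G)⁻¹ = ((k : G) * v * (k : G)⁻¹)⁻¹ by group, hc,
            show v ^ r * ((k : G) * v * (k : G)⁻¹)⁻¹ = ((k : G) * v * (k : G)⁻¹ * (v ^ r)⁻¹)⁻¹ by group]
          exact inv_mem hv.2⟩ }
    have hT : (P : Subgroup G) ≤ T := by
      rw [← hg1]
      refine sup_le (Subgroup.zpowers_le.2 ⟨haP, ?_⟩)
        (Subgroup.zpowers_le.2 ⟨hx1P, mul_mem (hline k hk n1) (inv_mem (Subgroup.zpow_mem _ (Subgroup.mem_zpowers x1) r))⟩)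
      rw [← hr, mul_inv_cancel]
      exact one_mem _
    have hx2r : (k : G) * x2 * (k : G)⁻¹ = x2 ^ r := by
      by_contra hne
      have hne' : (k : G) * x2 * (k : G)⁻¹ * (x2 ^ r)⁻¹ ≠ 1 := fun e => hne (mul_inv_eq_one.1 e)
      exact d12 ((prime_zpowers_eq hx1o (hT hx2P).2 hne').1.symm.trans (prime_zpowers_eq hx2o
        (mul_mem (hline k hk n2) (inv_mem (Subgroup.zpow_mem _ (Subgroup.mem_zpowers x2) r))) hne').1)
    let E : Subgroup G :=
      { carrier := {v | v ∈ P ∧ (k : G) * v * (k : G)⁻¹ = v ^ r}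
        mul_mem' := fun {v w} hv hw => ⟨mul_mem hv.1 hw.1, by
          rw [← conj_mul, hv.2, hw.2, (show Commute v w from M.sylow_five_comm P hv.1 hw.1).mul_zpow]⟩
        one_mem' := ⟨one_mem _, by simp⟩
        inv_mem' := fun {v} hv => ⟨inv_mem hv.1, by rw [← conj_inv, hv.2, inv_zpow]⟩ }
    have hE : (P : Subgroup G) ≤ E := by
      rw [← hg2]
      exact sup_le (Subgroup.zpowers_le.2 ⟨haP, hr.symm⟩) (Subgroup.zpowers_le.2 ⟨hx2P, hx2r⟩)
    exact fun v hv => (hE hv).2
  -- so one fixing a nontrivial element centralizes everything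
  have hfix : ∀ k ∈ φ.ker, ∀ u ∈ P, orderOf u = 5 → (k : G) * u = u * (k : G) → (k : G) ∈ P := by
    intro k hk u hu huo hku
    obtain ⟨r, hr⟩ := hpow k hk
    refine M.cent_P hβ hb5 hb1 P fun v hv => ?_
    have h5 : ((5 : ℕ) : ℤ) ∣ r - 1 := by
      rw [← huo, orderOf_dvd_sub_iff_zpow_eq_zpow, ← hr u hu, zpow_one, hku, mul_inv_cancel_right]
    have hfx : ∀ w ∈ P, orderOf w = 5 → w ∈ Cx (k : G) := fun w hw hwo => mem_Cx.2 (by
      have e := hr w hw
      rw [← hwo] at h5
      rw [orderOf_dvd_sub_iff_zpow_eq_zpow.1 h5, zpow_one] at e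
      exact (mul_inv_eq_iff_eq_mul.1 e).symm)
    have hall : (P : Subgroup G) ≤ Cx (k : G) := by
      rw [← hg1]
      exact sup_le (Subgroup.zpowers_le.2 (hfx a haP hao)) (Subgroup.zpowers_le.2 (hfx x1 hx1P hx1o))
    exact mem_Cx.1 (hall hv)
  have hscalar : ∀ k ∈ φ.ker, (k : G) * a = a * (k : G) → (k : G) ∈ P := fun k hk h => hfix k hk a haP hao h
  have hPker : (P : Subgroup G).subgroupOf N ≤ φ.ker := by
    intro p hp
    rw [hker]
    intro n
    refine Subgroup.mem_subgroupOf.2 (mem_nz_of hao (n * p * n⁻¹).2 ?_)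
    have hp' : (n : G) * p * (n : G)⁻¹ ∈ P := (Subgroup.mem_normalizer_iff.1 n.2 _).1 hp
    show ((n * p * n⁻¹ : N) : G) * a * ((n * p * n⁻¹ : N) : G)⁻¹ ∈ _
    simp only [Subgroup.coe_mul, Subgroup.coe_inv]
    rw [M.sylow_five_comm P hp' haP, mul_inv_cancel_right]
    exact Subgroup.mem_zpowers a
  -- the kernel has order one hundred
  have hKcard : Nat.card φ.ker = 100 ∧ Nat.card φ.range = 6 := by
    set K' : Subgroup G := φ.ker.map N.subtype
    have hK' : Nat.card K' = Nat.card φ.ker :=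
      (Nat.card_congr (Subgroup.equivMapOfInjective _ _ N.subtype_injective).toEquiv).symm
    have hcx : cx K' a = (P : Subgroup G) := by
      refine le_antisymm ?_ fun v hv => mem_cx.2 ⟨Subgroup.mem_map.2 ⟨⟨v, hPN hv⟩, hPker hv, rfl⟩, M.sylow_five_comm P hv haP⟩
      intro v hv
      obtain ⟨⟨k, hk, rfl⟩, hva⟩ := mem_cx.1 hv
      exact hscalar k hk hva
    have hnz : nz K' a = K' := by
      refine le_antisymm inf_le_left ?_
      rintro _ ⟨k, hk, rfl⟩
      exact mem_nz_of hao ⟨k, hk, rfl⟩ (by simpa using hline k hk 1)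
    obtain ⟨e, he, hce⟩ := index_cx (H := K') hao
    rw [hnz, hcx, hP25, hK'] at hce
    have hsplit := Subgroup.card_eq_card_quotient_mul_card_subgroup φ.ker
    rw [Nat.card_congr (QuotientGroup.quotientKerEquivRange φ).toEquiv, hN, hce] at hsplit
    have hr : Nat.card φ.range ≤ 6 := by
      refine (Subgroup.card_le_card_group _).trans_eq ?_
      rw [Nat.card_perm, h3]; rfl
    have he4 := Nat.le_of_dvd (by norm_num) he
    have : Nat.card φ.range * (25 * e) ≤ 6 * (25 * e) := Nat.mul_le_mul_right _ hr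
    constructor <;> rw [hce] at * <;> interval_cases e <;> omega
  set Pn : Subgroup N := (P : Subgroup G).subgroupOf N
  haveI : Pn.Normal := by
    refine ⟨fun p hp n => ?_⟩
    exact Subgroup.mem_subgroupOf.2 ((Subgroup.mem_normalizer_iff.1 n.2 _).1 (Subgroup.mem_subgroupOf.1 hp))
  have hPn : Nat.card Pn = 25 := by rw [Nat.card_congr (Subgroup.subgroupOfEquivOfLe hPN).toEquiv, hP25]
  set H := N ⧸ Pn
  let mk := QuotientGroup.mk' Pn
  let φb : H →* Equiv.Perm (N ⧸ S0) := QuotientGroup.lift Pn φ hPker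
  have hφb : ∀ n : N, φb (mk n) = φ n := fun n => QuotientGroup.lift_mk' Pn hPker n
  have hsurj : Function.Surjective φ := by
    rw [← MonoidHom.range_eq_top]
    refine Subgroup.eq_top_of_card_eq _ ?_
    rw [hKcard.2, Nat.card_perm, h3]; rfl
  set K : Subgroup H := φb.ker
  have hKmem : ∀ n : N, mk n ∈ K ↔ n ∈ φ.ker := fun n => by rw [MonoidHom.mem_ker, MonoidHom.mem_ker, hφb]
  have hK4 : Nat.card K = 4 := by
    have hcm : K.comap mk = φ.ker := by ext n; exact hKmem n
    have := card_comap_mk Pn K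
    rw [hcm, hKcard.1, hPn] at this
    exact Nat.eq_of_mul_eq_mul_left (show 0 < 25 by norm_num) (this.symm.trans (by norm_num))
  -- the kernel is central
  have hKc : ∀ k ∈ K, ∀ h : H, k * h = h * k := by
    intro k hk h
    obtain ⟨k, rfl⟩ := QuotientGroup.mk'_surjective Pn k
    obtain ⟨n, rfl⟩ := QuotientGroup.mk'_surjective Pn h
    have hk' := (hKmem k).1 hk
    obtain ⟨r, hr⟩ := hpow k hk'
    -- the commutator fixes `a`
    rw [← map_mul, ← map_mul]
    refine (QuotientGroup.eq.2 (Subgroup.mem_subgroupOf.2 ?_)).symm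
    refine hscalar _ ?_ ?_
    · rw [show (n * k)⁻¹ * (k * n) = k⁻¹ * (n⁻¹ * k * n) by group]
      refine mul_mem (inv_mem hk') ?_
      simpa using (MonoidHom.normal_ker φ).conj_mem _ hk' n⁻¹
    · simp only [Subgroup.coe_mul, Subgroup.coe_inv]
      refine mul_inv_eq_iff_eq_mul.1 ?_
      have hna : (n : G) * a * (n : G)⁻¹ ∈ P := (Subgroup.mem_normalizer_iff.1 n.2 a).1 haP
      calc ((n : G) * k)⁻¹ * ((k : G) * n) * a * (((n : G) * k)⁻¹ * ((k : G) * n))⁻¹
          = (k : G)⁻¹ * ((n : G)⁻¹ * ((k : G) * ((n : G) * a * (n : G)⁻¹) * (k : G)⁻¹) * n) * k := by group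
        _ = (k : G)⁻¹ * ((k : G) * a * (k : G)⁻¹) * k := by rw [hr _ hna, hr a haP, conj_zpow]; group
        _ = a := by group
  -- the kernel is cyclic
  have hKcyc : IsCyclic K := by
    have hnz : Nat.card (nz (φ.ker.map N.subtype) a) = 4 * Nat.card (cx (φ.ker.map N.subtype) a) := by
      have hcx : cx (φ.ker.map N.subtype) a = (P : Subgroup G) := by
        refine le_antisymm ?_ fun v hv => mem_cx.2 ⟨Subgroup.mem_map.2 ⟨⟨v, hPN hv⟩, hPker hv, rfl⟩, M.sylow_five_comm P hv haP⟩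
        intro v hv
        obtain ⟨⟨k, hk, rfl⟩, hva⟩ := mem_cx.1 hv
        exact hscalar k hk hva
      rw [hcx, hP25, show nz (φ.ker.map N.subtype) a = φ.ker.map N.subtype from le_antisymm inf_le_left (by
          rintro _ ⟨k, hk, rfl⟩
          exact mem_nz_of hao ⟨k, hk, rfl⟩ (by simpa using hline k hk 1)),
        ← Nat.card_congr (Subgroup.equivMapOfInjective _ _ N.subtype_injective).toEquiv, hKcard.1]
    obtain ⟨_, ⟨k, hk, rfl⟩, hka⟩ := exists_sq hao hnz
    have hkK : mk k ∈ K := (hKmem k).2 hk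
    refine isCyclic_of_orderOf_eq_card (⟨mk k, hkK⟩ : K) ?_
    rw [hK4, Subgroup.orderOf_mk]
    refine orderOf_eq_prime_pow (p := 2) (n := 1) (fun e => ?_) ?_
    · rw [← map_pow] at e
      have h1 := (QuotientGroup.eq_one_iff _).1 e
      have h2 : ((k ^ 2 ^ 1 : N) : G) * a = a * ((k ^ 2 ^ 1 : N) : G) :=
        M.sylow_five_comm P (Subgroup.mem_subgroupOf.1 h1) haP
      have h3 := sq_conj_pow hka (2 ^ 1)
      simp only [Subgroup.coe_pow, Subgroup.coe_subtype] at h2 h3
      rw [h2, mul_inv_cancel_right] at h3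
      have h4 := pow_eq_pow_iff_modEq.1 (show a ^ 1 = a ^ 2 ^ 2 ^ 1 by rw [pow_one]; exact h3)
      rw [hao] at h4
      revert h4; decide
    · exact orderOf_dvd_iff_pow_eq_one.1 ((Subgroup.orderOf_dvd_natCard K hkK).trans (dvd_of_eq hK4))
  -- an involution outside the kernel, from the second kind
  obtain ⟨r, hr2, hrK⟩ : ∃ r : H, r * r = 1 ∧ r ∉ K := by
    obtain ⟨⟨w, hw⟩, hwo⟩ := exists_prime_orderOf_dvd_card' (G := cx N b) 2 (by rw [hb50]; norm_num)
    rw [Subgroup.orderOf_mk] at hwo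
    obtain ⟨hwN, hwb⟩ := mem_cx.1 hw
    refine ⟨mk ⟨w, hwN⟩, ?_, fun h => ?_⟩
    · rw [← map_mul, show (⟨w, hwN⟩ : N) * ⟨w, hwN⟩ = 1 from Subtype.ext (by
        show w * w = 1
        rw [← pow_two, ← hwo, pow_orderOf_eq_one]), map_one]
    · have hk := (hKmem _).1 h
      -- a scalar fixing `b` is trivial
      have hwP : (w : G) ∈ P := hfix ⟨w, hwN⟩ hk b hbP hbo hwb
      have := Subgroup.orderOf_dvd_natCard (P : Subgroup G) hwP
      rw [hwo, hP25] at this
      norm_num at this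
  -- the complement
  have hH : Nat.card H = 24 := by
    have := Subgroup.card_eq_card_quotient_mul_card_subgroup Pn
    rw [hN, hPn] at this
    show Nat.card (N ⧸ Pn) = 24
    omega
  obtain ⟨y, hy⟩ := exists_prime_orderOf_dvd_card' (G := H) 3 (by rw [hH]; norm_num)
  have hyK : y ∉ K := fun h => by
    have := Subgroup.orderOf_dvd_natCard K h
    rw [hy, hK4] at this
    norm_num at this
  have hy3 : y ^ 3 = 1 := by rw [← hy, pow_orderOf_eq_one]
  obtain ⟨es⟩ : Nonempty (N ⧸ S0 ≃ Fin 3) := ⟨Finite.equivFinOfCardEq h3⟩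
  let ψ : H →* Equiv.Perm (Fin 3) := es.permCongrHom.toMonoidHom.comp φb
  have hψ : ∀ h : H, ψ h = 1 ↔ h ∈ K := fun h => by
    show es.permCongrHom (φb h) = 1 ↔ _
    rw [MulEquiv.map_eq_one_iff, MonoidHom.mem_ker]
  have hryk : r * y * r * y ∈ K := by
    rw [← hψ, map_mul, map_mul, map_mul,
      perm_three (ψ r) (ψ y) (by rw [← map_mul, hr2, map_one]) (fun e => hrK ((hψ r).1 e))
        (by rw [← map_mul, ← map_mul, show y * y * y = y ^ 3 by rw [pow_succ, pow_two], hy3, map_one]) (fun e => hyK ((hψ y).1 e)),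
      inv_mul_cancel]
  have hry : r * y * r = y⁻¹ := by
    set k := r * y * r * y with hk
    have hri : r⁻¹ = r := inv_eq_of_mul_eq_one_right hr2
    have e1 : r * y * r⁻¹ = k * y⁻¹ := by rw [hk, hri]; group
    have e2 : k ^ 3 = 1 := by
      have := (show Commute k y⁻¹ from hKc k hryk _).mul_pow 3
      rw [← e1, conj_pow, hy3, mul_one, mul_inv_cancel, inv_pow, hy3, inv_one, mul_one] at this
      exact this.symm
    have e3 : k ^ 4 = 1 := orderOf_dvd_iff_pow_eq_one.1 (hK4 ▸ Subgroup.orderOf_dvd_natCard K hryk)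
    have e4 : k = 1 := by rw [pow_succ, e2, one_mul] at e3; exact e3
    rw [e4, one_mul, hri] at e1
    exact e1
  let ρ := dihHom r y hr2 hy3 hry
  have hρinj : Function.Injective (ψ.comp ρ) := by
    refine (injective_iff_map_eq_one _).2 fun d hd => ?_
    have hdK : ρ d ∈ K := (hψ _).1 hd
    cases d with
    | r i =>
      have hdK' : y ^ i.val ∈ K := hdK
      have : i.val = 0 := by
        by_contra h0
        have hlt := ZMod.val_lt i
        have : i.val = 1 ∨ i.val = 2 := by omega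
        rcases this with e | e <;> rw [e] at hdK'
        · exact hyK (by simpa using hdK')
        · refine hyK ?_
          have := inv_mem hdK'
          rwa [← eq_inv_of_mul_eq_one_left (show y * y ^ 2 = 1 by rw [← pow_succ', hy3])] at this
      rw [(ZMod.val_eq_zero i).1 this]
      rfl
    | sr i =>
      exfalso
      have hdK' : r * y ^ i.val ∈ K := hdK
      have hc := hKc _ hdK' y
      have hr' : r * y = y * r := by
        have h' : r * y * y ^ i.val = y * r * y ^ i.val := by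
          calc r * y * y ^ i.val = r * y ^ i.val * y := by rw [mul_assoc, mul_assoc, ← pow_succ', ← pow_succ]
            _ = _ := by rw [hc, ← mul_assoc]
        exact mul_right_cancel h'
      rw [hr', mul_assoc, hr2, mul_one] at hry
      have : y ^ 2 = 1 := by rw [pow_two]; nth_rw 2 [hry]; rw [mul_inv_cancel]
      have := orderOf_dvd_of_pow_eq_one this
      rw [hy] at this
      norm_num at this
  have hρbij : Function.Bijective (ψ.comp ρ) :=
    (Nat.bijective_iff_injective_and_card _).2 ⟨hρinj, by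
      rw [DihedralGroup.nat_card, Nat.card_eq_fintype_card, Fintype.card_perm, Fintype.card_fin]; rfl⟩
  let Θ : K × DihedralGroup 3 →* H :=
    { toFun := fun q => (q.1 : H) * ρ q.2
      map_one' := by simp
      map_mul' := fun p q => by
        show ((p.1 * q.1 : K) : H) * ρ (p.2 * q.2) = (p.1 : H) * ρ p.2 * ((q.1 : H) * ρ q.2)
        rw [map_mul, Subgroup.coe_mul]
        calc (p.1 : H) * q.1 * (ρ p.2 * ρ q.2) = (p.1 : H) * ((q.1 : H) * ρ p.2) * ρ q.2 := by group
          _ = _ := by rw [hKc _ q.1.2]; group }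
  have hΘ : Function.Bijective Θ := by
    refine (Nat.bijective_iff_injective_and_card _).2 ⟨(injective_iff_map_eq_one _).2 ?_, ?_⟩
    · rintro ⟨k, d⟩ h
      have h' : (k : H) * ρ d = 1 := h
      have h1 : ψ.comp ρ d = 1 := by
        have := congrArg ψ h'
        rwa [map_mul, (hψ _).2 k.2, one_mul, map_one] at this
      have hd : d = 1 := hρinj (h1.trans (map_one _).symm)
      subst hd
      rw [map_one, mul_one] at h'
      exact Prod.ext (Subtype.ext h') rfl
    · rw [Nat.card_prod, hK4, DihedralGroup.nat_card, hH]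
  exact ⟨(MulEquiv.ofBijective Θ hΘ).symm.trans (MulEquiv.prodCongr
    ((zmodCyclicMulEquiv hKcyc).symm.trans (AddEquiv.toMultiplicative (ZMod.ringEquivCongr hK4).toAddEquiv))
    (MulEquiv.ofBijective (ψ.comp ρ) hρbij))⟩

/-- There are exactly two classes of subgroups of order five. -/
theorem two_classes_five (M : Mdl S g) (hβ : IsHat S.code β bh) (hb5 : β ^ 5 = 1) (hb1 : β ≠ 1) :
    ∃ A B : Subgroup G, Nat.card A = 5 ∧ Nat.card B = 5 ∧ (∀ g : G, A.map (MulAut.conj g).toMonoidHom ≠ B) ∧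
      ∀ C : Subgroup G, Nat.card C = 5 →
        ∃ g : G, C.map (MulAut.conj g).toMonoidHom = A ∨ C.map (MulAut.conj g).toMonoidHom = B := by
  haveI : Fact (Nat.Prime 5) := ⟨by norm_num⟩
  have hord := order_five hb5 hb1
  obtain ⟨c, hcL, hco⟩ := M.exists_order (p := 5) (Or.inl rfl)
  refine ⟨Subgroup.zpowers β, Subgroup.zpowers c, by rw [Nat.card_zpowers, hord], by rw [Nat.card_zpowers, hco],
    fun k hk => ?_, fun C hC => ?_⟩
  · rw [MonoidHom.map_zpowers] at hk
    have hmem : c ∈ Subgroup.zpowers (k * β * k⁻¹) := by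
      show c ∈ Subgroup.zpowers ((MulAut.conj k).toMonoidHom β)
      rw [hk]; exact Subgroup.mem_zpowers c
    obtain ⟨j, hj⟩ := Subgroup.mem_zpowers_iff.1 hmem
    refine M.five_ne hβ hb5 (M.L_le hcL) hco (k := k⁻¹) (Subgroup.mem_zpowers_iff.2 ⟨j, ?_⟩)
    rw [conj_zpow] at hj
    rw [← hj]; group
  obtain ⟨⟨u, hu⟩, huo⟩ := exists_prime_orderOf_dvd_card' (G := C) 5 (dvd_of_eq hC.symm)
  rw [Subgroup.orderOf_mk] at huo
  have hCu : Subgroup.zpowers u = C := Subgroup.eq_of_le_of_card_ge (Subgroup.zpowers_le.2 hu)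
    (by rw [hC, Nat.card_zpowers, huo])
  obtain ⟨P, hP⟩ := M.exists_sylow_five huo
  obtain ⟨-, hkinds⟩ := M.norm_five hβ hb5 hb1 P
  rw [← hCu]
  rcases hkinds u hP (fun e => by rw [e, orderOf_one] at huo; omega) with ⟨k, hk⟩ | ⟨k, c', hc', hco', hk⟩
  · refine ⟨k⁻¹, Or.inl ?_⟩
    rw [MonoidHom.map_zpowers]
    congr 1
    show k⁻¹ * u * k⁻¹⁻¹ = β
    rw [← hk]; group
  · obtain ⟨d, hd, hdc⟩ := M.D_conj (Or.inl rfl) (M.L_le hcL) hco hc' hco'
    refine ⟨d * k⁻¹, Or.inr ?_⟩
    rw [MonoidHom.map_zpowers]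
    have e : (MulAut.conj (d * k⁻¹)).toMonoidHom u = d * c' * d⁻¹ := by
      show d * k⁻¹ * u * (d * k⁻¹)⁻¹ = d * c' * d⁻¹
      rw [← hk]; group
    rw [e]
    exact (prime_zpowers_eq hco hdc fun e' => by
      rw [conj_eq_one_iff] at e'
      rw [e', orderOf_one] at hco'; omega).1

end Mdl

end Cfsg.Agent.Invol.Suz.Loc
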