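import Cfsg.Agent.Lib.Invol.Big.Pair

/-!
# The centralizer acting on the coded extraspecial group, element by element
-/

set_option autoImplicit false
set_option linter.unusedSectionVars false

namespace Cfsg.Agent.Invol.Suz.Loc

open Cfsg.Agent.Classical.BinCoc Cfsg.Agent.Invol.Big Cfsg.Agent.Invol.Big.Code

/-- The sign in the product of two ordered products. -/
def bet (K : Cert) : ℕ → ℕ → ℕ → Bool
  | 0, _, _ => false
  | k + 1, a, c => bet K k a c ^^ (a.testBit k && (bq K (2 ^ k) (c % 2 ^ k) ^^ (c.testBit k && K.q (2 ^ k))))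

/-- The product of two coded elements. -/
def mulP (K : Cert) (x y : ℕ) : ℕ := x ^^^ y ^^^ if bet K K.n (x / 2) (y / 2) then 1 else 0

/-- The partial image of a coded element. -/
def apN (K : Cert) (f : List ℕ) : ℕ → ℕ → ℕ
  | 0, _ => 0
  | k + 1, a => if a.testBit k then mulP K (apN K f k a) (f.getD k 0) else apN K f k a

/-- The image of a coded element. -/
def ap (K : Cert) (f : List ℕ) (x : ℕ) : ℕ := apN K f K.n (x / 2) ^^^ (x % 2)

/-- Composition. -/
def cmp (K : Cert) (f g : List ℕ) : List ℕ := g.map (ap K f)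

/-- The identity. -/
def idH (K : Cert) : List ℕ := (List.range K.n).map fun i => 2 * 2 ^ i

/-- The inner list of a coded element. -/
def innH (K : Cert) (a : ℕ) : List ℕ :=
  (List.range K.n).map fun i => 2 * 2 ^ i + if bq K a (2 ^ i) then 1 else 0

/-- Every pattern of signs is an inner one. -/
def chkDual (K : Cert) : Bool :=
  (pts K).all fun p => (pts K).any fun r => (List.range K.n).all fun i => bq K r (2 ^ i) == p.testBit i

theorem mod_succ (a k : ℕ) : a % 2 ^ (k + 1) = a % 2 ^ k ^^^ if a.testBit k then 2 ^ k else 0 := by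
  refine Nat.eq_of_testBit_eq fun j => ?_
  rw [Nat.testBit_xor, Nat.testBit_mod_two_pow, Nat.testBit_mod_two_pow]
  by_cases hjk : j = k
  · subst hjk
    cases h : a.testBit j <;> simp
  · rcases Nat.lt_or_gt_of_ne hjk with hlt | hgt
    · split_ifs <;> simp [hlt, Nat.lt_succ_of_lt hlt, Ne.symm hjk]
    · split_ifs <;> simp [show ¬ j < k + 1 by omega, show ¬ j < k by omega, Ne.symm hjk]

theorem bit0_xor_one (a : ℕ) : (a ^^^ 1) / 2 = a / 2 := by
  rw [Nat.xor_div_two]; simp

variable {G : Type*} [Group G] {K : Cert} {z : G} {Q : Subgroup G} {cd : G → ℕ}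

/-- The ordered product of the basic representatives. -/
noncomputable def bas (h : Code K z Q cd) : ℕ → ℕ → G
  | 0, _ => 1
  | k + 1, a => bas h k a * if a.testBit k then h.rep (2 ^ k) else 1

theorem bas_mem (h : Code K z Q cd) : ∀ k a, bas h k a ∈ Q
  | 0, _ => one_mem _
  | k + 1, a => by
    refine mul_mem (bas_mem h k a) ?_
    split_ifs
    · exact h.rep_mem _
    · exact one_mem _

theorem cd_bas (h : Code K z Q cd) : ∀ k ≤ K.n, ∀ a, cd (bas h k a) = a % 2 ^ k
  | 0, _, a => by simp [bas, h.cd_one, Nat.mod_one]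
  | k + 1, hk, a => by
    rw [bas, h.mul _ (bas_mem h k a) _ (by split_ifs; exacts [h.rep_mem _, one_mem _]),
      cd_bas h k (by omega) a, mod_succ]
    congr 1
    split_ifs
    · exact h.cd_rep (Nat.pow_lt_pow_right (by norm_num) (by omega))
    · exact h.cd_one

theorem zpow_bool (h : Code K z Q cd) (a b : Bool) :
    z ^ (if a then 1 else 0) * z ^ (if b then 1 else 0) = z ^ (if (a ^^ b) then 1 else 0) := by
  cases a <;> cases b <;> simp [h.ext.zz]

theorem zpow_comm (h : Code K z Q cd) {g : G} (hg : g ∈ Q) (k : ℕ) : g * z ^ k = z ^ k * g :=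
  ((show Commute g z from h.ext.central g hg).pow_right k).eq

theorem bas_mul (h : Code K z Q cd) : ∀ k ≤ K.n, ∀ a c,
    bas h k a * bas h k c = bas h k (a ^^^ c) * z ^ (if bet K k a c then 1 else 0)
  | 0, _, a, c => by simp [bas, bet]
  | k + 1, hk, a, c => by
    have hlt : 2 ^ k < 2 ^ K.n := Nat.pow_lt_pow_right (by norm_num) (by omega)
    have he := h.rep_mem (2 ^ k)
    have hce : cd (h.rep (2 ^ k)) = 2 ^ k := h.cd_rep hlt
    have hbc := bas_mem h k c
    have key : (if a.testBit k then h.rep (2 ^ k) else 1) * bas h k c =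
        bas h k c * (if a.testBit k then h.rep (2 ^ k) else 1) *
          z ^ (if (a.testBit k && bq K (2 ^ k) (c % 2 ^ k)) then 1 else 0) := by
      cases a.testBit k
      · simp
      · simp only [if_true, Bool.true_and]
        have e := h.conj_bq he hbc
        rw [hce, cd_bas h k (by omega) c, bn, mul_inv_eq_iff_eq_mul] at e
        rw [e, mul_assoc, ← zpow_comm h he, ← mul_assoc]
    have hsq : (if a.testBit k then h.rep (2 ^ k) else 1) * (if c.testBit k then h.rep (2 ^ k) else 1) =
        (if (a ^^^ c).testBit k then h.rep (2 ^ k) else 1) *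
          z ^ (if (a.testBit k && (c.testBit k && K.q (2 ^ k))) then 1 else 0) := by
      rw [Nat.testBit_xor]
      cases a.testBit k <;> cases c.testBit k <;> simp
      rw [h.sq _ he, hce, qn]
      cases K.q (2 ^ k) <;> simp
    have hz : ∀ (n : ℕ) {g : G}, g ∈ Q → z ^ n * g = g * z ^ n := fun n g hg => (zpow_comm h hg n).symm
    have hq1 : ∀ b : Prop, ∀ [Decidable b], (if b then h.rep (2 ^ k) else 1) ∈ Q := fun b _ => by
      split_ifs; exacts [he, one_mem _]
    show bas h k a * _ * (bas h k c * _) = bas h k (a ^^^ c) * _ * _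
    calc bas h k a * (if a.testBit k then h.rep (2 ^ k) else 1) * (bas h k c * if c.testBit k then h.rep (2 ^ k) else 1)
        = bas h k a * ((if a.testBit k then h.rep (2 ^ k) else 1) * bas h k c) *
            (if c.testBit k then h.rep (2 ^ k) else 1) := by simp only [mul_assoc]
      _ = (bas h k a * bas h k c) * ((if a.testBit k then h.rep (2 ^ k) else 1) *
            (if c.testBit k then h.rep (2 ^ k) else 1)) *
            z ^ (if (a.testBit k && bq K (2 ^ k) (c % 2 ^ k)) then 1 else 0) := by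
          rw [key]; simp only [mul_assoc]; rw [hz _ (hq1 _)]
      _ = _ := by
          rw [bas_mul h k (by omega) a c, hsq]
          generalize hA : bet K k a c = A
          generalize hB : (a.testBit k && bq K (2 ^ k) (c % 2 ^ k)) = B
          generalize hC : (a.testBit k && (c.testBit k && K.q (2 ^ k))) = C
          have hbet : bet K (k + 1) a c = (A ^^ (B ^^ C)) := by
            rw [← hA, ← hB, ← hC, ← Bool.and_xor_distrib_left]; rfl
          simp only [hbet]
          have hEQ := hq1 ((a ^^^ c).testBit k = true)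
          generalize (if (a ^^^ c).testBit k then h.rep (2 ^ k) else 1) = E at *
          have hE : z ^ (if A then 1 else 0) * E = E * z ^ (if A then 1 else 0) := by
            exact hz _ hEQ
          calc bas h k (a ^^^ c) * z ^ (if A then 1 else 0) * (E * z ^ (if C then 1 else 0)) * z ^ (if B then 1 else 0)
              = bas h k (a ^^^ c) * (z ^ (if A then 1 else 0) * E) * (z ^ (if C then 1 else 0) * z ^ (if B then 1 else 0)) := by
                simp only [mul_assoc]
            _ = bas h k (a ^^^ c) * E * (z ^ (if A then 1 else 0) * (z ^ (if B then 1 else 0) * z ^ (if C then 1 else 0))) := by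
                rw [hE, ← pow_add, ← pow_add, Nat.add_comm (if C then 1 else 0)]; simp only [mul_assoc]
            _ = _ := by rw [zpow_bool h, zpow_bool h]

/-- A coded element. -/
noncomputable def el (h : Code K z Q cd) (x : ℕ) : G := bas h K.n (x / 2) * z ^ (x % 2)

theorem el_mem (h : Code K z Q cd) (x : ℕ) : el h x ∈ Q := mul_mem (bas_mem h _ _) (pow_mem h.ext.mem _)

theorem el_zero (h : Code K z Q cd) : el h 0 = 1 := by
  have : ∀ k, bas h k 0 = 1 := by intro k; induction k <;> simp [bas, *]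
  simp [el, this]

theorem el_xor_one (h : Code K z Q cd) (x : ℕ) : el h (x ^^^ 1) = el h x * z := by
  rw [el, el, bit0_xor_one, mul_assoc]
  congr 1
  have hx : (x ^^^ 1) % 2 = 1 - x % 2 := by
    have := Nat.mod_two_eq_zero_or_one x
    rcases this with e | e <;> [skip; skip] <;>
      · have h2 : (x ^^^ 1) % 2 = x % 2 ^^^ 1 % 2 := by
          simpa using Nat.xor_mod_two_pow (a := x) (b := 1) (n := 1)
        rw [h2, e]; rfl
  rw [hx]
  rcases Nat.mod_two_eq_zero_or_one x with e | e <;> simp [e, h.ext.zz]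

theorem el_one (h : Code K z Q cd) : el h 1 = z := by
  have := el_xor_one h 0
  simpa [el_zero] using this

theorem el_mul (h : Code K z Q cd) (x y : ℕ) : el h x * el h y = el h (mulP K x y) := by
  have e : el h x * el h y = el h (x ^^^ y) * z ^ (if bet K K.n (x / 2) (y / 2) then 1 else 0) := by
    simp only [el]
    calc bas h K.n (x / 2) * z ^ (x % 2) * (bas h K.n (y / 2) * z ^ (y % 2))
        = bas h K.n (x / 2) * bas h K.n (y / 2) * (z ^ (x % 2) * z ^ (y % 2)) := by
          rw [mul_assoc, ← mul_assoc (z ^ _), ← zpow_comm h (bas_mem h _ _)]; simp only [mul_assoc]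
      _ = _ := by
          rw [bas_mul h _ le_rfl, Nat.xor_div_two,
            ← h.pow_xor ((show x % 2 ≤ 1 by omega)) ((show y % 2 ≤ 1 by omega)),
            show (x ^^^ y) % 2 = x % 2 ^^^ y % 2 by simpa using Nat.xor_mod_two_pow (a := x) (b := y) (n := 1)]
          simp only [mul_assoc, ← pow_add]
          rw [Nat.add_comm]
  rw [e, mulP]
  cases bet K K.n (x / 2) (y / 2)
  · simp
  · simp [el_xor_one h]

theorem cd_el (h : Code K z Q cd) {x : ℕ} (hx : x < 2 ^ (K.n + 1)) : cd (el h x) = x / 2 := by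
  rw [el, h.mul _ (bas_mem h _ _) _ (pow_mem h.ext.mem _), cd_bas h _ le_rfl, h.cd_zpow, Nat.xor_zero,
    Nat.mod_eq_of_lt (by rw [pow_succ] at hx; omega)]

theorem el_inj (h : Code K z Q cd) {x y : ℕ} (hx : x < 2 ^ (K.n + 1)) (hy : y < 2 ^ (K.n + 1))
    (e : el h x = el h y) : x = y := by
  have h1 := congrArg cd e
  rw [cd_el h hx, cd_el h hy] at h1
  rw [el, el, h1] at e
  have h2 := h.pow_inj ((show x % 2 ≤ 1 by omega)) ((show y % 2 ≤ 1 by omega))
    (mul_left_cancel e)
  omega

theorem exists_el (h : Code K z Q cd) {w : G} (hw : w ∈ Q) : ∃ x < 2 ^ (K.n + 1), el h x = w := by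
  have h2 : 2 * cd w < 2 ^ (K.n + 1) := by rw [pow_succ]; have := h.lt w hw; omega
  have hc : cd w = cd (el h (2 * cd w)) := by rw [cd_el h h2]; omega
  rcases (h.cd_eq_iff (el_mem h _) hw).1 hc.symm with e | e
  · exact ⟨_, h2, e.symm⟩
  · refine ⟨2 * cd w + 1, by rw [pow_succ]; have := h.lt w hw; omega, ?_⟩
    rw [← Nat.xor_one_of_even (even_two_mul (cd w)), el_xor_one h]
    exact e.symm

theorem cd_el_lt (h : Code K z Q cd) {x : ℕ} (hx : x < 2 ^ (K.n + 1)) : x / 2 < 2 ^ K.n := by
  rw [pow_succ] at hx; omega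

/-- The conjugation action of `c`, element by element. -/
structure IsHat (h : Code K z Q cd) (c : G) (f : List ℕ) : Prop where
  comm : c * z = z * c
  len : f.length = K.n
  lt : ∀ i < K.n, f.getD i 0 < 2 ^ (K.n + 1)
  eq : ∀ i < K.n, c * el h (2 * 2 ^ i) * c⁻¹ = el h (f.getD i 0)

variable {h : Code K z Q cd} {c d : G} {f g : List ℕ}

theorem IsHat.bas_eq (H : IsHat h c f) : ∀ k ≤ K.n, ∀ a, c * bas h k a * c⁻¹ = el h (apN K f k a)
  | 0, _, a => by simp [bas, apN, el_zero]
  | k + 1, hk, a => by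
    have e := H.eq k (by omega)
    have hb : el h (2 * 2 ^ k) = h.rep (2 ^ k) := by
      have hb : ∀ m ≤ K.n, bas h m (2 ^ k) = if k < m then h.rep (2 ^ k) else 1 := by
        intro m hm
        induction m with
        | zero => simp [bas]
        | succ m ih =>
          rw [bas, ih (by omega)]
          by_cases hkm : k = m
          · subst hkm; simp
          · simp [hkm, show (k < m + 1) ↔ k < m by omega]
      simp [el, hb _ le_rfl, show k < K.n by omega]
    rw [bas, ← conj_mul, H.bas_eq k (by omega) a, apN]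
    split_ifs
    · rw [← hb, e, el_mul]
    · simp

theorem IsHat.app (H : IsHat h c f) (x : ℕ) : c * el h x * c⁻¹ = el h (ap K f x) := by
  rw [el, ← conj_mul, H.bas_eq _ le_rfl, conj_zpow' H.comm, ap]
  rcases Nat.mod_two_eq_zero_or_one x with e | e <;> simp [e, el_xor_one h]

theorem mulP_lt {x y : ℕ} (hx : x < 2 ^ (K.n + 1)) (hy : y < 2 ^ (K.n + 1)) : mulP K x y < 2 ^ (K.n + 1) :=
  Nat.xor_lt_two_pow (Nat.xor_lt_two_pow hx hy) (by
    have := Nat.one_lt_two_pow (n := K.n + 1) (by omega)
    split_ifs <;> omega)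

theorem IsHat.app_lt (H : IsHat h c f) (x : ℕ) : ap K f x < 2 ^ (K.n + 1) := by
  refine Nat.xor_lt_two_pow ?_ (lt_of_lt_of_le (Nat.mod_lt _ two_pos) (Nat.le_self_pow (by omega) 2))
  suffices ∀ k ≤ K.n, apN K f k (x / 2) < 2 ^ (K.n + 1) from this _ le_rfl
  intro k hk
  induction k with
  | zero => exact Nat.two_pow_pos _
  | succ k ih =>
    rw [apN]
    split_ifs
    · exact mulP_lt (ih (by omega)) (H.lt k (by omega))
    · exact ih (by omega)

theorem getD_map (φ : ℕ → ℕ) (l : List ℕ) {i : ℕ} (hi : i < l.length) : (l.map φ).getD i 0 = φ (l.getD i 0) := by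
  rw [List.getD_eq_getElem _ _ (show i < (l.map φ).length by simpa using hi), List.getD_eq_getElem _ _ hi,
    List.getElem_map]

theorem IsHat.mul (H : IsHat h c f) (J : IsHat h d g) : IsHat h (c * d) (cmp K f g) := by
  refine ⟨comm_mul H.comm J.comm, by simp [cmp, J.len], fun i hi => ?_, fun i hi => ?_⟩
  · rw [cmp, getD_map _ _ (J.len.symm ▸ hi)]; exact H.app_lt _
  · rw [cmp, getD_map _ _ (J.len.symm ▸ hi), ← H.app, ← J.eq i hi]; group

theorem IsHat.ext_eq (H : IsHat h c f) (J : IsHat h c g) : f = g := by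
  refine List.ext_getElem (by rw [H.len, J.len]) fun i hi hi' => ?_
  have e := el_inj h (H.lt i (H.len ▸ hi)) (J.lt i (H.len ▸ hi)) ((H.eq i (H.len ▸ hi)).symm.trans (J.eq i (H.len ▸ hi)))
  rwa [List.getD_eq_getElem _ _ hi, List.getD_eq_getElem _ _ hi'] at e

theorem exists_hat (h : Code K z Q cd) {c : G} (hc : c * z = z * c) : ∃ f, IsHat h c f := by
  choose x hx hex using fun i : ℕ => exists_el h (h.ext.norm c hc _ (el_mem h (2 * 2 ^ i)))
  refine ⟨(List.range K.n).map x, hc, by simp, fun i hi => ?_, fun i hi => ?_⟩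
  · simp [hi, hx]
  · simp [hi, hex]

theorem idH_spec {i : ℕ} (hi : i < K.n) : (idH K).getD i 0 = 2 * 2 ^ i ∧ 2 * 2 ^ i < 2 ^ (K.n + 1) :=
  ⟨by simp [idH, hi], by rw [← pow_succ']; exact Nat.pow_lt_pow_right (by norm_num) (by omega)⟩

theorem isHat_one (h : Code K z Q cd) : IsHat h 1 (idH K) :=
  ⟨by simp, by simp [idH], fun i hi => (idH_spec hi).1 ▸ (idH_spec hi).2, fun i hi => by rw [(idH_spec hi).1]; group⟩

theorem isHat_z (h : Code K z Q cd) : IsHat h z (idH K) := by
  refine ⟨rfl, by simp [idH], fun i hi => (idH_spec hi).1 ▸ (idH_spec hi).2, fun i hi => ?_⟩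
  rw [(idH_spec hi).1, ← h.ext.central _ (el_mem h _), mul_inv_cancel_right]

theorem isHat_of_mem (h : Code K z Q cd) {w : G} (hw : w ∈ Q) : IsHat h w (innH K (cd w)) := by
  refine ⟨h.ext.central w hw, by simp [innH], fun i hi => ?_, fun i hi => ?_⟩
  · have := (idH_spec (K := K) hi).2
    have e : 2 * 2 ^ i % 2 = 0 := Nat.mul_mod_right 2 _
    have e' : 2 ^ (K.n + 1) % 2 = 0 := by rw [pow_succ]; exact Nat.mul_mod_left _ 2
    simp [innH, hi]; split_ifs <;> omega
  · have := (idH_spec (K := K) hi).2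
    rw [h.conj_bq hw (el_mem h _), cd_el h this, Nat.mul_div_cancel_left _ two_pos, bn]
    simp [innH, hi]
    cases bq K (cd w) (2 ^ i) <;>
      simp [el, Nat.add_mul_div_left, Nat.add_mod, mul_assoc, show (2 * 2 ^ i + 1) / 2 = 2 ^ i by omega]

theorem IsHat.of_app [Finite G] (hc : c * z = z * c) (hlen : f.length = K.n)
    (hlt : ∀ i < K.n, f.getD i 0 < 2 ^ (K.n + 1))
    (he : ∀ i < K.n, ∃ x, el h x = el h (2 * 2 ^ i) ∧ c * el h x * c⁻¹ = el h (f.getD i 0)) : IsHat h c f :=
  ⟨hc, hlen, hlt, fun i hi => by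
    obtain ⟨x, hx, e⟩ := he i hi
    rwa [hx] at e⟩

/-- The check that `g'` is the conjugate of `g` by `f`, with `fi` inverse to `f`. -/
def chkConj (K : Cert) (f fi g g' : List ℕ) : Bool :=
  g'.length == K.n && (List.range K.n).all fun i =>
    ap K f (fi.getD i 0) == 2 * 2 ^ i && ap K f (ap K g (fi.getD i 0)) == g'.getD i 0

theorem IsHat.conj (H : IsHat h c f) (J : IsHat h d g) {fi g' : List ℕ} (e : chkConj K f fi g g' = true) :
    IsHat h (c * d * c⁻¹) g' := by
  simp only [chkConj, Bool.and_eq_true, beq_iff_eq, List.all_eq_true, List.mem_range] at e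
  refine ⟨comm_mul (comm_mul H.comm J.comm) (comm_inv H.comm), e.1, fun i hi => ?_, fun i hi => ?_⟩
  · rw [← (e.2 i hi).2]; exact H.app_lt _
  · rw [← (e.2 i hi).1, ← H.app, ← (e.2 i hi).2, ← H.app, ← J.app]
    group

theorem IsHat.cancel (H : IsHat h c f) (J : IsHat h d f) : d = c ∨ d = c * z := by
  have hcd : c⁻¹ * d * z = z * (c⁻¹ * d) := comm_mul (comm_inv H.comm) J.comm
  have htriv : ∀ w ∈ Q, (c⁻¹ * d) * w = w * (c⁻¹ * d) := by
    intro w hw
    obtain ⟨x, -, rfl⟩ := exists_el h hw
    have e : c * el h x * c⁻¹ = d * el h x * d⁻¹ := by rw [H.app, J.app]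
    calc c⁻¹ * d * el h x = c⁻¹ * (d * el h x * d⁻¹) * d := by group
      _ = c⁻¹ * (c * el h x * c⁻¹) * d := by rw [e]
      _ = _ := by group
  have hQ : c⁻¹ * d ∈ Q := h.ext.self _ fun q hq => (htriv q hq).symm
  rcases h.ext.cen _ hQ (fun q hq => (htriv q hq).symm) with e | e
  · exact Or.inl (by rw [← mul_inv_cancel_left c d, e, mul_one])
  · exact Or.inr (by rw [← mul_inv_cancel_left c d, e])

theorem realise [Finite G] (h : Code K z Q cd) (hD : chkDual K = true) {w : List ℕ} (hw : Wok K w = true)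
    {f : List ℕ} (hlen : f.length = K.n) (hf : ∀ i < K.n, f.getD i 0 / 2 = wd K w (2 ^ i)) :
    ∃ c, IsHat h c f := by
  obtain ⟨c, hc, hca⟩ := h.exists_lift hw
  obtain ⟨g, hg⟩ := exists_hat h hc
  have hgi : ∀ i < K.n, g.getD i 0 / 2 = wd K w (2 ^ i) := fun i hi => by
    have h2 := (idH_spec (K := K) hi).2
    have e1 := cd_el h (hg.lt i hi)
    rw [← hg.eq i hi, ← h.act_cd hc (el_mem h _), cd_el h h2, Nat.mul_div_cancel_left _ two_pos,
      hca _ (Nat.pow_lt_pow_right (by norm_num) hi)] at e1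
    exact e1.symm
  -- the signs to correct
  have hp : ∃ p < 2 ^ K.n, ∀ i < K.n, p.testBit i = decide (f.getD i 0 % 2 ≠ g.getD i 0 % 2) := by
    refine ⟨Nat.ofBits (fun i : Fin K.n => decide (f.getD i 0 % 2 ≠ g.getD i 0 % 2)), Nat.ofBits_lt_two_pow _, fun i hi => ?_⟩
    simp [Nat.testBit_ofBits, hi]
  obtain ⟨p, hpn, hp⟩ := hp
  simp only [chkDual, List.all_eq_true, List.any_eq_true, pts, List.mem_range, beq_iff_eq] at hD
  obtain ⟨r, hr, hrb⟩ := hD p hpn
  set R := h.rep r
  have hR := h.rep_mem r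
  -- conjugate back by the image of the code
  refine ⟨c * R, comm_mul hc (h.ext.central R hR), hlen, fun i hi => ?_, fun i hi => ?_⟩
  · have := hg.lt i hi
    have := hgi i hi
    have := hf i hi
    rw [pow_succ] at *
    omega
  · have e := h.conj_bq hR (el_mem h (2 * 2 ^ i))
    rw [h.cd_rep hr, cd_el h (idH_spec hi).2, Nat.mul_div_cancel_left _ two_pos, bn, hrb i hi, hp i hi] at e
    calc c * R * el h (2 * 2 ^ i) * (c * R)⁻¹ = c * (R * el h (2 * 2 ^ i) * R⁻¹) * c⁻¹ := by group
      _ = el h (g.getD i 0) * z ^ (if decide (f.getD i 0 % 2 ≠ g.getD i 0 % 2) then 1 else 0) := by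
        rw [e, ← conj_mul, hg.eq i hi, conj_zpow' hc]
      _ = el h (f.getD i 0) := by
        have hfg : f.getD i 0 / 2 = g.getD i 0 / 2 := (hf i hi).trans (hgi i hi).symm
        have hA : f.getD i 0 % 2 < 2 := Nat.mod_lt _ two_pos
        have hB : g.getD i 0 % 2 < 2 := Nat.mod_lt _ two_pos
        simp only [el, hfg, mul_assoc, ← pow_add]
        congr 1
        generalize f.getD i 0 % 2 = A at *
        generalize g.getD i 0 % 2 = B at *
        obtain rfl | rfl : A = 0 ∨ A = 1 := by omega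
        all_goals obtain rfl | rfl : B = 0 ∨ B = 1 := by omega
        all_goals simp [pow_succ, h.ext.zz]

end Cfsg.Agent.Invol.Suz.Loc
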