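import Cfsg.Agent.Lib.Invol.Suz.Loc.Hat
import Cfsg.Agent.Lib.Invol.Suz.Data

/-!
# Squares of the preimages of an involutive action
-/

set_option autoImplicit false
set_option linter.unusedSectionVars false

namespace Cfsg.Agent.Invol.Suz.Loc

open Cfsg.Agent.Classical.BinCoc Cfsg.Agent.Invol.Big Cfsg.Agent.Invol.Big.Code

variable {G : Type*} [Group G] {K : Cert} {z : G} {Q : Subgroup G} {cd : G → ℕ} {h : Code K z Q cd}
  {c d : G} {f g : List ℕ}

/-- All preimages of `f` square to `z ^ e`. -/
def Sq (h : Code K z Q cd) (f : List ℕ) (e : ℕ) : Prop := ∀ c, IsHat h c f → c * c = z ^ e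

theorem sq_mul_z (h : Code K z Q cd) {c : G} (hc : c * z = z * c) : c * z * (c * z) = c * c := by
  calc c * z * (c * z) = c * (z * c) * z := by group
    _ = c * (c * z) * z := by rw [hc]
    _ = c * c * (z * z) := by group
    _ = c * c := by rw [h.ext.zz, mul_one]

theorem Sq.of_one (H : IsHat h c f) {e : ℕ} (he : c * c = z ^ e) : Sq h f e := fun d hd => by
  rcases H.cancel hd with rfl | rfl
  · exact he
  · rw [sq_mul_z h H.comm, he]

theorem sq_idH (h : Code K z Q cd) : Sq h (idH K) 0 := Sq.of_one (isHat_one h) (by simp)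

theorem sq_inner (h : Code K z Q cd) {a : ℕ} (ha : a < 2 ^ K.n) : Sq h (innH K a) (qn K a) := by
  have := isHat_of_mem h (h.rep_mem a)
  rw [h.cd_rep ha] at this
  exact Sq.of_one this (by rw [h.sq _ (h.rep_mem a), h.cd_rep ha])

/-- Transport along a conjugation. -/
theorem Sq.map {e : ℕ} {γ f' γi : List ℕ} (H : Sq h f e) (hc : IsHat h c γ) (hd : IsHat h d f)
    (hchk : chkConj K γ γi f f' = true) : Sq h f' e := by
  refine Sq.of_one (hc.conj hd hchk) ?_
  rw [conj_mul, H d hd, conj_zpow' hc.comm]

/-- Changing the preimage by an element of `Q`. -/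
theorem Sq.inner {e e' a : ℕ} (H : Sq h f e) (hd : IsHat h d f) (ha : a < 2 ^ K.n)
    (hchk : mulP K (ap K f (2 * a)) (2 * a) = e') (he : e ≤ 1) (he' : e' ≤ 1) :
    Sq h (cmp K f (innH K a)) (e ^^^ e') := by
  have h2 : 2 * a < 2 ^ (K.n + 1) := by rw [pow_succ]; omega
  have hr : IsHat h (el h (2 * a)) (innH K a) := by
    have := isHat_of_mem h (el_mem h (2 * a))
    rwa [cd_el h h2, Nat.mul_div_cancel_left _ two_pos] at this
  refine Sq.of_one (hd.mul hr) ?_
  have hz' : el h e' = z ^ e' := by interval_cases e' <;> simp [el_zero, el_one]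
  calc d * el h (2 * a) * (d * el h (2 * a)) = (d * el h (2 * a) * d⁻¹) * (d * d) * el h (2 * a) := by group
    _ = el h (ap K f (2 * a)) * el h (2 * a) * z ^ e := by
      rw [hd.app, H d hd, mul_assoc, ← zpow_comm h (el_mem h _), ← mul_assoc]
    _ = _ := by rw [el_mul, hchk, hz', h.pow_xor he he', ← pow_add, ← pow_add, Nat.add_comm]

/-- An element of order four inverted through a triangle: the square is an involution. -/
theorem triangle (h : Code K z Q cd) {c d : G} (hc : c * z = z * c) (hd : d * z = z * d)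
    {x y : G} (hx : x = d * c * d⁻¹) (hy : y = d * x * d⁻¹) (hcyc : d * y * d⁻¹ = c)
    (hprod : c * x = y ∨ c * x = y * z) (hsq : d * (c * c) * d⁻¹ = c * c ∨ d * (c * c) * d⁻¹ = c * c * z) :
    c * c * (c * c) = 1 := by
  have hz : ∀ u : G, u * z = z * u → d * (u * z) * d⁻¹ = d * u * d⁻¹ * z := fun u _ => by
    calc d * (u * z) * d⁻¹ = d * u * (z * d⁻¹) := by group
      _ = d * u * (d⁻¹ * z) := by rw [comm_inv hd]
      _ = _ := by group
  have hxz : x * z = z * x := by rw [hx]; exact comm_mul (comm_mul hd hc) (comm_inv hd)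
  have hyz : y * z = z * y := by rw [hy]; exact comm_mul (comm_mul hd hxz) (comm_inv hd)
  have e1 : x * x = d * (c * c) * d⁻¹ := by rw [hx]; group
  have e2 : y * y = d * (x * x) * d⁻¹ := by rw [hy]; group
  have hyy : d * (y * y) * d⁻¹ = c * c := by rw [← conj_mul, hcyc]
  have hcc : c * c * z = z * (c * c) := comm_mul hc hc
  have hfix : d * (c * c) * d⁻¹ = c * c := by
    rcases hsq with e | e
    · exact e
    · exfalso
      rw [e2, e1, e, hz _ hcc, e, mul_assoc (c * c), h.ext.zz, mul_one] at hyy
      rw [e] at hyy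
      exact h.ne (mul_eq_left.1 hyy)
  have hxx : x * x = c * c := e1.trans hfix
  have hyq : y * y = c * c := by rw [e2, hxx, hfix]
  have hcx : c * x * (c * x) = c * c := by
    rcases hprod with e | e
    · rw [e, hyq]
    · rw [e, sq_mul_z h hyz, hyq]
  have k1 : x * c * x = c := by
    calc x * c * x = c⁻¹ * (c * x * (c * x)) := by group
      _ = c := by rw [hcx, inv_mul_cancel_left]
  have k2 : y * x * y = x := by
    calc y * x * y = d * (x * c * x) * d⁻¹ := by rw [hy]; nth_rw 2 [hx]; group
      _ = x := by rw [k1, hx]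
  have k3 : c * x * x * (c * x) = x := by
    rcases hprod with e | e
    · rw [e, k2]
    · rw [e]
      calc y * z * x * (y * z) = y * (z * x) * y * z := by group
        _ = y * x * (z * y) * z := by rw [← hxz]; group
        _ = y * x * y * (z * z) := by rw [← hyz]; group
        _ = x := by rw [k2, h.ext.zz, mul_one]
  rw [mul_assoc c x x, hxx] at k3
  have k4 : c * (c * c) * c = 1 := mul_eq_right.1 ((mul_assoc _ c x).trans k3)
  rw [← k4]; group

end Cfsg.Agent.Invol.Suz.Loc
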