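import Cfsg.Agent.Lib.Invol.Suz.Loc.Basic
import Cfsg.Agent.Lib.Invol.Suz.Loc.Rule

/-!
# Squares of the preimages of the involutive actions
-/

set_option autoImplicit false
set_option linter.unusedSectionVars false

namespace Cfsg.Agent.Invol.Suz.Loc

open Cfsg Cfsg.Agent.Classical.BinCoc Cfsg.Agent.Invol.Big Cfsg.Agent.Invol.Big.Code

/-- Realisability of a list over a word. -/
def chkReal (K : Cert) (w f : List ℕ) : Bool :=
  Wok K w && (f.length == K.n) && (List.range K.n).all fun i => f.getD i 0 / 2 == wd K w (2 ^ i)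

section General

variable {G : Type*} [Group G] {K : Cert} {z : G} {Q : Subgroup G} {cd : G → ℕ} {h : Code K z Q cd}
  {c d : G} {f g : List ℕ}

theorem exists_of_chkReal [Finite G] (h : Code K z Q cd) (hD : chkDual K = true) {w f : List ℕ}
    (e : chkReal K w f = true) : ∃ c, IsHat h c f := by
  simp only [chkReal, Bool.and_eq_true, beq_iff_eq, List.all_eq_true, List.mem_range] at e
  exact realise h hD e.1.1 e.1.2 e.2

theorem isHat_el (h : Code K z Q cd) {x : ℕ} (hx : x < 2 ^ (K.n + 1)) : IsHat h (el h x) (innH K (x / 2)) := by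
  have := isHat_of_mem h (el_mem h x)
  rwa [cd_el h hx] at this

/-- The action on codes, read off a hat. -/
theorem IsHat.act_eq (H : IsHat h c f) {a : ℕ} (ha : a < 2 ^ K.n) : h.act c a = ap K f (2 * a) / 2 := by
  have h2 : 2 * a < 2 ^ (K.n + 1) := by rw [pow_succ]; omega
  have e := cd_el h (H.app_lt (2 * a))
  rw [← H.app, ← h.act_cd H.comm (el_mem h _), cd_el h h2, Nat.mul_div_cancel_left _ two_pos] at e
  exact e

theorem IsHat.ext_hat {f' : List ℕ} (H : IsHat h c f) (e : f = f') : IsHat h c f' := e ▸ H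

theorem IsHat.sq_hat (H : IsHat h c f) (e : cmp K f f = idH K) : c * c = 1 ∨ c * c = z := by
  have := (isHat_one h).cancel ((H.mul H).ext_hat e)
  simpa using this

theorem IsHat.comm_el (H : IsHat h c f) {x : ℕ} (e : ap K f x = x) : c * el h x = el h x * c := by
  rw [← mul_inv_eq_iff_eq_mul, H.app, e]

theorem IsHat.ne_one (H : IsHat h c f) (hne : (f == idH K) = false) : c ≠ 1 := by
  rintro rfl
  rw [H.ext_eq (isHat_one h)] at hne
  simp at hne

theorem IsHat.not_mem [Finite G] (H : IsHat h c f) {a : ℕ} (ha : a < 2 ^ K.n)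
    (hne : ap K f (2 * a) / 2 ≠ a) : c ∉ Q := fun hc =>
  hne (((H.act_eq ha)).symm.trans ((h.mem_iff H.comm).1 hc a ha))

end General

variable {G : Type*} [Group G] [Finite G] {z : G} {Q : Subgroup G} {cd : G → ℕ}

/-- The first base. -/
def fA : List ℕ := [6, 4, 12, 123, 36, 68]

/-- The second base. -/
def fT : List ℕ := [3, 16, 43, 4, 32, 98]

/-- The square root of the first base and the triangle about it. -/
def fR : List ℕ := [12, 4, 2, 86, 64, 36]

/-- The element of order three. -/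
def fO : List ℕ := [2, 4, 42, 86, 103, 36]

/-- Its inverse. -/
def fOi : List ℕ := [2, 4, 79, 116, 68, 99]

theorem triangle_ok : chkReal K6 [34, 49, 54, 56, 41, 51, 50, 57] fR = true ∧
    chkReal K6 [17, 49, 49, 50] fO = true ∧ cmp K6 fR fR = fA ∧
    chkConj K6 fO fOi fR [46, 4, 75, 54, 103, 104] = true ∧
    chkConj K6 fO fOi [46, 4, 75, 54, 103, 104] [75, 4, 42, 30, 108, 103] = true ∧
    cmp K6 fR [46, 4, 75, 54, 103, 104] = [75, 4, 42, 30, 108, 103] ∧
    cmp K6 fO (cmp K6 fO fO) = idH K6 ∧ chkConj K6 fO fOi fA fA = true ∧ cmp K6 fA fA = idH K6 := by decide +kernel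

/-- The preimages of the first base are involutions. -/
theorem Setting.sq_fA (S : Setting z Q cd) : Sq S.code fA 0 := by
  obtain ⟨h1, h2, h3, h4, h5, h6, h7, h8, -⟩ := triangle_ok
  obtain ⟨c, hc⟩ := exists_of_chkReal S.code dual_ok h1
  obtain ⟨d, hd⟩ := exists_of_chkReal S.code dual_ok h2
  have hx := hc.mul hc |>.ext_hat h3
  have hcx := hd.conj hc h4
  have hdz : d * d * d = 1 ∨ d * d * d = z := by
    have := (isHat_one S.code).cancel ((hd.mul (hd.mul hd)).ext_hat h7)
    simpa [mul_assoc] using this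
  refine Sq.of_one hx ?_
  rw [pow_zero]
  refine triangle S.code hc.comm hd.comm rfl rfl ?_ ?_ ?_
  · calc d * (d * (d * c * d⁻¹) * d⁻¹) * d⁻¹ = (d * d * d) * c * (d * d * d)⁻¹ := by group
      _ = c := by
        rcases hdz with e | e <;> rw [e]
        · group
        · rw [← hc.comm, mul_inv_cancel_right]
  · exact (hd.conj hcx h5).cancel ((hc.mul hcx).ext_hat h6)
  · exact hx.cancel (hd.conj hx h8)

/-- The action with a wrong sign. -/
def f1 : List ℕ := [3, 16, 42, 4, 32, 98]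

/-- The hat of the five-element. -/
def bh : List ℕ := [2, 16, 58, 84, 48, 114]

/-- The inverse of the hat of the five-element. -/
def bhi : List ℕ := [2, 119, 43, 4, 36, 99]

/-- Codes fixed by the five-element and commuting with the second coded element. -/
def chkFixB : Bool :=
  (List.range 128).all fun x => !(ap K6 bh x == x) || !(mulP K6 x 2 == mulP K6 2 x) || decide (x < 4)

theorem excl_ok : chkReal K6 [17, 10] f1 = true ∧ chkReal K6 wb bh = true ∧ chkFixB = true ∧
    ap K6 bh 2 = 2 ∧ ap K6 (cmp K6 f1 (innH K6 36)) 2 = 2 ∧ cmp K6 f1 f1 = idH K6 ∧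
    (cmp K6 bh (cmp K6 bh (cmp K6 bh (cmp K6 bh bh))) = idH K6) ∧
    chkConj K6 (cmp K6 f1 (innH K6 36)) (cmp K6 f1 (innH K6 36)) bh bhi = true ∧
    cmp K6 bh bhi = idH K6 ∧ mulP K6 (ap K6 f1 72) 72 = 1 ∧ cmp K6 f1 (innH K6 1) = fT ∧
    mulP K6 (ap K6 f1 2) 2 = 1 ∧ (bh == idH K6) = false ∧
    ((pts K6).all fun a => ap K6 bh (2 * a) / 2 == wd K6 wb a) = true ∧
    mulP K6 2 2 = 0 ∧ cmp K6 bh (idH K6) = bh := by decide +kernel

omit [Finite G] in
theorem pow_five_comm {b : G} (hb : b * z = z * b) (hz : z * z = 1) (hb5 : b * b * b * b * b = z) :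
    b * z * (b * z) * (b * z) * (b * z) * (b * z) = 1 := by
  calc b * z * (b * z) * (b * z) * (b * z) * (b * z)
      = (b * z) ^ 5 := by simp only [pow_succ, pow_zero, one_mul]
    _ = b ^ 5 * z ^ 5 := (show Commute b z from hb).mul_pow 5
    _ = z * z := by
      rw [show b ^ 5 = z by rw [← hb5]; simp only [pow_succ, pow_zero, one_mul],
        show z ^ 5 = (z * z) * (z * z) * z by simp only [pow_succ, pow_zero, one_mul, mul_assoc], hz]
      simp [hz]
    _ = 1 := hz

theorem Setting.exists_five (S : Setting z Q cd) : ∃ β, IsHat S.code β bh ∧ β ^ 5 = 1 ∧ β ≠ 1 := by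
  obtain ⟨-, h2, -, -, -, -, h7, -, -, -, -, -, hne, -, -, hid⟩ := excl_ok
  obtain ⟨c, hc⟩ := exists_of_chkReal S.code dual_ok h2
  have h5 := (isHat_one S.code).cancel ((hc.mul (hc.mul (hc.mul (hc.mul hc)))).ext_hat h7)
  rw [one_mul] at h5
  rcases h5 with e | e
  · exact ⟨c, hc, by simpa [pow_succ, mul_assoc] using e, hc.ne_one hne⟩
  · have := (hc.mul (isHat_z S.code)).ext_hat hid
    refine ⟨c * z, this, ?_, this.ne_one hne⟩
    simpa [pow_succ] using pow_five_comm hc.comm S.code.ext.zz (by simpa [mul_assoc] using e)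

theorem Setting.five_part (S : Setting z Q cd) {M : Subgroup G} (hM : M ≤ Subgroup.centralizer ({z} : Set G))
    {P : Subgroup G} (hPM : P ≤ M) (hP : Nat.card P = 5) :
    ∃ R : Sylow 5 M, (R : Subgroup M) = P.subgroupOf M := by
  haveI : Fact (Nat.Prime 5) := ⟨by norm_num⟩
  have h5 : Nat.card (P.subgroupOf M) = 5 := by rw [Nat.card_congr (Subgroup.subgroupOfEquivOfLe hPM).toEquiv, hP]
  obtain ⟨R, hR⟩ := (IsPGroup.of_card (n := 1) (by rw [h5]; rfl) : IsPGroup 5 (P.subgroupOf M)).exists_le_sylow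
  refine ⟨R, (Subgroup.eq_of_le_of_card_ge hR ?_).symm⟩
  obtain ⟨n, hn⟩ := IsPGroup.iff_card.1 R.isPGroup'
  rw [hn, h5]
  rcases Nat.lt_or_ge n 2 with hn2 | hn2
  · calc 5 ^ n ≤ 5 ^ 1 := Nat.pow_le_pow_right (by norm_num) (by omega)
      _ = 5 := rfl
  · exfalso
    have h25 : 5 ^ 2 ∣ Nat.card (Subgroup.centralizer ({z} : Set G)) :=
      ((pow_dvd_pow 5 hn2).trans (hn ▸ Subgroup.card_subgroup_dvd_card _)).trans (Subgroup.card_dvd_of_le hM)
    rw [Setting.card_C S] at h25
    norm_num at h25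

/-- The preimages of the list with a wrong sign square to `z`. -/
theorem Setting.sq_f1 (S : Setting z Q cd) : Sq S.code f1 1 := by
  classical
  obtain ⟨h1, -, hfix, hb2, hf2, hinv, -, hconj, hbi, hsq, -, -, -, hact, hm22, -⟩ := excl_ok
  set h := S.code
  haveI : Fact (Nat.Prime 5) := ⟨by norm_num⟩
  obtain ⟨c, hc⟩ := exists_of_chkReal h dual_ok h1
  refine Sq.of_one hc ?_
  rw [pow_one]
  rcases hc.sq_hat hinv with hcc | hcc
  swap; · exact hcc
  exfalso
  -- the corrected element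
  set x := c * el h 72 with hxdef
  have hx : IsHat h x (cmp K6 f1 (innH K6 36)) := hc.mul (isHat_el h (by decide))
  have hxx : x * x = z := by
    calc x * x = c * el h 72 * c⁻¹ * (c * c) * el h 72 := by rw [hxdef]; group
      _ = z := by rw [hc.app, hcc, mul_one, el_mul, hsq, el_one]
  set t := el h 2 with htdef
  have hxt : x * t = t * x := hx.comm_el hf2
  obtain ⟨β, hβ, hβ5, hβ1⟩ := Setting.exists_five S
  have hβt : β * t = t * β := hβ.comm_el hb2
  have hord : orderOf β = 5 := orderOf_eq_prime hβ5 hβ1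
  have hxβ : x * β * x⁻¹ = β⁻¹ := by
    have k1 := (hx.conj hβ hconj)
    rcases (isHat_one h).cancel ((hβ.mul k1).ext_hat hbi) with e | e
    · rw [← mul_eq_one_iff_inv_eq.1 e]
    · exfalso
      rw [one_mul] at e
      have e' : x * β * x⁻¹ = β⁻¹ * z := by rw [← e]; group
      have e5 : (x * β * x⁻¹) ^ 5 = 1 := by rw [conj_pow, hβ5]; group
      rw [e', ((show Commute β⁻¹ z from comm_inv hβ.comm)).mul_pow, inv_pow, hβ5, inv_one, one_mul,
        show z ^ 5 = z * z * (z * z) * z by simp only [pow_succ, pow_zero, one_mul, mul_assoc], h.ext.zz] at e5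
      exact h.ne (by simpa using e5)
  have hnc : NonCentral z Q t := nonCentral_of h (el_mem h _) (by rw [cd_el h (by decide)]; decide)
    (by rw [cd_el h (by decide)]; decide +kernel)
  obtain ⟨k, hkz, hkt⟩ := Setting.exists_swap S hnc
  set M : Subgroup G := Subgroup.centralizer ({z} : Set G) ⊓ Subgroup.centralizer ({t} : Set G) with hMdef
  have hmem : ∀ {g : G}, g * z = z * g → g * t = t * g → g ∈ M := fun a b =>
    ⟨Subgroup.mem_centralizer_singleton_iff.2 a, Subgroup.mem_centralizer_singleton_iff.2 b⟩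
  have hM1 : ∀ {g : G}, g ∈ M → g * z = z * g := fun hg => Subgroup.mem_centralizer_singleton_iff.1 hg.1
  have hM2 : ∀ {g : G}, g ∈ M → g * t = t * g := fun hg => Subgroup.mem_centralizer_singleton_iff.1 hg.2
  have hswap : ∀ {g : G}, g ∈ M → k * g * k⁻¹ ∈ M := fun {g} hg => hmem
    (by calc k * g * k⁻¹ * z = k * (g * t) * k⁻¹ := by rw [← hkt]; group
          _ = k * (t * g) * k⁻¹ := by rw [hM2 hg]
          _ = z * (k * g * k⁻¹) := by rw [← hkt]; group)
    (by calc k * g * k⁻¹ * t = k * (g * z) * k⁻¹ := by rw [← hkz]; group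
          _ = k * (z * g) * k⁻¹ := by rw [hM1 hg]
          _ = t * (k * g * k⁻¹) := by rw [← hkz]; group)
  have hβM : β ∈ M := hmem hβ.comm hβt
  have hxM : x ∈ M := hmem hx.comm hxt
  set β' := k * β * k⁻¹ with hβ'
  have hord' : orderOf β' = 5 := by rw [hβ', ← MulAut.conj_apply, MulEquiv.orderOf_eq, hord]
  obtain ⟨R, hR⟩ := Setting.five_part S (inf_le_left : M ≤ _) (Subgroup.zpowers_le.2 hβM) (by rw [Nat.card_zpowers, hord])
  obtain ⟨R', hR'⟩ := Setting.five_part S (inf_le_left : M ≤ _) (Subgroup.zpowers_le.2 (hswap hβM))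
    (by rw [Nat.card_zpowers, hord'])
  obtain ⟨m, hm⟩ := MulAction.exists_smul_eq M R' R
  have hmβ : (m : G) * β' * (m : G)⁻¹ ∈ Subgroup.zpowers β := by
    have h1 : (⟨β', hswap hβM⟩ : M) ∈ (R' : Subgroup M) := hR' ▸ Subgroup.mem_zpowers β'
    have h2 := Subgroup.smul_mem_pointwise_smul _ (MulAut.conj m) _ h1
    rw [← Sylow.coe_subgroup_smul, hm, hR] at h2
    exact h2
  set y := (m : G) * (k * x * k⁻¹) * (m : G)⁻¹ with hydef
  have hyM : y ∈ M := mul_mem (mul_mem m.2 (hswap hxM)) (inv_mem m.2)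
  have hyy : y * y = t := by
    rw [hydef, conj_mul, conj_mul, hxx, hkz, hM2 m.2, mul_inv_cancel_right]
  have hyβ : y * β * y⁻¹ = β⁻¹ := by
    set γ := (m : G) * β' * (m : G)⁻¹ with hγ
    have hγ1 : y * γ * y⁻¹ = γ⁻¹ := by
      calc y * γ * y⁻¹ = (m : G) * (k * (x * β * x⁻¹) * k⁻¹) * (m : G)⁻¹ := by rw [hydef, hγ, hβ']; group
        _ = γ⁻¹ := by rw [hxβ, hγ, hβ']; group
    have hγo : orderOf γ = 5 := by rw [hγ, ← MulAut.conj_apply, MulEquiv.orderOf_eq, hord']
    have : β ∈ Subgroup.zpowers γ := by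
      rw [Subgroup.eq_of_le_of_card_ge (Subgroup.zpowers_le.2 hmβ : Subgroup.zpowers γ ≤ Subgroup.zpowers β)
        (by rw [Nat.card_zpowers, Nat.card_zpowers, hord, hγo])]
      exact Subgroup.mem_zpowers β
    obtain ⟨j, hj⟩ := Subgroup.mem_zpowers_iff.1 this
    rw [← hj, ← conj_zpow, hγ1, inv_zpow]
  set u := y * x⁻¹ with hu
  have huM : u ∈ M := mul_mem hyM (inv_mem hxM)
  have hxiβ : x⁻¹ * β * x = β⁻¹ := by
    calc x⁻¹ * β * x = x⁻¹ * (x * β * x⁻¹)⁻¹ * x := by rw [hxβ, inv_inv]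
      _ = β⁻¹ := by group
  have huβ : u * β = β * u := by
    rw [← mul_inv_eq_iff_eq_mul, hu]
    calc y * x⁻¹ * β * (y * x⁻¹)⁻¹ = y * (x⁻¹ * β * x) * y⁻¹ := by group
      _ = (y * β * y⁻¹)⁻¹ := by rw [hxiβ]; group
      _ = β := by rw [hyβ, inv_inv]
  have hβa : ∀ a < 2 ^ K6.n, h.act β a = wd K6 wb a := fun a ha => by
    rw [hβ.act_eq ha]
    simp only [List.all_eq_true, pts, List.mem_range, beq_iff_eq] at hact
    exact hact a ha
  obtain ⟨i, -, hi⟩ := comm_classify (h.act u) (fun a _ => h.act_lt (hM1 huM) a)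
    (fun a b ha hb => h.act_xor (hM1 huM) ha hb) (fun a ha => h.act_q (hM1 huM) ha) (fun a ha => by
      rw [← hβa a ha, ← h.act_mul (hM1 huM) hβ.comm ha, huβ, h.act_mul hβ.comm (hM1 huM) ha,
        hβa _ (h.act_lt (hM1 huM) a)])
  have hu1 : h.act u 1 = 1 := by
    have e := h.act_cd (hM1 huM) (el_mem h 2)
    rw [cd_el h (by decide), show u * el h 2 * u⁻¹ = el h 2 from mul_inv_eq_iff_eq_mul.2 (hM2 huM),
      cd_el h (by decide)] at e
    exact e
  rcases hi with hi | ⟨-, hi⟩
  swap; · rw [hu1] at hi; exact absurd hi (by decide)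
  have hβi : ∀ j : ℕ, β ^ j ∈ M ∧ ∀ a < 2 ^ K6.n, h.act (β ^ j) a = bIt j a := by
    intro j
    refine ⟨pow_mem hβM j, ?_⟩
    induction j with
    | zero => exact fun a ha => by rw [pow_zero, h.act_one ha]; rfl
    | succ j ih =>
      intro a ha
      rw [pow_succ', h.act_mul hβ.comm (hM1 (pow_mem hβM j)) ha, hβa _ (h.act_lt (hM1 (pow_mem hβM j)) a), ih a ha]
      rfl
  set r := (β ^ i)⁻¹ * u with hr
  have hrM : r ∈ M := mul_mem (inv_mem (hβi i).1) huM
  have hrQ : r ∈ Q := (h.mem_iff (hM1 hrM)).2 fun a ha => by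
    rw [h.act_mul (comm_inv (hM1 (hβi i).1)) (hM1 huM) ha, hi a ha, ← (hβi i).2 a ha,
      h.act_inv_left (hM1 (hβi i).1) ha]
  have hrβ : r * β = β * r := by
    refine (Commute.mul_left ?_ (show Commute u β from huβ)).eq
    exact ((Commute.refl β).pow_left i).inv_left
  obtain ⟨x0, hx0, hxe⟩ := exists_el h hrQ
  have hx0fix : ap K6 bh x0 = x0 :=
    el_inj h (hβ.app_lt x0) hx0 (by rw [← hβ.app, hxe, ← hrβ, mul_inv_cancel_right])
  have hx04 : x0 < 4 := by
    simp only [chkFixB, List.all_eq_true, List.mem_range, Bool.or_eq_true, Bool.not_eq_true', beq_eq_false_iff_ne,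
      decide_eq_true_eq] at hfix
    rcases hfix x0 hx0 with (e | e) | e
    · exact absurd hx0fix e
    · exact absurd (el_inj h (mulP_lt hx0 (by decide)) (mulP_lt (by decide) hx0)
        (by rw [← el_mul, ← el_mul, hxe]; exact hM2 hrM)) e
    · exact e
  have hr2 : r * r = 1 ∧ x * r = r * x := by
    have ht2 : el h 2 * el h 2 = 1 := by rw [el_mul, hm22, el_zero]
    have h3 : el h 3 = el h 2 * z := el_xor_one h 2
    have hzc := hx.comm
    rw [← hxe]
    interval_cases x0
    · simp [el_zero]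
    · simp [el_one, h.ext.zz, hzc]
    · exact ⟨ht2, hxt⟩
    · rw [h3]
      exact ⟨by rw [sq_mul_z h (h.ext.central _ (el_mem h _)), ht2],
        ((show Commute x t from hxt).mul_right (show Commute x z from hzc)).eq⟩
  have key : y * y = z := by
    have e : y = β ^ i * r * x := by rw [hr, hu]; group
    have hxi : x * β ^ i = (β ^ i)⁻¹ * x := by
      rw [← mul_inv_eq_iff_eq_mul, ← conj_pow, hxβ, inv_pow]
    calc y * y = β ^ i * r * (x * β ^ i) * (r * x) := by rw [e]; group
      _ = (β ^ i * r * (β ^ i)⁻¹) * ((x * r) * x) := by rw [hxi]; group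
      _ = r * (r * x * x) := by
        rw [hr2.2, ((show Commute r β from hrβ).pow_right i).eq.symm, mul_inv_cancel_right]
      _ = (r * r) * (x * x) := by group
      _ = z := by rw [hr2.1, hxx, one_mul]
  exact hnc.2.2.2 (hyy.symm.trans key)

/-- The preimages of the second base are involutions. -/
theorem Setting.sq_fT (S : Setting z Q cd) : Sq S.code fT 0 := by
  obtain ⟨h1, -, -, -, -, -, -, -, -, -, hT, he, -, -, -, -⟩ := excl_ok
  obtain ⟨c, hc⟩ := exists_of_chkReal S.code dual_ok h1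
  have := Sq.inner (Setting.sq_f1 S) hc (a := 1) (by decide) (e' := 1) he le_rfl le_rfl
  rwa [hT] at this

/-- The three bases. -/
def bases : ℕ → List ℕ
  | 0 => idH K6
  | 1 => fA
  | _ => fT

/-- A lift of a word with positive signs. -/
def lift0 (w : List ℕ) : List ℕ := (List.range K6.n).map fun i => 2 * wd K6 w (2 ^ i)

/-- The inverse of a hat, found by search. -/
def invH (f : List ℕ) : List ℕ :=
  (List.range K6.n).map fun i => ((List.range 128).find? fun x => ap K6 f x == 2 * 2 ^ i).getD 0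

/-- The conjugate of a hat. -/
def conjH (γ f : List ℕ) : List ℕ := cmp K6 γ (cmp K6 f (invH γ))

/-- The inverse of the lift of a word. -/
def inv0 (w : List ℕ) : List ℕ :=
  (List.range K6.n).map fun i =>
    let c := 2 * wd K6 w.reverse (2 ^ i)
    c + ap K6 (lift0 w) c % 2

/-- The conjugate of a hat by the lift of a word. -/
def conjW (w f : List ℕ) : List ℕ := cmp K6 (lift0 w) (cmp K6 f (inv0 w))

/-- A certificate of the square of the preimages. -/
def chkSq (f : List ℕ) (e : ℕ) (c : ℕ × List ℕ × ℕ) : Bool :=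
  let γ := lift0 c.2.1
  let f' := conjW c.2.1 (bases c.1)
  decide (c.2.2 < 64) && Wok K6 c.2.1 && chkConj K6 γ (inv0 c.2.1) (bases c.1) f' &&
    (cmp K6 f' (innH K6 c.2.2) == f) && (mulP K6 (ap K6 f' (2 * c.2.2)) (2 * c.2.2) == e) && decide (e ≤ 1)

theorem bases_ok : chkReal K6 [50, 48, 7, 5] fA = true ∧ chkReal K6 [17, 10] fT = true := by decide +kernel

theorem Setting.sq_bases (S : Setting z Q cd) (k : ℕ) :
    Sq S.code (bases k) 0 ∧ ∃ d, IsHat S.code d (bases k) := by
  rcases k with _ | _ | k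
  · exact ⟨sq_idH S.code, 1, isHat_one S.code⟩
  · exact ⟨Setting.sq_fA S, exists_of_chkReal S.code dual_ok bases_ok.1⟩
  · exact ⟨Setting.sq_fT S, exists_of_chkReal S.code dual_ok bases_ok.2⟩

theorem exists_lift0 (h : Code K6 z Q cd) {w : List ℕ} (hw : Wok K6 w = true) : ∃ d, IsHat h d (lift0 w) :=
  realise h dual_ok hw (by simp [lift0]) fun i hi => by simp [lift0, hi]

/-- A certified hat. -/
theorem Setting.sq_cert (S : Setting z Q cd) {f : List ℕ} {e : ℕ} {c : ℕ × List ℕ × ℕ} (hc : chkSq f e c = true) :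
    Sq S.code f e := by
  simp only [chkSq, Bool.and_eq_true, decide_eq_true_eq, beq_iff_eq] at hc
  obtain ⟨⟨⟨⟨⟨ha, hw⟩, hconj⟩, hf⟩, he⟩, he1⟩ := hc
  obtain ⟨γ, hγ⟩ := exists_lift0 S.code hw
  obtain ⟨hsq, d, hd⟩ := Setting.sq_bases S c.1
  have := Sq.inner (hsq.map hγ hd hconj) (hγ.conj hd hconj) ha he (by norm_num) he1
  rwa [hf, Nat.zero_xor] at this

end Cfsg.Agent.Invol.Suz.Loc
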