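import Cfsg.Agent.Lib.Invol.Suz.Loc.Order
import Cfsg.Agent.Lib.Invol.Suz.Loc.Tools
import Cfsg.Agent.Lib.Invol.BrauerSuzuki

/-!
# Elements of order five and seven in the centralizer of `t`
-/

set_option autoImplicit false
set_option linter.unusedSectionVars false
set_option linter.style.haveILetI false

namespace Cfsg.Agent.Invol.Suz.Loc

open Cfsg Cfsg.Agent.Classical.BinCoc Cfsg.Agent.Invol.Big Cfsg.Agent.Invol.Big.Code

theorem odd_roots : ((List.range 256).all fun i => [24, 64, 88, 152, 192, 216].any fun y =>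
    (mulM y (2 * i + 1) == mulM (2 * i + 1) y) && (sqM y == 256)) = true := by decide +kernel

theorem even_sq : ((List.range 256).all fun i => sqM (2 * i) % 8 == 0) = true := by decide +kernel

variable {G : Type*} [Group G] [Finite G] {z : G} {Q : Subgroup G} {cd : G → ℕ}

namespace Mdl

variable {S : Setting z Q cd} {g : ℕ → G}

theorem L_odd (M : Mdl S g) {x a : G} (hx : x ∈ M.L) (hodd : Odd (orderOf x)) (hx1 : x ≠ 1) (ha : a ∈ M.L)
    (ha2 : a * a = 1) (ha1 : a ≠ 1) : x * a ≠ a * x := by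
  intro hc
  obtain ⟨k, hk⟩ := M.pow_two_A (M.L_le ha) (M.L_invol ha ha2 ha1) (M.L_le hx) hc
  exact hx1 (orderOf_eq_one_iff.1 (Nat.eq_one_of_dvd_coprimes
    ((Nat.coprime_two_right.2 hodd).pow_right k) dvd_rfl (orderOf_dvd_of_pow_eq_one hk)))

theorem cxL_odd (M : Mdl S g) {x : G} (hx : x ∈ M.L) (hodd : Odd (orderOf x)) (hx1 : x ≠ 1) :
    ¬ 2 ∣ Nat.card (cx M.L x) := fun h2 => by
  haveI : Fact (Nat.Prime 2) := ⟨Nat.prime_two⟩
  obtain ⟨⟨a, ha⟩, ho⟩ := exists_prime_orderOf_dvd_card' (G := cx M.L x) 2 h2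
  rw [Subgroup.orderOf_mk] at ho
  exact M.L_odd hx hodd hx1 (mem_cx.1 ha).1 (by rw [← pow_two, ← ho, pow_orderOf_eq_one])
    (fun e => by rw [e, orderOf_one] at ho; omega) (mem_cx.1 ha).2.symm

theorem cxL_dvd (M : Mdl S g) {x : G} (hx : x ∈ M.L) (hodd : Odd (orderOf x)) (hx1 : x ≠ 1) :
    Nat.card (cx M.L x) ∣ 315 := by
  refine (((Nat.prime_two.coprime_iff_not_dvd.2 (M.cxL_odd hx hodd hx1)).symm).pow_right 6).dvd_of_dvd_mul_left
    (?_ : _ ∣ 2 ^ 6 * 315)
  rw [show 2 ^ 6 * 315 = 20160 by norm_num, ← M.card_L]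
  exact Subgroup.card_dvd_of_le inf_le_left

theorem no_three_five (M : Mdl S g) {y : G} (hy : y ∈ M.L) (hy5 : orderOf y = 5) : ¬ 3 ∣ Nat.card (cx M.L y) := by
  intro h3
  haveI : Fact (Nat.Prime 3) := ⟨Nat.prime_three⟩
  obtain ⟨⟨a, ha⟩, ho⟩ := exists_prime_orderOf_dvd_card' (G := cx M.L y) 3 h3
  rw [Subgroup.orderOf_mk] at ho
  obtain ⟨haL, hay⟩ := mem_cx.1 ha
  obtain ⟨e⟩ := M.L_iso
  have hmul : orderOf (a * y) = 15 := by
    rw [(show Commute a y from hay).orderOf_mul_eq_mul_orderOf_of_coprime (by rw [ho, hy5]; norm_num), ho, hy5]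
  exact Spor.L34Elem.no_fifteen (e ⟨a * y, mul_mem haL hy⟩) (by
    rw [MulEquiv.orderOf_eq, Subgroup.orderOf_mk, hmul])

theorem odd_of {x : G} {p : ℕ} (hp : p = 5 ∨ p = 7) (hx : orderOf x = p) : Odd (orderOf x) ∧ x ≠ 1 := by
  refine ⟨by rcases hp with rfl | rfl <;> rw [hx] <;> decide, fun e => ?_⟩
  rw [e, orderOf_one] at hx
  omega

theorem L_count (M : Mdl S g) {x : G} {p : ℕ} (hp : p = 5 ∨ p = 7) (hxL : x ∈ M.L) (hx : orderOf x = p) :
    ∃ e n, e ∣ p - 1 ∧ n % p = 1 ∧ Nat.card (nz M.L x) = Nat.card (cx M.L x) * e ∧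
      20160 = Nat.card (cx M.L x) * e * n := by
  haveI : Fact p.Prime := ⟨by rcases hp with rfl | rfl <;> norm_num⟩
  obtain ⟨e, he, hN⟩ := index_cx (H := M.L) hx
  obtain ⟨n, hn, hL⟩ := sylow_count (H := M.L) hx hxL (by rw [M.card_L]; rcases hp with rfl | rfl <;> norm_num)
  rw [M.card_L, hN] at hL
  exact ⟨e, n, he, hn, hN, hL⟩

theorem not_burnside (M : Mdl S g) {x : G} {p : ℕ} (hp : p = 5 ∨ p = 7) (hxL : x ∈ M.L) (hx : orderOf x = p) :
    Nat.card (nz M.L x) ≠ Nat.card (cx M.L x) * 1 := fun h => by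
  haveI : Fact p.Prime := ⟨by rcases hp with rfl | rfl <;> norm_num⟩
  haveI := M.simple
  exact no_burnside M.not_comm hx hxL (by rw [M.card_L]; rcases hp with rfl | rfl <;> norm_num) (by omega)

/-- No elements of order five and seven of `L` commute. -/
theorem not_35 (M : Mdl S g) {x y : G} (hxL : x ∈ M.L) (hx : orderOf x = 7) (hyL : y ∈ M.L) (hy : orderOf y = 5)
    (hc : x * y = y * x) : False := by
  obtain ⟨hodd, hy1⟩ := odd_of (Or.inl rfl) hy
  have h5 : 5 ∣ Nat.card (cx M.L y) := hy ▸ Subgroup.orderOf_dvd_natCard _ (mem_cx.2 ⟨hyL, rfl⟩)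
  have h7 : 7 ∣ Nat.card (cx M.L y) := hx ▸ Subgroup.orderOf_dvd_natCard _ (mem_cx.2 ⟨hxL, hc⟩)
  have hd := M.cxL_dvd hyL hodd hy1
  have h3 := M.no_three_five hyL hy
  obtain ⟨e, n, he, hn, hN, hL⟩ := M.L_count (Or.inl rfl) hyL hy
  have hne := M.not_burnside (Or.inl rfl) hyL hy
  generalize Nat.card (cx M.L y) = c at *
  have hm : c ∈ Nat.divisors 315 := Nat.mem_divisors.2 ⟨hd, by norm_num⟩
  rw [show Nat.divisors 315 = {1, 3, 5, 7, 9, 15, 21, 35, 45, 63, 105, 315} by decide +kernel] at hm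
  simp only [Finset.mem_insert, Finset.mem_singleton] at hm
  have he' : e = 1 ∨ e = 2 ∨ e = 4 := by
    have := Nat.le_of_dvd (by norm_num) he
    interval_cases e <;> norm_num at he <;> omega
  rcases hm with rfl | rfl | rfl | rfl | rfl | rfl | rfl | rfl | rfl | rfl | rfl | rfl <;> (try omega)
  rcases he' with rfl | rfl | rfl
  · exact hne hN
  all_goals omega

theorem L_local_five (M : Mdl S g) {x : G} (hxL : x ∈ M.L) (hx : orderOf x = 5) :
    Nat.card (cx M.L x) = 5 ∧ Nat.card (nz M.L x) = 10 := by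
  obtain ⟨hodd, hx1⟩ := odd_of (Or.inl rfl) hx
  have h5 : 5 ∣ Nat.card (cx M.L x) := hx ▸ Subgroup.orderOf_dvd_natCard _ (mem_cx.2 ⟨hxL, rfl⟩)
  have hd := M.cxL_dvd hxL hodd hx1
  have h3 := M.no_three_five hxL hx
  have h7 : ¬ 7 ∣ Nat.card (cx M.L x) := fun h7 => by
    haveI : Fact (Nat.Prime 7) := ⟨by norm_num⟩
    obtain ⟨⟨a, ha⟩, ho⟩ := exists_prime_orderOf_dvd_card' (G := cx M.L x) 7 h7
    rw [Subgroup.orderOf_mk] at ho
    exact M.not_35 (mem_cx.1 ha).1 ho hxL hx (mem_cx.1 ha).2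
  obtain ⟨e, n, he, hn, hN, hL⟩ := M.L_count (Or.inl rfl) hxL hx
  have hne := M.not_burnside (Or.inl rfl) hxL hx
  generalize Nat.card (cx M.L x) = c at *
  have hm : c ∈ Nat.divisors 315 := Nat.mem_divisors.2 ⟨hd, by norm_num⟩
  rw [show Nat.divisors 315 = {1, 3, 5, 7, 9, 15, 21, 35, 45, 63, 105, 315} by decide +kernel] at hm
  simp only [Finset.mem_insert, Finset.mem_singleton] at hm
  rcases hm with rfl | rfl | rfl | rfl | rfl | rfl | rfl | rfl | rfl | rfl | rfl | rfl <;> (try omega)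
  have := Nat.le_of_dvd (by norm_num) he
  interval_cases e <;> norm_num at he <;> omega

theorem L_local_seven (M : Mdl S g) {x : G} (hxL : x ∈ M.L) (hx : orderOf x = 7) :
    Nat.card (cx M.L x) = 7 ∧ Nat.card (nz M.L x) = 21 := by
  obtain ⟨hodd, hx1⟩ := odd_of (Or.inr rfl) hx
  have h7 : 7 ∣ Nat.card (cx M.L x) := hx ▸ Subgroup.orderOf_dvd_natCard _ (mem_cx.2 ⟨hxL, rfl⟩)
  have hd := M.cxL_dvd hxL hodd hx1
  have h5 : ¬ 5 ∣ Nat.card (cx M.L x) := fun h5 => by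
    haveI : Fact (Nat.Prime 5) := ⟨by norm_num⟩
    obtain ⟨⟨a, ha⟩, ho⟩ := exists_prime_orderOf_dvd_card' (G := cx M.L x) 5 h5
    rw [Subgroup.orderOf_mk] at ho
    exact M.not_35 hxL hx (mem_cx.1 ha).1 ho (mem_cx.1 ha).2.symm
  obtain ⟨e, n, he, hn, hN, hL⟩ := M.L_count (Or.inr rfl) hxL hx
  have hne := M.not_burnside (Or.inr rfl) hxL hx
  generalize Nat.card (cx M.L x) = c at *
  have hm : c ∈ Nat.divisors 315 := Nat.mem_divisors.2 ⟨hd, by norm_num⟩
  rw [show Nat.divisors 315 = {1, 3, 5, 7, 9, 15, 21, 35, 45, 63, 105, 315} by decide +kernel] at hm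
  simp only [Finset.mem_insert, Finset.mem_singleton] at hm
  have := Nat.le_of_dvd (by norm_num) he
  rcases hm with rfl | rfl | rfl | rfl | rfl | rfl | rfl | rfl | rfl | rfl | rfl | rfl <;> (try omega) <;>
    interval_cases e <;> norm_num at he <;> omega

theorem L_local (M : Mdl S g) {x : G} {p : ℕ} (hp : p = 5 ∨ p = 7) (hxL : x ∈ M.L) (hx : orderOf x = p) :
    Nat.card (cx M.L x) = p ∧ ¬ 4 ∣ Nat.card (nz M.L x) := by
  rcases hp with rfl | rfl
  · obtain ⟨h1, h2⟩ := M.L_local_five hxL hx; exact ⟨h1, by rw [h2]; norm_num⟩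
  · obtain ⟨h1, h2⟩ := M.L_local_seven hxL hx; exact ⟨h1, by rw [h2]; norm_num⟩

theorem cxL_eq (M : Mdl S g) {x : G} {p : ℕ} (hp : p = 5 ∨ p = 7) (hxL : x ∈ M.L) (hx : orderOf x = p) :
    cx M.L x = Subgroup.zpowers x :=
  (Subgroup.eq_of_le_of_card_ge (zpowers_le_cx hxL) (by
    rw [(M.L_local hp hxL hx).1, Nat.card_zpowers, hx])).symm

/-- Two commuting conjugates of `z` centralizing an element with an odd code are equal. -/
theorem odd_rank_one (M : Mdl S g) {a : ℕ} (ha : a < 512) (hodd : a % 2 = 1) {w1 w2 : G} (h1D : w1 ∈ Dg g)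
    (h2D : w2 ∈ Dg g) (h1A : IsConj z w1) (h2A : IsConj z w2) (h1 : w1 * ev g a = ev g a * w1)
    (h2 : w2 * ev g a = ev g a * w2) (h12 : w1 * w2 = w2 * w1) : w1 = w2 := by
  haveI : Fact (Nat.Prime 2) := ⟨Nat.prime_two⟩
  set x := ev g a
  have hodd' := odd_ok.1
  simp only [List.all_eq_true, List.mem_range, Bool.or_eq_true, Bool.not_eq_true', beq_eq_false_iff_ne, beq_iff_eq] at hodd'
  have honly : ∀ w ∈ M.sub, IsConj z w → w * x = x * w → w = z := by
    rintro _ ⟨k, hk, rfl⟩ hA hcomm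
    have hka := (M.mem_aList hk).2 hA
    rcases hodd' (a / 2) (by omega) k hka with hne | e'
    · refine absurd ?_ hne
      rw [show 2 * (a / 2) + 1 = a by omega]
      exact M.ev_inj (M.mulM_spec _ ha).1 (M.mulM_spec _ hk).1 (by rw [← M.ev_mul _ ha, ← M.ev_mul _ hk]; exact hcomm)
    · rw [e', M.z_eq]
  set P := Dg g ⊓ Subgroup.centralizer ({x} : Set G) with hP
  set R0 := M.sub ⊓ Subgroup.centralizer ({x} : Set G) with hR0
  have hR0P : R0 ≤ P := inf_le_inf_right _ M.SS_le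
  obtain ⟨R, hR⟩ := (M.isPGroup_SS.to_le (inf_le_left : R0 ≤ _) |>.comap_subtype :
    IsPGroup 2 (R0.subgroupOf P)).exists_le_sylow
  have hRe : (R : Subgroup P) = R0.subgroupOf P := by
    by_contra hne
    haveI : Group.IsNilpotent (R : Subgroup P) := R.isPGroup'.isNilpotent
    have hlt : (R0.subgroupOf P).subgroupOf (R : Subgroup P) < ⊤ := lt_top_iff_ne_top.2 fun e =>
      hne (le_antisymm (Subgroup.subgroupOf_eq_top.1 e) hR)
    obtain ⟨⟨⟨p, hp⟩, hpR⟩, hpn, hpH⟩ := SetLike.exists_of_lt (Group.normalizerCondition_of_isNilpotent _ hlt)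
    simp only [Subgroup.mem_subgroupOf] at hpH
    have hzx : z * x = x * z := ((M.mem_SS.1 (M.ev_SS ha)).1).symm
    have hzR0 : z ∈ R0 := ⟨M.z_mem_sub, Subgroup.mem_centralizer_singleton_iff.2 hzx⟩
    have hmem := (Subgroup.mem_normalizer_iff.1 hpn ⟨⟨z, hR0P hzR0⟩, hR (Subgroup.mem_subgroupOf.2 hzR0)⟩).1
      (by simpa [Subgroup.mem_subgroupOf] using hzR0)
    simp only [Subgroup.mem_subgroupOf] at hmem
    have hz := honly _ hmem.1 (isConj_iff.2 ⟨p, rfl⟩) (Subgroup.mem_centralizer_singleton_iff.1 hmem.2)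
    exact hpH ⟨M.mem_SS.2 ⟨mul_inv_eq_iff_eq_mul.1 hz, hp.1⟩, hp.2⟩
  -- the four-group
  set v1 : P := ⟨w1, h1D, Subgroup.mem_centralizer_singleton_iff.2 h1⟩
  set v2 : P := ⟨w2, h2D, Subgroup.mem_centralizer_singleton_iff.2 h2⟩
  have hz1 : IsPGroup 2 (Subgroup.zpowers v1) := IsPGroup.of_card (n := 1) (by
    rw [Nat.card_zpowers, pow_one, ← Subgroup.orderOf_coe]
    exact orderOf_eq_prime (by rw [pow_two]; exact (conj_class_sq S h1A).1) (conj_class_sq S h1A).2)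
  have hz2 : IsPGroup 2 (Subgroup.zpowers v2) := IsPGroup.of_card (n := 1) (by
    rw [Nat.card_zpowers, pow_one, ← Subgroup.orderOf_coe]
    exact orderOf_eq_prime (by rw [pow_two]; exact (conj_class_sq S h2A).1) (conj_class_sq S h2A).2)
  have hW : IsPGroup 2 ((Subgroup.zpowers v1 ⊔ Subgroup.zpowers v2 : Subgroup P)) :=
    hz1.to_sup_of_normal_right' hz2 (Subgroup.zpowers_le.2 (by
      have : Subgroup.centralizer (Subgroup.zpowers v2 : Set P) ≤
          Subgroup.normalizer ((Subgroup.zpowers v2 : Subgroup P) : Set P) := Subgroup.centralizer_le_normalizer _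
      refine this ?_
      rw [Subgroup.zpowers_eq_closure, Subgroup.centralizer_closure, Subgroup.mem_centralizer_singleton_iff]
      exact Subtype.ext h12))
  obtain ⟨R', hR'⟩ := hW.exists_le_sylow
  obtain ⟨p, hp⟩ := MulAction.exists_smul_eq P R' R
  have hin : ∀ v : P, IsConj z (v : G) → v ∈ (R' : Subgroup P) → (p : G) * v * (p : G)⁻¹ = z := by
    intro v hvA hm
    have h2 := Subgroup.smul_mem_pointwise_smul _ (MulAut.conj p) _ hm
    rw [← Sylow.coe_subgroup_smul, hp, hRe, Subgroup.mem_subgroupOf] at h2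
    exact honly _ h2.1 (hvA.trans (isConj_iff.2 ⟨(p : G), rfl⟩)) (Subgroup.mem_centralizer_singleton_iff.1 h2.2)
  have e1 := hin v1 h1A (hR' ((le_sup_left : _ ≤ Subgroup.zpowers v1 ⊔ Subgroup.zpowers v2) (Subgroup.mem_zpowers v1)))
  have e2 := hin v2 h2A (hR' ((le_sup_right : _ ≤ Subgroup.zpowers v1 ⊔ Subgroup.zpowers v2) (Subgroup.mem_zpowers v2)))
  exact mul_left_cancel (mul_right_cancel (e1.trans e2.symm))

/-- An element with an odd code centralizes no element of order five or seven of `L`. -/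
theorem no_odd_cent (M : Mdl S g) {a : ℕ} (ha : a < 512) (hodd : a % 2 = 1) {x : G} {p : ℕ} (hp : p = 5 ∨ p = 7)
    (hxL : x ∈ M.L) (hx : orderOf x = p) (hc : x * ev g a = ev g a * x) : False := by
  haveI : Fact p.Prime := ⟨by rcases hp with rfl | rfl <;> norm_num⟩
  set u := ev g a
  set X : Subgroup G := M.L ⊓ Subgroup.centralizer ({u} : Set G)
  have hX : ∀ {w : G}, w ∈ X ↔ w ∈ M.L ∧ w * u = u * w := fun {w} => by
    simp [X, Subgroup.mem_centralizer_singleton_iff]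
  have hA : ∀ v : X, orderOf v = 2 → IsConj z (v : G) := fun v hv => by
    have h2 : (v : G) * v = 1 := congrArg Subtype.val (show v * v = 1 by rw [← pow_two, ← hv, pow_orderOf_eq_one])
    exact M.L_invol (hX.1 v.2).1 h2 fun e => by
      rw [show v = 1 from Subtype.ext e, orderOf_one] at hv; omega
  have hrank : BS.TwoRankOne X := fun v w hv hw hvw => Subtype.ext
    (M.odd_rank_one ha hodd (M.L_le (hX.1 v.2).1) (M.L_le (hX.1 w.2).1) (hA v hv) (hA w hw) (hX.1 v.2).2 (hX.1 w.2).2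
      (congrArg Subtype.val hvw.eq))
  have hzX : z ∈ X := hX.2 ⟨M.A_mem_L M.z_mem_D (IsConj.refl z), ((M.mem_SS.1 (M.ev_SS ha)).1).symm⟩
  have hxX : x ∈ X := hX.2 ⟨hxL, hc⟩
  set zX : X := ⟨z, hzX⟩
  obtain ⟨N, hN, hNodd, hcomm⟩ := BS.exists_odd_normal hrank (z := zX) (by rw [Subgroup.orderOf_mk, S.code.ord])
  -- an element of odd order fixed by `z` is trivial
  have hfix : ∀ w : X, Odd (orderOf w) → zX * w = w * zX → w = 1 := fun w hw he => by
    by_contra h1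
    exact M.L_odd (hX.1 w.2).1 (by rwa [Subgroup.orderOf_coe]) (fun e => h1 (Subtype.ext e))
      (hX.1 hzX).1 S.code.ext.zz S.code.ne (congrArg Subtype.val he.symm)
  have hz2 : zX * zX = 1 := Subtype.ext S.code.ext.zz
  have hmk : ∀ w : X, QuotientGroup.mk' N (zX * w * zX⁻¹) = QuotientGroup.mk' N w := fun w => by
    have : QuotientGroup.mk' N (zX * w * zX⁻¹ * w⁻¹) = 1 := (QuotientGroup.eq_one_iff _).2 (hcomm w)
    rwa [map_mul, map_inv, mul_inv_eq_one] at this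
  -- `z` inverts the elements of odd order
  have hinv : ∀ w : X, Odd (orderOf w) → zX * w * zX⁻¹ = w⁻¹ := by
    intro w hw
    set K := (Subgroup.zpowers (QuotientGroup.mk' N w)).comap (QuotientGroup.mk' N)
    have hK : Odd (Nat.card K) := by
      rw [card_comap_mk, Nat.card_zpowers]
      exact hNodd.mul (hw.of_dvd_nat (orderOf_map_dvd _ w))
    refine inverts hz2 (N := K) (fun v hv => ?_) (fun v hv he => ?_) (Subgroup.mem_zpowers _)
    · rw [Subgroup.mem_comap, hmk]; exact hv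
    · exact hfix v (hK.of_dvd_nat (Subgroup.orderOf_dvd_natCard _ hv)) he
  have hmem : ∀ w : X, Odd (orderOf w) → w ∈ N := by
    intro w hw
    have h2 : w⁻¹ * w⁻¹ ∈ N := by
      have := hcomm w
      rwa [hinv w hw] at this
    obtain ⟨m, hm⟩ := hw
    have : (w⁻¹ * w⁻¹) ^ (m + 1) ∈ N := pow_mem h2 _
    rw [show (w⁻¹ * w⁻¹) ^ (m + 1) = (w ^ (2 * m + 1 + 1))⁻¹ by
      rw [← pow_two, ← pow_mul, inv_pow, show 2 * (m + 1) = 2 * m + 1 + 1 by ring],
      pow_succ, ← hm, pow_orderOf_eq_one, one_mul] at this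
    exact (Subgroup.inv_mem_iff _).1 this
  set xX : X := ⟨x, hxX⟩
  have hxodd : Odd (orderOf xX) := by rw [Subgroup.orderOf_mk]; exact (odd_of hp hx).1
  have hxN := hmem xX hxodd
  have hNodd' : ∀ w ∈ N, Odd (orderOf w) := fun w hw => hNodd.of_dvd_nat (Subgroup.orderOf_dvd_natCard _ hw)
  have hNx : ∀ w ∈ N, (w : G) ∈ Subgroup.zpowers x := by
    intro w hw
    rw [← M.cxL_eq hp hxL hx, mem_cx]
    refine ⟨(hX.1 w.2).1, congrArg Subtype.val (?_ : w * xX = xX * w)⟩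
    have e1 := hinv _ (hNodd' _ (mul_mem hw hxN))
    rw [← conj_mul, hinv w (hNodd' _ hw), hinv xX hxodd, mul_inv_rev] at e1
    exact inv_injective (by rw [mul_inv_rev, mul_inv_rev]; exact e1.symm)
  -- an element of `U` squaring to `z`
  have hr := odd_roots
  simp only [List.all_eq_true, List.any_eq_true, List.mem_range, Bool.and_eq_true, beq_iff_eq] at hr
  obtain ⟨y, hy, hyc, hy2⟩ := hr (a / 2) (by omega)
  rw [show 2 * (a / 2) + 1 = a by omega] at hyc
  have hylt : y < 512 ∧ y % 8 = 0 := by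
    simp only [List.mem_cons, List.not_mem_nil, or_false] at hy
    omega
  have hyL : ev g y ∈ M.L := M.U_le_L ((M.ev_mem_U hylt.1).2 hylt.2)
  have hyX : ev g y ∈ X := hX.2 ⟨hyL, by
    rw [M.ev_mul _ ha, M.ev_mul _ hylt.1, hyc]⟩
  have hynz : ev g y ∈ nz M.L x := mem_nz_of hx hyL
    (hNx (⟨ev g y, hyX⟩ * xX * ⟨ev g y, hyX⟩⁻¹) (hN.conj_mem _ hxN _))
  have hy4 : orderOf (ev g y) = 4 := by
    haveI : Fact (Nat.Prime 2) := ⟨Nat.prime_two⟩
    have hsq : ev g y * ev g y = z := by rw [M.ev_sq hylt.1, hy2, M.z_eq]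
    refine orderOf_eq_prime_pow (p := 2) (n := 1) (fun e => S.code.ne ?_) ?_
    · rw [← hsq]; simpa [pow_two] using e
    · rw [show 2 ^ (1 + 1) = 2 * 2 by rfl, pow_mul, pow_two, pow_two, hsq, S.code.ext.zz]
  exact (M.L_local hp hxL hx).2 (hy4 ▸ Subgroup.orderOf_dvd_natCard _ hynz)

end Mdl

end Cfsg.Agent.Invol.Suz.Loc
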