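import Cfsg.Agent.Lib.Invol.Suz.Loc.OrderChecks
import Cfsg.Agent.S3313

/-!
# The order of a group of Suzuki type
-/

set_option autoImplicit false
set_option linter.unusedSectionVars false

namespace Cfsg.Agent.Invol.Suz.Loc

open Cfsg Cfsg.Agent.Classical.BinCoc Cfsg.Agent.Invol.Big Cfsg.Agent.Invol.Big.Code

variable {G : Type*} [Group G] [Finite G] {z : G} {Q : Subgroup G} {cd : G → ℕ}

theorem IsHat.pow {h : Code K6 z Q cd} {c : G} {f : List ℕ} (H : IsHat h c f) : ∀ k, IsHat h (c ^ k) (pwH f k)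
  | 0 => by rw [pow_zero]; exact isHat_one h
  | k + 1 => by rw [pow_succ']; exact H.mul (H.pow k)

namespace Mdl

variable {S : Setting z Q cd} {g : ℕ → G}

theorem half_spec (M : Mdl S g) {u : G} {f : List ℕ} {d : ℕ × ℕ × ℕ × List ℕ × ℕ} (hu : IsHat S.code u f)
    (hd : chkHalf f d = true) : S3313.vinv (u, g 2) = z ↔ d.2.1 = 1 := by
  simp only [chkHalf, Bool.and_eq_true, beq_iff_eq, decide_eq_true_eq, List.all_eq_true, List.mem_range,
    Bool.or_eq_true, Bool.not_eq_true', beq_eq_false_iff_ne] at hd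
  obtain ⟨⟨⟨⟨heven, hpos⟩, hmin⟩, hn⟩, hcert⟩ := hd
  obtain ⟨n, e, c1, c2, c3⟩ := d
  simp only at heven hpos hmin hn hcert ⊢
  set p := u * g 2
  have hp : IsHat S.code p (cmp K6 f fT) := hu.mul (M.hat 2)
  have hsq : p ^ n = z ^ e := by
    rw [← Setting.sq_cert S hcert _ (hp.pow (n / 2)), ← pow_add, show n / 2 + n / 2 = n by omega]
  have he : e ≤ 1 := by
    simp only [chkSq, Bool.and_eq_true, decide_eq_true_eq] at hcert
    exact hcert.2
  have hdvd : n ∣ orderOf p := by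
    have hk : pwH (cmp K6 f fT) (orderOf p % n) = idH K6 := by
      have h1 := hp.pow (orderOf p % n)
      have h2 : p ^ (orderOf p % n) = 1 ∨ p ^ (orderOf p % n) = z := by
        have h3 : p ^ (orderOf p % n) * (z ^ e) ^ (orderOf p / n) = 1 := by
          rw [← hsq, ← pow_mul, ← pow_add, Nat.mod_add_div, pow_orderOf_eq_one]
        have hz2 : (z ^ e) ^ (orderOf p / n) = 1 ∨ (z ^ e) ^ (orderOf p / n) = z := by
          rw [← pow_mul]
          rcases Nat.even_or_odd (e * (orderOf p / n)) with ⟨m, hm⟩ | ⟨m, hm⟩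
          · exact Or.inl (by rw [hm, ← two_mul, pow_mul, pow_two, S.code.ext.zz, one_pow])
          · exact Or.inr (by rw [hm, pow_succ, pow_mul, pow_two, S.code.ext.zz, one_pow, one_mul])
        rcases hz2 with e' | e' <;> rw [e'] at h3
        · exact Or.inl (by simpa using h3)
        · exact Or.inr (by rw [eq_inv_of_mul_eq_one_left h3, S.code.zinv])
      rcases h2 with e' | e' <;> rw [e'] at h1
      · exact h1.ext_eq (isHat_one S.code)
      · exact h1.ext_eq (isHat_z S.code)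
    refine Nat.dvd_of_mod_eq_zero (by_contra fun h0 => ?_)
    exact ((hmin _ (Nat.mod_lt _ hpos)).resolve_left h0) hk
  show p ^ (orderOf p / 2) = z ↔ e = 1
  rcases Nat.le_one_iff_eq_zero_or_eq_one.1 he with rfl | rfl
  · rw [pow_zero] at hsq
    have hn' : orderOf p = n := Nat.dvd_antisymm (orderOf_dvd_of_pow_eq_one hsq) hdvd
    refine iff_of_false (fun ez => ?_) (by norm_num)
    rw [hn'] at ez
    have hh := hp.pow (n / 2)
    rw [ez] at hh
    exact ((hmin _ (by omega)).resolve_left (by omega)) (hh.ext_eq (isHat_z S.code))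
  · rw [pow_one] at hsq
    have h2n : orderOf p ∣ 2 * n := orderOf_dvd_of_pow_eq_one (by rw [mul_comm, pow_mul, hsq, pow_two, S.code.ext.zz])
    obtain ⟨m, hm⟩ := hdvd
    rw [hm, mul_comm 2 n] at h2n
    have hm2 : m ∣ 2 := Nat.dvd_of_mul_dvd_mul_left hpos h2n
    have hm1 : m ≠ 1 := fun e1 => S.code.ne (by
      rw [← hsq, show n = orderOf p by rw [hm, e1, mul_one], pow_orderOf_eq_one])
    have : m = 2 := ((Nat.dvd_prime Nat.prime_two).1 hm2).resolve_left hm1
    refine iff_of_true ?_ rfl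
    rw [hm, this, Nat.mul_div_cancel _ two_pos, hsq]

theorem conj_t' (M : Mdl S g) {x : G} (hx : x * z = z * x) (hx2 : x * x = 1) (hx1 : x ≠ 1) (hn : ¬ IsConj z x) :
    ∃ c, c * z = z * c ∧ c * g 2 * c⁻¹ = x := by
  obtain ⟨c, hc, hct⟩ := Setting.conj_t S hx hx2 hx1 hn
  obtain ⟨c0, hc0, hct0⟩ := M.g2_conj
  refine ⟨c * c0⁻¹, comm_mul hc (comm_inv hc0), ?_⟩
  rw [← hct, ← hct0]; group

theorem two_class' (M : Mdl S g) (x : G) (hx : orderOf x = 2) : IsConj x z ∨ IsConj x (g 2) := by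
  obtain ⟨c0, -, hct0⟩ := M.g2_conj
  exact (Setting.two_class S x hx).imp_right fun e => e.trans (isConj_iff.2 ⟨c0, hct0⟩)

theorem order_t (M : Mdl S g) : orderOf (g 2) = 2 := by
  haveI : Fact (Nat.Prime 2) := ⟨Nat.prime_two⟩
  exact orderOf_eq_prime (by rw [pow_two]; exact M.g2_sq) M.t_ne_one

theorem conj_t_sq (M : Mdl S g) {v : G} (hv : IsConj (g 2) v) : v * v = 1 ∧ v ≠ 1 := by
  obtain ⟨c, rfl⟩ := isConj_iff.1 hv
  exact ⟨invol_conj c M.g2_sq, fun e => M.t_ne_one (conj_eq_one_iff.1 e)⟩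

/-- Two involutions are contained in the centralizer of the involution of their product. -/
theorem vinv_comm {u v w : G} (hu : u * u = 1) (hv : v * v = 1) (hw : w * w = 1) (h : S3313.vinv (u, v) = w) :
    u * w = w * u ∧ v * w = w * v := by
  have hc : u * v * w = w * (u * v) := by
    rw [← h]; exact ((Commute.refl (u * v)).pow_right _).eq
  have hu' : u * w * u⁻¹ = w := by
    rw [← h]
    show u * (u * v) ^ _ * u⁻¹ = (u * v) ^ _
    rw [← conj_pow, S3313.conj_involution_product u v hu hv, inv_pow]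
    exact inv_eq_of_mul_eq_one_right (by
      have : S3313.vinv (u, v) * S3313.vinv (u, v) = 1 := by rw [h, hw]
      exact this)
  have h1 := mul_inv_eq_iff_eq_mul.1 hu'
  refine ⟨h1, mul_left_cancel (a := u) ?_⟩
  calc u * (v * w) = u * v * w := by group
    _ = w * u * v := by rw [hc]; group
    _ = u * (w * v) := by rw [← h1]; group

/-- The conjugates of `t` in the centralizer of `z`. -/
theorem card_B (M : Mdl S g) : Nat.card {v : G // v * z = z * v ∧ IsConj (g 2) v} = 6480 := by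
  have h := card_of_orbit (Subgroup.centralizer ({z} : Set G)) M.sub (g 2)
    (fun v => v * z = z * v ∧ IsConj (g 2) v) (fun x => by
      rw [M.mem_SS, Subgroup.mem_centralizer_singleton_iff, Subgroup.mem_centralizer_singleton_iff])
    (fun v hv => by
      obtain ⟨hv2, hv1⟩ := M.conj_t_sq hv.2
      obtain ⟨c, hc, hct⟩ := M.conj_t' hv.1 hv2 hv1 fun e => M.t_not_conj (e.trans hv.2.symm)
      exact ⟨c, Subgroup.mem_centralizer_singleton_iff.2 hc, hct⟩)
    (fun c hc => ⟨comm_mul (comm_mul (Subgroup.mem_centralizer_singleton_iff.1 hc) (M.hat 2).comm)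
      (comm_inv (Subgroup.mem_centralizer_singleton_iff.1 hc)), isConj_iff.2 ⟨c, rfl⟩⟩)
  rw [Setting.card_C S, M.card_sub] at h
  omega

/-- The element of an index over a line. -/
noncomputable def lineEl (_M : Mdl S g) (p : ℕ × ℕ) : G :=
  dLine S (lines.getD p.1 (0, 0, [])) * el S.code p.2

theorem getD_mem {i : ℕ} (hi : i < lines.length) : lines.getD i (0, 0, []) ∈ lines := by
  rw [List.getD_eq_getElem _ _ hi]; exact List.getElem_mem hi

theorem lineEl_hat (M : Mdl S g) {i y : ℕ} (hi : i < lines.length) (hy : y < 128) :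
    IsHat S.code (M.lineEl (i, y)) (cmp K6 (fLine i) (innH K6 (y / 2))) :=
  (dLine_hat S (getD_mem hi)).1.mul (isHat_el S.code (by rw [K6_n]; omega))

theorem lineEl_sq (M : Mdl S g) {i y : ℕ} (hi : i < lines.length) (hy : y < 128) :
    M.lineEl (i, y) * M.lineEl (i, y) = el S.code (mulP K6 (ap K6 (fLine i) y) y) := by
  obtain ⟨hd, hd2⟩ := dLine_hat S (getD_mem hi)
  rw [← el_mul, ← show dLine S (lines.getD i (0, 0, [])) * el S.code y * (dLine S (lines.getD i (0, 0, [])))⁻¹ =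
    el S.code (ap K6 (fLine i) y) from hd.app y]
  show dLine S _ * el S.code y * (dLine S _ * el S.code y) = _
  rw [show (dLine S (lines.getD i (0, 0, [])))⁻¹ = dLine S (lines.getD i (0, 0, [])) from
    inv_eq_of_mul_eq_one_right hd2]
  group

theorem lineEl_not_mem (M : Mdl S g) {i y : ℕ} (hi : i < lines.length) : M.lineEl (i, y) ∉ Q := by
  intro hm
  have hd : dLine S (lines.getD i (0, 0, [])) ∈ Q := (Q.mul_mem_cancel_right (el_mem S.code y)).1 hm
  have h := lines_inj.2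
  simp only [List.all_eq_true, List.any_eq_true, pts, List.mem_range, bne_iff_ne] at h
  obtain ⟨a, ha, hne⟩ := h _ (getD_mem hi)
  exact hne (by rw [← dLine_acts S (getD_mem hi) ha, (S.code.mem_iff (dLine_hat S (getD_mem hi)).1.comm).1 hd a ha])

theorem lineEl_acts (M : Mdl S g) {i y : ℕ} (hi : i < lines.length) {a : ℕ} (ha : a < 2 ^ K6.n) :
    S.code.act (M.lineEl (i, y)) a = lin (lines.getD i (0, 0, [])).1 (lines.getD i (0, 0, [])).2.1 a := by
  have hyz := S.code.ext.central _ (el_mem S.code y)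
  rw [lineEl, S.code.act_mul (dLine_hat S (getD_mem hi)).1.comm hyz ha,
    (S.code.mem_iff hyz).1 (el_mem S.code y) a ha, dLine_acts S (getD_mem hi) ha]

theorem lineEl_inj (M : Mdl S g) {i y i' y' : ℕ} (hi : i < lines.length) (hi' : i' < lines.length) (hy : y < 128)
    (hy' : y' < 128) (e : M.lineEl (i, y) = M.lineEl (i', y')) : (i, y) = (i', y') := by
  have hii : i = i' := by
    have ht : tab K6 (lin (lines.getD i (0, 0, [])).1 (lines.getD i (0, 0, [])).2.1) =
        tab K6 (lin (lines.getD i' (0, 0, [])).1 (lines.getD i' (0, 0, [])).2.1) :=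
      (tab_eq_iff K6).2 fun a ha => by rw [← M.lineEl_acts hi ha, ← M.lineEl_acts hi' ha, e]
    have hinj := List.nodup_iff_injective_getElem.1 lines_inj.1
    rw [List.getD_eq_getElem _ _ hi, List.getD_eq_getElem _ _ hi'] at ht
    exact congrArg Fin.val (@hinj ⟨i, by simpa using hi⟩ ⟨i', by simpa using hi'⟩ (by simp [ht]))
  subst hii
  rw [lineEl, lineEl] at e
  dsimp only at e
  rw [el_inj S.code (by rw [K6_n]; omega) (by rw [K6_n]; omega) (mul_left_cancel e)]

/-- The conjugates of `z` in the centralizer whose product with `t` covers `z`. -/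
theorem card_uz (M : Mdl S g) :
    Nat.card {u : G // u * z = z * u ∧ IsConj z u ∧ S3313.vinv (u, g 2) = z} = 236 := by
  classical
  have hq : ∀ p ∈ qd, chkHalf (innH K6 p.1) p.2 = true := List.all_eq_true.1 qd_ok
  have hl := ld_ok
  have hqc := qd_complete
  have hlc := ld_complete
  simp only [List.all_eq_true, List.mem_range, Bool.or_eq_true, beq_iff_eq, Bool.not_eq_true',
    beq_eq_false_iff_ne] at hqc hlc
  have hQ : ∀ x < 128, x ≠ 0 → K6.q (x / 2) = false →
      (S3313.vinv (el S.code x, g 2) = z ↔ eQ (x / 2) = 1) := by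
    intro x hx h0 hqx
    obtain ⟨p, hp⟩ := Option.isSome_iff_exists.1 (((hqc x hx).resolve_left (by simp [h0, hqx])))
    have hmem := List.mem_of_find?_eq_some hp
    have hkey : p.1 = x / 2 := by simpa using List.find?_some hp
    rw [M.half_spec ((isHat_el S.code (by rw [K6_n]; omega)).ext_hat (by rw [hkey])) (hq p hmem), eQ, hp]
    rfl
  have hL : ∀ i < lines.length, ∀ y < 128, mulP K6 (ap K6 (fLine i) y) y = 0 →
      (S3313.vinv (M.lineEl (i, y), g 2) = z ↔ eL i (y / 2) = 1) := by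
    intro i hi y hy h0
    obtain ⟨p, hp⟩ := Option.isSome_iff_exists.1 ((hlc i hi y hy).resolve_left (not_not.2 h0))
    have hmem := List.mem_of_find?_eq_some hp
    have hkey : p.1 = i ∧ p.2.1 = y / 2 := by simpa using List.find?_some hp
    rw [M.half_spec ((M.lineEl_hat hi hy).ext_hat (by rw [hkey.1, hkey.2])) (hl p hmem), eL, hp]
    rfl
  set F : Finset G := (idxQ.map (el S.code)).toFinset ∪ (idxL.map M.lineEl).toFinset
  have hnd1 : (idxQ.map (el S.code)).Nodup := by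
    refine (List.nodup_range.filter _).map_on fun x hx y hy e => ?_
    simp only [idxQ, List.mem_filter, List.mem_range] at hx hy
    exact el_inj S.code (by rw [K6_n]; omega) (by rw [K6_n]; omega) e
  have hnd2 : (idxL.map M.lineEl).Nodup := by
    refine List.Nodup.map_on ?_ (by decide +kernel)
    rintro ⟨i, y⟩ hp ⟨i', y'⟩ hp' e
    simp only [idxL, List.mem_flatMap, List.mem_map, List.mem_filter, List.mem_range, Prod.mk.injEq] at hp hp'
    obtain ⟨_, hi, _, ⟨hy, -⟩, rfl, rfl⟩ := hp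
    obtain ⟨_, hi', _, ⟨hy', -⟩, rfl, rfl⟩ := hp'
    exact M.lineEl_inj hi hi' hy hy' e
  have hdisj : Disjoint (idxQ.map (el S.code)).toFinset (idxL.map M.lineEl).toFinset := by
    rw [Finset.disjoint_left]
    intro w hw hw'
    simp only [List.mem_toFinset, List.mem_map, idxL, List.mem_flatMap, List.mem_filter, List.mem_range] at hw hw'
    obtain ⟨x, -, rfl⟩ := hw
    obtain ⟨⟨i, y⟩, ⟨_, hi, _, -, e⟩, e'⟩ := hw'
    simp only [Prod.mk.injEq] at e
    obtain ⟨rfl, rfl⟩ := e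
    exact M.lineEl_not_mem hi (e' ▸ el_mem S.code x)
  have hF : ∀ u, u ∈ F ↔ u * z = z * u ∧ IsConj z u ∧ S3313.vinv (u, g 2) = z := by
    intro u
    simp only [F, Finset.mem_union, List.mem_toFinset, List.mem_map]
    constructor
    · rintro (⟨x, hx, rfl⟩ | ⟨⟨_, _⟩, hp, rfl⟩)
      · simp only [idxQ, List.mem_filter, List.mem_range, Bool.and_eq_true, Bool.not_eq_true', beq_eq_false_iff_ne,
          beq_iff_eq] at hx
        obtain ⟨hx, ⟨h0, hqx⟩, he⟩ := hx
        have hc := cd_el S.code (by rw [K6_n]; omega : x < 2 ^ (K6.n + 1))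
        refine ⟨S.code.ext.central _ (el_mem _ _), ?_, (hQ x hx h0 hqx).2 he⟩
        by_cases h2 : x / 2 = 0
        · rw [show x = 1 by omega, el_one]
        · exact S.code.isConj_z pair_ok S.moves (nonCentral_of S.code (el_mem _ _) (hc ▸ h2) (hc ▸ hqx))
      · simp only [idxL, List.mem_flatMap, List.mem_map, List.mem_filter, List.mem_range, Bool.and_eq_true,
          beq_iff_eq, Prod.mk.injEq] at hp
        obtain ⟨i, hi, y, ⟨hy, h0, he⟩, rfl, rfl⟩ := hp
        have hh := M.lineEl_hat hi hy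
        have h2 : M.lineEl (i, y) * M.lineEl (i, y) = 1 := by rw [M.lineEl_sq hi hy, h0, el_zero]
        refine ⟨hh.comm, (Setting.isA_iff S hh h2 fun e => M.lineEl_not_mem hi (e ▸ one_mem Q)).2 ?_, (hL i hi y hy h0).2 he⟩
        simp only [isAh, Bool.or_eq_true, List.all_eq_true, List.any_eq_true, pts, List.mem_range, beq_iff_eq]
        exact Or.inr ⟨_, getD_mem hi, fun a ha => by rw [← hh.act_eq ha, M.lineEl_acts hi ha]⟩
    · rintro ⟨huz, hA, hv⟩
      obtain ⟨hu2, hu1⟩ := conj_class_sq S hA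
      by_cases huQ : u ∈ Q
      · obtain ⟨x, hx, rfl⟩ := exists_el S.code huQ
        refine Or.inl ⟨x, ?_, rfl⟩
        have h0 : x ≠ 0 := fun e => hu1 (by rw [e, el_zero])
        have hqx : K6.q (x / 2) = false := by
          rw [← cd_el S.code hx]; exact (S.code.sq_iff huQ).1 hu2
        rw [K6_n] at hx
        simp only [idxQ, List.mem_filter, List.mem_range, Bool.and_eq_true, Bool.not_eq_true', beq_eq_false_iff_ne,
          beq_iff_eq]
        exact ⟨hx, ⟨h0, hqx⟩, (hQ x hx h0 hqx).1 hv⟩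
      · obtain ⟨p, hp, y, hy, rfl⟩ := Setting.line_of_conj S huz hu2 huQ hA
        obtain ⟨i, hi, rfl⟩ := List.getElem_of_mem hp
        have he : dLine S lines[i] * el S.code y = M.lineEl (i, y) := by
          rw [lineEl, List.getD_eq_getElem _ _ hi]
        rw [he] at hu2 hv ⊢
        refine Or.inr ⟨(i, y), ?_, rfl⟩
        have h0 : mulP K6 (ap K6 (fLine i) y) y = 0 := by
          rw [M.lineEl_sq hi hy, ← el_zero S.code] at hu2
          exact el_inj S.code (mulP_lt ((dLine_hat S (getD_mem hi)).1.app_lt y) (by rw [K6_n]; omega))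
            (Nat.two_pow_pos _) hu2
        simp only [idxL, List.mem_flatMap, List.mem_map, List.mem_filter, List.mem_range, Bool.and_eq_true,
          beq_iff_eq]
        exact ⟨i, hi, y, ⟨hy, h0, (hL i hi y hy h0).1 hv⟩, rfl⟩
  rw [← Nat.card_congr (Equiv.subtypeEquivRight hF), Nat.card_eq_fintype_card, Fintype.card_coe,
    Finset.card_union_of_disjoint hdisj, List.toFinset_card_of_nodup hnd1, List.toFinset_card_of_nodup hnd2,
    List.length_map, List.length_map, idx_count]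

/-- The first count. -/
theorem aCount_z (M : Mdl S g) : S3313.aCount z (g 2) z = 6480 * 236 := by
  classical
  rw [← M.card_B, ← M.card_uz, ← Nat.card_prod, S3313.aCount]
  have hc : ∀ v : {v : G // v * z = z * v ∧ IsConj (g 2) v}, ∃ c, c * z = z * c ∧ c * g 2 * c⁻¹ = v.1 := fun v => by
    obtain ⟨hv2, hv1⟩ := M.conj_t_sq v.2.2
    exact M.conj_t' v.2.1 hv2 hv1 fun e => M.t_not_conj (e.trans v.2.2.symm)
  choose c hc hct using hc
  have hz2 := S.code.ext.zz
  have hback : ∀ p : G × G, IsConj z p.1 ∧ IsConj (g 2) p.2 ∧ S3313.vinv p = z →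
      p.1 * z = z * p.1 ∧ p.2 * z = z * p.2 := fun p hp =>
    vinv_comm (conj_class_sq S hp.1).1 (M.conj_t_sq hp.2.1).1 hz2 hp.2.2
  have hto : ∀ (p : G × G) (hp : IsConj z p.1 ∧ IsConj (g 2) p.2 ∧ S3313.vinv p = z),
      (c ⟨p.2, (hback p hp).2, hp.2.1⟩)⁻¹ * p.1 * c ⟨p.2, (hback p hp).2, hp.2.1⟩ * z =
        z * ((c ⟨p.2, (hback p hp).2, hp.2.1⟩)⁻¹ * p.1 * c ⟨p.2, (hback p hp).2, hp.2.1⟩) ∧
      IsConj z ((c ⟨p.2, (hback p hp).2, hp.2.1⟩)⁻¹ * p.1 * c ⟨p.2, (hback p hp).2, hp.2.1⟩) ∧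
      S3313.vinv ((c ⟨p.2, (hback p hp).2, hp.2.1⟩)⁻¹ * p.1 * c ⟨p.2, (hback p hp).2, hp.2.1⟩, g 2) = z := by
    intro p hp
    have hw := hct ⟨p.2, (hback p hp).2, hp.2.1⟩
    have hwz := hc ⟨p.2, (hback p hp).2, hp.2.1⟩
    generalize c ⟨p.2, (hback p hp).2, hp.2.1⟩ = w at hw hwz ⊢
    refine ⟨comm_mul (comm_mul (comm_inv hwz) (hback p hp).1) hwz, hp.1.trans (isConj_iff.2 ⟨w⁻¹, by group⟩), ?_⟩
    have e := S3313.vinv_conj w⁻¹ p
    rw [show w⁻¹ * p.2 * w⁻¹⁻¹ = g 2 by rw [← show w * g 2 * w⁻¹ = p.2 from hw]; group, hp.2.2,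
      comm_inv hwz, mul_inv_cancel_right, inv_inv] at e
    exact e
  have hfrom : ∀ (v : {v : G // v * z = z * v ∧ IsConj (g 2) v})
      (u : {u : G // u * z = z * u ∧ IsConj z u ∧ S3313.vinv (u, g 2) = z}),
      IsConj z (c v * u.1 * (c v)⁻¹) ∧ IsConj (g 2) v.1 ∧ S3313.vinv (c v * u.1 * (c v)⁻¹, v.1) = z := by
    intro v u
    refine ⟨u.2.2.1.trans (isConj_iff.2 ⟨c v, rfl⟩), v.2.2, ?_⟩
    have e := S3313.vinv_conj (c v) (u.1, g 2)
    simp only at e
    rw [hct, u.2.2.2, hc, mul_inv_cancel_right] at e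
    exact e
  exact Nat.card_congr
    { toFun := fun p => (⟨p.1.2, (hback _ p.2).2, p.2.2.1⟩, ⟨_, hto p.1 p.2⟩)
      invFun := fun q => ⟨(c q.1 * q.2.1 * (c q.1)⁻¹, q.1.1), hfrom q.1 q.2⟩
      left_inv := fun p => Subtype.ext (Prod.ext (by simp [mul_assoc]) rfl)
      right_inv := fun q => Prod.ext rfl (Subtype.ext (by simp [mul_assoc])) }

theorem t_notMem_L (M : Mdl S g) : g 2 ∉ M.L := fun h => by
  have h4 : g 2 ∈ M.U := M.L_inter ▸ ⟨h, 4, by norm_num, M.t_eq⟩
  rw [← M.t_eq] at h4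
  exact absurd ((M.ev_mem_U (by norm_num)).1 h4) (by norm_num)

theorem L_comm (M : Mdl S g) {x : G} (hx : x ∈ M.L) : Commute x (g 2) :=
  Subgroup.mem_centralizer_singleton_iff.1 (M.L_le hx)

theorem tz_B (M : Mdl S g) {a : G} (ha : a ∈ Dg g) (hA : IsConj z a) : IsConj (g 2) (g 2 * a) := by
  obtain ⟨d, hd, hde⟩ := M.conj_to_z ha hA
  have e : g 2 * a = d⁻¹ * (g 2 * z) * d := by
    have hdt : d * g 2 = g 2 * d := Subgroup.mem_centralizer_singleton_iff.1 hd
    rw [← hde]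
    calc g 2 * a = d⁻¹ * (d * g 2) * a := by group
      _ = d⁻¹ * (g 2 * d) * a := by rw [hdt]
      _ = _ := by group
  have htz : g 2 * z = ev g 260 := by
    rw [← M.t_eq, ← M.z_eq, M.ev_mul 4 (by norm_num), t_counts.2.2.2.2.2.2]
  have ho : (g 2 * z) * (g 2 * z) = 1 := by rw [sq_mul_z S.code (M.hat 2).comm, M.g2_sq]
  have h1 : g 2 * z ≠ 1 := fun e1 => by
    rw [htz, ← ev_zero (g := g)] at e1
    exact absurd (M.ev_inj (by norm_num) (by norm_num) e1) (by norm_num)
  have hB : ¬ IsConj z (g 2 * z) := fun e2 => t_counts.2.2.2.2.2.1 ((M.mem_aList (by norm_num)).2 (htz ▸ e2))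
  obtain ⟨c, -, hc⟩ := M.conj_t' (comm_mul (M.hat 2).comm rfl) ho h1 hB
  exact (isConj_iff.2 ⟨c, hc⟩).trans (isConj_iff.2 ⟨d⁻¹, by rw [e]; group⟩)

/-- The pairs over `z` correspond to the conjugates of `z` with a product of odd order. -/
theorem pairs_t_iff (M : Mdl S g) {v : G} :
    IsConj (g 2) v ∧ S3313.vinv (z, v) = g 2 ↔
      ∃ a, a ∈ Dg g ∧ IsConj z a ∧ Odd (orderOf (z * a)) ∧ g 2 * a = v := by
  have hzL : z ∈ M.L := M.A_mem_L M.z_mem_D (IsConj.refl z)
  have key : ∀ {c : G}, c ∈ M.L → (g 2 * c) ^ (orderOf (g 2 * c) / 2) = g 2 → Odd (orderOf c) := by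
    intro c hc e
    by_contra hev
    obtain ⟨m, hm⟩ := Nat.not_odd_iff_even.1 hev
    have hpos := orderOf_pos c
    have ho : orderOf (g 2 * c) ∣ 2 * m := orderOf_dvd_of_pow_eq_one (by
      rw [((M.L_comm hc).symm).mul_pow, pow_mul, pow_two, M.g2_sq, one_pow, one_mul, two_mul, ← hm, pow_orderOf_eq_one])
    obtain ⟨j, hj⟩ : orderOf c ∣ orderOf (g 2 * c) := by
      refine orderOf_dvd_of_pow_eq_one ?_
      have h1 := pow_orderOf_eq_one (g 2 * c)
      rw [((M.L_comm hc).symm).mul_pow] at h1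
      rcases Nat.even_or_odd (orderOf (g 2 * c)) with ⟨i, hi⟩ | ⟨i, hi⟩
      · rw [hi, ← two_mul, pow_mul (g 2), pow_two, M.g2_sq, one_pow, one_mul, two_mul, ← hi] at h1
        exact h1
      · exfalso
        rw [hi, pow_succ (g 2), pow_mul (g 2), pow_two, M.g2_sq, one_pow, one_mul] at h1
        exact M.t_notMem_L (by rw [eq_inv_of_mul_eq_one_left h1]; exact inv_mem (pow_mem hc _))
    have hne : orderOf (g 2 * c) = 2 * m := Nat.dvd_antisymm ho (by rw [hj, hm, two_mul]; exact dvd_mul_right _ _)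
    rw [hne, Nat.mul_div_cancel_left _ two_pos, ((M.L_comm hc).symm).mul_pow] at e
    rcases Nat.even_or_odd m with ⟨i, hi⟩ | ⟨i, hi⟩
    · rw [hi, ← two_mul, pow_mul (g 2), pow_two, M.g2_sq, one_pow, one_mul] at e
      exact M.t_notMem_L (e ▸ pow_mem hc _)
    · rw [hi, pow_succ (g 2), pow_mul (g 2), pow_two, M.g2_sq, one_pow, one_mul, mul_eq_left, ← hi] at e
      have := Nat.le_of_dvd (by omega) (orderOf_dvd_of_pow_eq_one e)
      omega
  constructor
  · rintro ⟨hB, hv⟩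
    obtain ⟨hv2, hv1⟩ := M.conj_t_sq hB
    obtain ⟨-, hvt⟩ := vinv_comm S.code.ext.zz hv2 M.g2_sq hv
    have hvD : v ∈ Dg g := Subgroup.mem_centralizer_singleton_iff.2 hvt
    have hbb : z * v * (z * v) ∈ M.L := by
      rw [show z * v * (z * v) = z * (v * z * v⁻¹) * (v * v) by group, hv2, mul_one]
      exact mul_mem hzL (M.conj_mem_L hvD hzL)
    have hvv : (z * v) ^ (orderOf (z * v) / 2) = g 2 := hv
    set a := g 2 * v with ha
    have hav : g 2 * a = v := by rw [ha, ← mul_assoc, M.g2_sq, one_mul]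
    have hat : a ∈ M.L := by
      rcases Nat.even_or_odd (orderOf (z * v) / 2) with ⟨i, hi⟩ | ⟨i, hi⟩
      · exfalso
        rw [hi, ← two_mul, pow_mul, pow_two] at hvv
        exact M.t_notMem_L (hvv ▸ pow_mem hbb i)
      · rw [hi, pow_succ, pow_mul, pow_two] at hvv
        set w := (z * v * (z * v)) ^ i with hwdef
        have hw : w ∈ M.L := pow_mem hbb i
        have e : a = w * z := by
          have : z * v = w⁻¹ * g 2 := by rw [← hvv]; group
          calc a = g 2 * (z * z) * v := by rw [S.code.ext.zz, mul_one]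
            _ = g 2 * z * (z * v) := by group
            _ = g 2 * z * (w⁻¹ * g 2) := by rw [this]
            _ = g 2 * (z * w⁻¹) * g 2 := by group
            _ = z * w⁻¹ * (g 2 * g 2) := by rw [← (M.L_comm (mul_mem hzL (inv_mem hw))).eq]; group
            _ = z * w⁻¹ := by rw [M.g2_sq, mul_one]
            _ = w * z := by
              have h1 : z * (z * v * (z * v)) * z⁻¹ = (z * v * (z * v))⁻¹ := by
                have := S3313.conj_involution_product z v S.code.ext.zz hv2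
                rw [← conj_mul, this]; group
              have h2 : z * w⁻¹ * z⁻¹ = w := by
                show z * ((z * v * (z * v)) ^ i)⁻¹ * z⁻¹ = (z * v * (z * v)) ^ i
                rw [← inv_pow, ← conj_pow]
                congr 1
                calc z * (z * v * (z * v))⁻¹ * z⁻¹ = (z * (z * v * (z * v)) * z⁻¹)⁻¹ := by group
                  _ = z * v * (z * v) := by rw [h1, inv_inv]
              exact mul_inv_eq_iff_eq_mul.1 h2
        rw [e]; exact mul_mem hw hzL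
    have ha2 : a * a = 1 := by
      calc a * a = g 2 * (v * g 2) * v := by rw [ha]; group
        _ = g 2 * (g 2 * v) * v := by rw [hvt]
        _ = (g 2 * g 2) * (v * v) := by group
        _ = 1 := by rw [M.g2_sq, hv2, one_mul]
    have hcz : z * v = g 2 * (z * a) := by
      rw [← hav]
      calc z * (g 2 * a) = z * g 2 * a := by group
        _ = _ := by rw [(M.L_comm hzL).eq]; group
    have ha1 : a ≠ 1 := fun e => by
      have h1 := key (mul_mem hzL hat) (hcz ▸ hvv)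
      rw [e, mul_one, S.code.ord] at h1
      exact absurd h1 (by decide)
    exact ⟨a, M.L_le hat, M.L_invol hat ha2 ha1, key (mul_mem hzL hat) (hcz ▸ hvv), hav⟩
  · rintro ⟨a, ha, hA, hodd, rfl⟩
    refine ⟨M.tz_B ha hA, ?_⟩
    have hc := M.L_comm (mul_mem hzL (M.A_mem_L ha hA))
    show (z * (g 2 * a)) ^ (orderOf (z * (g 2 * a)) / 2) = g 2
    rw [← mul_assoc, (M.L_comm hzL).eq, mul_assoc,
      hc.symm.orderOf_mul_eq_mul_orderOf_of_coprime (by rw [M.order_t]; exact Nat.coprime_two_left.2 hodd),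
      M.order_t, Nat.mul_div_cancel_left _ two_pos, hc.symm.mul_pow, pow_orderOf_eq_one, mul_one]
    obtain ⟨i, hi⟩ := hodd
    rw [hi, pow_succ, pow_mul, pow_two, M.g2_sq, one_pow, one_mul]

theorem four_pow (M : Mdl S g) {x : G} (hx : x ∈ M.U) : x * x * (x * x) = 1 := by
  obtain ⟨a, ha, ha8, rfl⟩ := hx
  have h := t_counts.2.2.2.2.1
  simp only [List.all_eq_true, List.mem_range, beq_iff_eq] at h
  have := h (a / 8) (by omega)
  rw [show 8 * (a / 8) = a by omega] at this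
  rw [M.ev_sq ha, M.ev_sq (show sqM a < 512 from (M.mulM_spec a ha).1), show sqM (sqM a) = 0 from this, ev_zero]

/-- The codes of a pair of conjugates of `z` in the group of codes. -/
theorem exists_idx (M : Mdl S g) {x : G} (hx : x ∈ M.sub) (hA : IsConj z x) :
    ∃ i < 27, ev g (aList.getD i 0) = x := by
  obtain ⟨a, ha, rfl⟩ := hx
  obtain ⟨i, hi, e⟩ := List.getElem_of_mem ((M.mem_aList ha).2 hA)
  exact ⟨i, t_counts.2.2.2.1 ▸ hi, by rw [List.getD_eq_getElem _ _ hi, e]⟩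

theorem idx_spec (M : Mdl S g) {i : ℕ} (hi : i < 27) :
    aList.getD i 0 < 512 ∧ IsConj z (ev g (aList.getD i 0)) ∧ ev g (aList.getD i 0) ∈ M.sub := by
  have hi' : i < aList.length := t_counts.2.2.2.1.symm ▸ hi
  have h := aList_U
  simp only [List.all_eq_true, Bool.and_eq_true, decide_eq_true_eq, beq_iff_eq] at h
  rw [List.getD_eq_getElem _ _ hi']
  have h2 := (h _ (List.getElem_mem hi')).1
  exact ⟨h2, (M.mem_aList h2).1 (List.getElem_mem hi'), M.ev_SS h2⟩

theorem idx_inj (M : Mdl S g) {i j : ℕ} (hi : i < 27) (hj : j < 27)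
    (e : ev g (aList.getD i 0) = ev g (aList.getD j 0)) : i = j := by
  have e' := M.ev_inj (M.idx_spec hi).1 (M.idx_spec hj).1 e
  have hi' : i < aList.length := t_counts.2.2.2.1.symm ▸ hi
  have hj' : j < aList.length := t_counts.2.2.2.1.symm ▸ hj
  rw [List.getD_eq_getElem _ _ hi', List.getD_eq_getElem _ _ hj'] at e'
  exact congrArg Fin.val (@List.nodup_iff_injective_getElem.1 t_counts.2.2.1 ⟨i, hi'⟩ ⟨j, hj'⟩ e')

/-- Conjugates of `z` whose product with `z` has even order. -/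
theorem card_even (M : Mdl S g) :
    Nat.card {a : G // (a ∈ Dg g ∧ IsConj z a) ∧ ¬ Odd (orderOf (z * a))} = 26 + 96 := by
  classical
  haveI := Fintype.ofFinite G
  have hord : ∀ a, a ∈ Dg g → IsConj z a → ¬ Odd (orderOf (z * a)) →
      (a * z = z * a ∧ a ≠ z) ∨ (a * z ≠ z * a ∧ orderOf (z * a) = 4) := by
    intro a ha hA hev
    obtain ⟨ha2, -⟩ := conj_class_sq S hA
    by_cases hc : a * z = z * a
    · exact Or.inl ⟨hc, fun e => hev (by rw [e, S.code.ext.zz, orderOf_one]; exact odd_one)⟩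
    refine Or.inr ⟨hc, ?_⟩
    obtain ⟨m, hm⟩ := Nat.not_odd_iff_even.1 hev
    have hpos := orderOf_pos (z * a)
    set w := (z * a) ^ m
    have hw2 : w * w = 1 := by rw [← pow_add, ← hm, pow_orderOf_eq_one]
    have hw1 : w ≠ 1 := fun e => by
      have := Nat.le_of_dvd (by omega) (orderOf_dvd_of_pow_eq_one e); omega
    have hzaL : z * a ∈ M.L := mul_mem (M.A_mem_L M.z_mem_D (IsConj.refl z)) (M.A_mem_L ha hA)
    have hwL : w ∈ M.L := pow_mem hzaL _
    obtain ⟨d, hd, hde⟩ := M.conj_to_z (M.L_le hwL) (M.L_invol hwL hw2 hw1)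
    have hxU : d * (z * a) * d⁻¹ ∈ M.U := by
      rw [← M.L_inter]
      refine ⟨M.conj_mem_L hd hzaL, M.mem_SS.2 ⟨?_, (Dg g).mul_mem ((Dg g).mul_mem hd (M.L_le hzaL)) ((Dg g).inv_mem hd)⟩⟩
      have hcw : z * a * w = w * (z * a) := ((Commute.refl (z * a)).pow_right m).eq
      calc d * (z * a) * d⁻¹ * z = d * (z * a * w) * d⁻¹ := by rw [← hde]; group
        _ = d * (w * (z * a)) * d⁻¹ := by rw [hcw]
        _ = _ := by rw [← hde]; group
    have h4 : (z * a) ^ 4 = 1 := by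
      have := M.four_pow hxU
      rw [conj_mul, conj_mul, conj_eq_one_iff] at this
      rw [show (z * a) ^ 4 = z * a * (z * a) * (z * a * (z * a)) by simp [pow_succ, mul_assoc], this]
    haveI : Fact (Nat.Prime 2) := ⟨Nat.prime_two⟩
    refine orderOf_eq_prime_pow (p := 2) (n := 1) (fun e => hc ?_) h4
    have e' : z * a * (z * a) = 1 := by simpa [pow_two] using e
    have h1 := eq_inv_of_mul_eq_one_left e'
    rw [mul_inv_rev, inv_eq_of_mul_eq_one_right ha2, S.code.zinv] at h1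
    exact h1.symm
  have hsplit : Nat.card {a : G // (a ∈ Dg g ∧ IsConj z a) ∧ ¬ Odd (orderOf (z * a))} =
      Nat.card {a : G // (a ∈ Dg g ∧ IsConj z a) ∧ a * z = z * a ∧ a ≠ z} +
      Nat.card {a : G // (a ∈ Dg g ∧ IsConj z a) ∧ orderOf (z * a) = 4} := by
    have hnot2 : ∀ a : G, IsConj z a → a * z = z * a → orderOf (z * a) ∣ 2 := fun a hA hc => by
      refine orderOf_dvd_of_pow_eq_one ?_
      calc (z * a) ^ 2 = z * (a * z) * a := by rw [pow_two]; group
        _ = z * (z * a) * a := by rw [hc]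
        _ = (z * z) * (a * a) := by group
        _ = 1 := by rw [S.code.ext.zz, (conj_class_sq S hA).1, one_mul]
    simp only [Nat.card_eq_fintype_card, Fintype.card_subtype]
    rw [← Finset.card_union_of_disjoint]
    · congr 1
      ext a
      simp only [Finset.mem_filter, Finset.mem_univ, true_and, Finset.mem_union]
      constructor
      · rintro ⟨⟨ha, hA⟩, hev⟩
        exact (hord a ha hA hev).imp (fun h => ⟨⟨ha, hA⟩, h⟩) fun h => ⟨⟨ha, hA⟩, h.2⟩
      · rintro (⟨h1, hc, hne⟩ | ⟨h1, h4⟩)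
        · refine ⟨h1, fun hodd => hne ?_⟩
          rcases (Nat.dvd_prime Nat.prime_two).1 (hnot2 a h1.2 hc) with e | e
          · rw [orderOf_eq_one_iff] at e
            rw [eq_inv_of_mul_eq_one_right e, S.code.zinv]
          · rw [e] at hodd; exact absurd hodd (by decide)
        · exact ⟨h1, by rw [h4]; decide⟩
    · rw [Finset.disjoint_filter]
      rintro a - ⟨⟨-, hA⟩, hc, -⟩ ⟨-, h4⟩
      have := hnot2 a hA hc
      rw [h4] at this
      norm_num at this
  rw [hsplit]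
  congr 1
  · -- the conjugates of `z` commuting with `z`
    have : Nat.card {a : G // (a ∈ Dg g ∧ IsConj z a) ∧ a * z = z * a ∧ a ≠ z} =
        (((Finset.range 27).image fun i => ev g (aList.getD i 0)).erase z).card := by
      rw [Nat.card_eq_fintype_card, Fintype.card_subtype]
      congr 1
      ext a
      simp only [Finset.mem_filter, Finset.mem_univ, true_and, Finset.mem_erase, Finset.mem_image, Finset.mem_range]
      constructor
      · rintro ⟨⟨ha, hA⟩, hc, hne⟩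
        exact ⟨hne, M.exists_idx (M.mem_SS.2 ⟨hc, ha⟩) hA⟩
      · rintro ⟨hne, i, hi, rfl⟩
        obtain ⟨-, hA, hS⟩ := M.idx_spec hi
        exact ⟨⟨M.SS_le hS, hA⟩, (M.mem_SS.1 hS).1, hne⟩
    rw [this, Finset.card_erase_of_mem, Finset.card_image_of_injOn, Finset.card_range]
    · intro i hi j hj e
      exact M.idx_inj (by simpa using hi) (by simpa using hj) e
    · obtain ⟨i, hi, e⟩ := M.exists_idx M.z_mem_sub (IsConj.refl z)
      exact Finset.mem_image.2 ⟨i, Finset.mem_range.2 hi, e⟩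
  · -- a double count of the pairs with a product of order four
    let X := {p : G × G // (p.1 ∈ Dg g ∧ IsConj z p.1) ∧ (p.2 ∈ Dg g ∧ IsConj z p.2) ∧ orderOf (p.1 * p.2) = 4}
    let W := {w : G // w ∈ Dg g ∧ IsConj z w}
    have hsq : ∀ p : X, p.1.1 * p.1.2 * (p.1.1 * p.1.2) ∈ Dg g ∧ IsConj z (p.1.1 * p.1.2 * (p.1.1 * p.1.2)) := fun p => by
      have hL : p.1.1 * p.1.2 ∈ M.L := mul_mem (M.A_mem_L p.2.1.1 p.2.1.2) (M.A_mem_L p.2.2.1.1 p.2.2.1.2)
      refine ⟨M.L_le (mul_mem hL hL), M.L_invol (mul_mem hL hL) ?_ fun e => ?_⟩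
      · have := pow_orderOf_eq_one (p.1.1 * p.1.2)
        rw [p.2.2.2] at this
        simpa [pow_succ, mul_assoc] using this
      · have := orderOf_dvd_of_pow_eq_one (show (p.1.1 * p.1.2) ^ 2 = 1 by rw [pow_two]; exact e)
        rw [p.2.2.2] at this
        norm_num at this
    let π : X → W := fun p => ⟨_, hsq p⟩
    let σ : X → W := fun p => ⟨p.1.1, p.2.1⟩
    have hconj : ∀ (w : W), ∃ d ∈ Dg g, d * w.1 * d⁻¹ = z := fun w => M.conj_to_z w.2.1 w.2.2
    choose d hd hde using hconj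
    have mapX : ∀ (w : W) (p : X), (d w * p.1.1 * (d w)⁻¹ ∈ Dg g ∧ IsConj z (d w * p.1.1 * (d w)⁻¹)) ∧
        (d w * p.1.2 * (d w)⁻¹ ∈ Dg g ∧ IsConj z (d w * p.1.2 * (d w)⁻¹)) ∧
        orderOf (d w * p.1.1 * (d w)⁻¹ * (d w * p.1.2 * (d w)⁻¹)) = 4 := fun w p =>
      ⟨⟨(Dg g).mul_mem ((Dg g).mul_mem (hd w) p.2.1.1) ((Dg g).inv_mem (hd w)), p.2.1.2.trans (isConj_iff.2 ⟨_, rfl⟩)⟩,
        ⟨(Dg g).mul_mem ((Dg g).mul_mem (hd w) p.2.2.1.1) ((Dg g).inv_mem (hd w)), p.2.2.1.2.trans (isConj_iff.2 ⟨_, rfl⟩)⟩,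
        by rw [conj_mul, ← MulAut.conj_apply, MulEquiv.orderOf_eq, p.2.2.2]⟩
    have mapX' : ∀ (w : W) (p : X), ((d w)⁻¹ * p.1.1 * d w ∈ Dg g ∧ IsConj z ((d w)⁻¹ * p.1.1 * d w)) ∧
        ((d w)⁻¹ * p.1.2 * d w ∈ Dg g ∧ IsConj z ((d w)⁻¹ * p.1.2 * d w)) ∧
        orderOf ((d w)⁻¹ * p.1.1 * d w * ((d w)⁻¹ * p.1.2 * d w)) = 4 := fun w p =>
      ⟨⟨(Dg g).mul_mem ((Dg g).mul_mem ((Dg g).inv_mem (hd w)) p.2.1.1) (hd w),
          p.2.1.2.trans (isConj_iff.2 ⟨(d w)⁻¹, by group⟩)⟩,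
        ⟨(Dg g).mul_mem ((Dg g).mul_mem ((Dg g).inv_mem (hd w)) p.2.2.1.1) (hd w),
          p.2.2.1.2.trans (isConj_iff.2 ⟨(d w)⁻¹, by group⟩)⟩,
        by
          rw [show (d w)⁻¹ * p.1.1 * d w * ((d w)⁻¹ * p.1.2 * d w) = MulAut.conj (d w)⁻¹ (p.1.1 * p.1.2) by
            simp [mul_assoc], MulEquiv.orderOf_eq, p.2.2.2]⟩
    let zW : W := ⟨z, M.z_mem_D, IsConj.refl z⟩
    have hde' : ∀ w : W, (d w)⁻¹ * z * d w = w.1 := fun w => by
      calc (d w)⁻¹ * z * d w = (d w)⁻¹ * (d w * w.1 * (d w)⁻¹) * d w := by rw [hde w]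
        _ = w.1 := by group
    -- all fibres of `σ` and of `π` look like those over `z`
    have eσ : ∀ w, Nonempty ({p : X // σ p = w} ≃ {p : X // σ p = zW}) := fun w => ⟨
      { toFun := fun p => ⟨⟨(d w * p.1.1.1 * (d w)⁻¹, d w * p.1.1.2 * (d w)⁻¹), mapX w p.1⟩, Subtype.ext (by
          show d w * p.1.1.1 * (d w)⁻¹ = z
          rw [show p.1.1.1 = w.1 from congrArg Subtype.val p.2, hde])⟩
        invFun := fun p => ⟨⟨((d w)⁻¹ * p.1.1.1 * d w, (d w)⁻¹ * p.1.1.2 * d w), mapX' w p.1⟩, Subtype.ext (by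
          show (d w)⁻¹ * p.1.1.1 * d w = w.1
          rw [show p.1.1.1 = z from congrArg Subtype.val p.2, hde' w])⟩
        left_inv := fun p => Subtype.ext (Subtype.ext (Prod.ext (by simp [mul_assoc]) (by simp [mul_assoc])))
        right_inv := fun p => Subtype.ext (Subtype.ext (Prod.ext (by simp [mul_assoc]) (by simp [mul_assoc]))) }⟩
    have eπ : ∀ w, Nonempty ({p : X // π p = w} ≃ {p : X // π p = zW}) := fun w => ⟨
      { toFun := fun p => ⟨⟨(d w * p.1.1.1 * (d w)⁻¹, d w * p.1.1.2 * (d w)⁻¹), mapX w p.1⟩, Subtype.ext (by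
          show d w * p.1.1.1 * (d w)⁻¹ * (d w * p.1.1.2 * (d w)⁻¹) * (d w * p.1.1.1 * (d w)⁻¹ * (d w * p.1.1.2 * (d w)⁻¹)) = z
          rw [conj_mul, conj_mul, show p.1.1.1 * p.1.1.2 * (p.1.1.1 * p.1.1.2) = w.1 from congrArg Subtype.val p.2, hde])⟩
        invFun := fun p => ⟨⟨((d w)⁻¹ * p.1.1.1 * d w, (d w)⁻¹ * p.1.1.2 * d w), mapX' w p.1⟩, Subtype.ext (by
          show (d w)⁻¹ * p.1.1.1 * d w * ((d w)⁻¹ * p.1.1.2 * d w) * ((d w)⁻¹ * p.1.1.1 * d w * ((d w)⁻¹ * p.1.1.2 * d w)) = w.1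
          calc _ = (d w)⁻¹ * (p.1.1.1 * p.1.1.2 * (p.1.1.1 * p.1.1.2)) * d w := by group
            _ = w.1 := by
              rw [show p.1.1.1 * p.1.1.2 * (p.1.1.1 * p.1.1.2) = z from congrArg Subtype.val p.2, hde' w])⟩
        left_inv := fun p => Subtype.ext (Subtype.ext (Prod.ext (by simp [mul_assoc]) (by simp [mul_assoc])))
        right_inv := fun p => Subtype.ext (Subtype.ext (Prod.ext (by simp [mul_assoc]) (by simp [mul_assoc]))) }⟩
    have count : ∀ f : X → W, (∀ w, Nonempty ({p : X // f p = w} ≃ {p : X // f p = zW})) →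
        Nat.card X = 315 * Nat.card {p : X // f p = zW} := fun f e => by
      rw [← Nat.card_congr (Equiv.sigmaFiberEquiv f), ← M.card_A, ← Nat.card_prod]
      exact Nat.card_congr ((Equiv.sigmaCongrRight fun w => (e w).some).trans (Equiv.sigmaEquivProd _ _))
    have hfσ : Nat.card {p : X // σ p = zW} = Nat.card {a : G // (a ∈ Dg g ∧ IsConj z a) ∧ orderOf (z * a) = 4} :=
      Nat.card_congr
        { toFun := fun p => ⟨p.1.1.2, p.1.2.2.1, by
            have e := p.1.2.2.2; rwa [show p.1.1.1 = z from congrArg Subtype.val p.2] at e⟩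
          invFun := fun a => ⟨⟨(z, a.1), ⟨M.z_mem_D, IsConj.refl z⟩, a.2.1, a.2.2⟩, rfl⟩
          left_inv := fun p => Subtype.ext (Subtype.ext (Prod.ext (congrArg Subtype.val p.2).symm rfl))
          right_inv := fun _ => rfl }
    set L2 := (List.range 27).flatMap fun i => ((List.range 27).filter fun j =>
      sqM (mulM (aList.getD i 0) (aList.getD j 0)) == 256).map fun j => (i, j) with hL2
    have hL2mem : ∀ p : ℕ × ℕ, p ∈ L2 ↔
        p.1 < 27 ∧ p.2 < 27 ∧ sqM (mulM (aList.getD p.1 0) (aList.getD p.2 0)) = 256 := by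
      rintro ⟨i, j⟩
      simp only [hL2, List.mem_flatMap, List.mem_map, List.mem_filter, List.mem_range, beq_iff_eq, Prod.mk.injEq]
      exact ⟨fun ⟨_, h1, _, ⟨h2, h3⟩, e1, e2⟩ => by subst e1; subst e2; exact ⟨h1, h2, h3⟩,
        fun ⟨h1, h2, h3⟩ => ⟨i, h1, j, ⟨h2, h3⟩, rfl, rfl⟩⟩
    have hfπ : Nat.card {p : X // π p = zW} = 96 := by
      have h96 : L2.toFinset.card = 96 := by
        rw [List.toFinset_card_of_nodup (by decide +kernel)]; exact t_counts.2.1
      have hpair : ∀ p : L2.toFinset, p.1.1 < 27 ∧ p.1.2 < 27 ∧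
          sqM (mulM (aList.getD p.1.1 0) (aList.getD p.1.2 0)) = 256 := fun p =>
        (hL2mem _).1 (List.mem_toFinset.1 p.2)
      have hz' : ∀ p : L2.toFinset, ev g (aList.getD p.1.1 0) * ev g (aList.getD p.1.2 0) *
          (ev g (aList.getD p.1.1 0) * ev g (aList.getD p.1.2 0)) = z := fun p => by
        obtain ⟨h1, h2, h3⟩ := hpair p
        rw [M.ev_mul _ (M.idx_spec h2).1, M.ev_sq (M.mulM_spec _ (M.idx_spec h2).1).1, h3, M.z_eq]
      have h4' : ∀ x : G, x * x = z → orderOf x = 4 := fun x hx => by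
        haveI : Fact (Nat.Prime 2) := ⟨Nat.prime_two⟩
        refine orderOf_eq_prime_pow (p := 2) (n := 1) (fun e => S.code.ne ?_) ?_
        · rw [← hx]; simpa [pow_two] using e
        · rw [show 2 ^ (1 + 1) = 2 * 2 by rfl, pow_mul, pow_two, pow_two, hx, S.code.ext.zz]
      rw [← h96, ← Fintype.card_coe, ← Nat.card_eq_fintype_card]
      refine (Nat.card_congr (Equiv.ofBijective (fun p : L2.toFinset => (⟨⟨(ev g (aList.getD p.1.1 0), ev g (aList.getD p.1.2 0)),
        ⟨M.SS_le (M.idx_spec (hpair p).1).2.2, (M.idx_spec (hpair p).1).2.1⟩,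
        ⟨M.SS_le (M.idx_spec (hpair p).2.1).2.2, (M.idx_spec (hpair p).2.1).2.1⟩, h4' _ (hz' p)⟩,
        Subtype.ext (hz' p)⟩ : {p : X // π p = zW})) ⟨?_, ?_⟩)).symm
      · intro p q e
        have e1 : ev g (aList.getD p.1.1 0) = ev g (aList.getD q.1.1 0) := congrArg (fun x => x.1.1.1) e
        have e2 : ev g (aList.getD p.1.2 0) = ev g (aList.getD q.1.2 0) := congrArg (fun x => x.1.1.2) e
        exact Subtype.ext (Prod.ext (M.idx_inj (hpair p).1 (hpair q).1 e1) (M.idx_inj (hpair p).2.1 (hpair q).2.1 e2))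
      · rintro ⟨⟨⟨a, b⟩, ⟨haD, haA⟩, ⟨hbD, hbA⟩, hab⟩, hπ⟩
        have hzz : a * b * (a * b) = z := congrArg Subtype.val hπ
        have hcomm : a * b * z = z * (a * b) := by rw [← hzz]; group
        have haz : a * z = z * a := by
          have h1 : a * (a * b * (a * b)) * a⁻¹ = (a * b * (a * b))⁻¹ := by
            rw [← conj_mul, S3313.conj_involution_product a b (conj_class_sq S haA).1 (conj_class_sq S hbA).1]; group
          rw [hzz, S.code.zinv] at h1
          exact mul_inv_eq_iff_eq_mul.1 h1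
        have hbz : b * z = z * b := by
          calc b * z = a⁻¹ * (a * b * z) := by group
            _ = a⁻¹ * (z * a) * b := by rw [hcomm]; group
            _ = z * b := by rw [← haz]; group
        obtain ⟨i, hi, rfl⟩ := M.exists_idx (M.mem_SS.2 ⟨haz, haD⟩) haA
        obtain ⟨j, hj, rfl⟩ := M.exists_idx (M.mem_SS.2 ⟨hbz, hbD⟩) hbA
        have h256 : sqM (mulM (aList.getD i 0) (aList.getD j 0)) = 256 := by
          have hlt := (M.mulM_spec (aList.getD i 0) (M.idx_spec hj).1).1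
          refine M.ev_inj (M.mulM_spec _ hlt).1 (by norm_num) ?_
          rw [← M.ev_sq hlt, ← M.ev_mul _ (M.idx_spec hj).1, hzz, M.z_eq]
        exact ⟨⟨(i, j), List.mem_toFinset.2 ((hL2mem _).2 ⟨hi, hj, h256⟩)⟩, rfl⟩
    have k1 := count σ eσ
    have k2 := count π eπ
    rw [hfσ] at k1
    rw [hfπ] at k2
    omega

/-- The conjugates of `z` with a product of odd order. -/
theorem card_odd (M : Mdl S g) :
    Nat.card {a : G // (a ∈ Dg g ∧ IsConj z a) ∧ Odd (orderOf (z * a))} = 193 := by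
  classical
  haveI := Fintype.ofFinite G
  have h1 := M.card_even
  have h2 := M.card_A
  simp only [Nat.card_eq_fintype_card, Fintype.card_subtype] at h1 h2 ⊢
  rw [← Finset.card_filter_add_card_filter_not (fun a => Odd (orderOf (z * a))), Finset.filter_filter,
    Finset.filter_filter] at h2
  omega

/-- The second count. -/
theorem aCount_t (M : Mdl S g) : S3313.aCount z (g 2) (g 2) = 315 * 193 := by
  classical
  rw [← M.card_A, ← M.card_odd, ← Nat.card_prod, S3313.aCount]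
  have hu : ∀ p : G × G, IsConj z p.1 ∧ IsConj (g 2) p.2 ∧ S3313.vinv p = g 2 → p.1 ∈ Dg g ∧ IsConj z p.1 :=
    fun p hp => ⟨Subgroup.mem_centralizer_singleton_iff.2
      (vinv_comm (conj_class_sq S hp.1).1 (M.conj_t_sq hp.2.1).1 M.g2_sq hp.2.2).1, hp.1⟩
  choose d hd hde using fun u : {w : G // w ∈ Dg g ∧ IsConj z w} => M.conj_to_z u.2.1 u.2.2
  have hdt : ∀ u, d u * g 2 * (d u)⁻¹ = g 2 := fun u =>
    mul_inv_eq_iff_eq_mul.2 (Subgroup.mem_centralizer_singleton_iff.1 (hd u))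
  have hto : ∀ p : G × G, (hp : IsConj z p.1 ∧ IsConj (g 2) p.2 ∧ S3313.vinv p = g 2) →
      ∃ a, a ∈ Dg g ∧ IsConj z a ∧ Odd (orderOf (z * a)) ∧
        g 2 * a = d ⟨_, hu p hp⟩ * p.2 * (d ⟨_, hu p hp⟩)⁻¹ := fun p hp =>
    M.pairs_t_iff.1 ⟨hp.2.1.trans (isConj_iff.2 ⟨_, rfl⟩), by
      have e := S3313.vinv_conj (d ⟨_, hu p hp⟩) p
      rw [hp.2.2, hdt, hde ⟨_, hu p hp⟩] at e
      exact e⟩
  choose A hA1 hA2 hA3 hA4 using hto
  have hfrom : ∀ (u : {w : G // w ∈ Dg g ∧ IsConj z w}) (a : {a : G // (a ∈ Dg g ∧ IsConj z a) ∧ Odd (orderOf (z * a))}),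
      IsConj z u.1 ∧ IsConj (g 2) ((d u)⁻¹ * (g 2 * a.1) * d u) ∧
        S3313.vinv (u.1, (d u)⁻¹ * (g 2 * a.1) * d u) = g 2 := fun u a => by
    obtain ⟨h1, h2⟩ := M.pairs_t_iff.2 ⟨a.1, a.2.1.1, a.2.1.2, a.2.2, rfl⟩
    refine ⟨u.2.2, h1.trans (isConj_iff.2 ⟨(d u)⁻¹, by group⟩), ?_⟩
    have e := S3313.vinv_conj (d u)⁻¹ (z, g 2 * a.1)
    simp only [inv_inv] at e
    have hu' : (d u)⁻¹ * z * d u = u.1 := by
      calc (d u)⁻¹ * z * d u = (d u)⁻¹ * (d u * u.1 * (d u)⁻¹) * d u := by rw [hde u]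
        _ = u.1 := by group
    rw [h2, hu'] at e
    rw [e]
    calc (d u)⁻¹ * g 2 * d u = (d u)⁻¹ * (d u * g 2 * (d u)⁻¹) * d u := by rw [hdt]
      _ = g 2 := by group
  refine Nat.card_congr
    { toFun := fun p => (⟨p.1.1, hu p.1 p.2⟩, ⟨A p.1 p.2, ⟨hA1 _ _, hA2 _ _⟩, hA3 _ _⟩)
      invFun := fun q => ⟨(q.1.1, (d q.1)⁻¹ * (g 2 * q.2.1) * d q.1), hfrom q.1 q.2⟩
      left_inv := fun p => Subtype.ext (Prod.ext rfl (by
        show (d ⟨p.1.1, hu p.1 p.2⟩)⁻¹ * (g 2 * A p.1 p.2) * d ⟨p.1.1, hu p.1 p.2⟩ = p.1.2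
        rw [hA4 p.1 p.2]; group))
      right_inv := fun q => Prod.ext rfl (Subtype.ext ?_) }
  have e := hA4 (q.1.1, (d q.1)⁻¹ * (g 2 * q.2.1) * d q.1) (hfrom q.1 q.2)
  refine mul_left_cancel (a := g 2) ?_
  show g 2 * A (q.1.1, (d q.1)⁻¹ * (g 2 * q.2.1) * d q.1) (hfrom q.1 q.2) = g 2 * q.2.1
  rw [e]
  show d q.1 * ((d q.1)⁻¹ * (g 2 * q.2.1) * d q.1) * (d q.1)⁻¹ = g 2 * q.2.1
  group

/-- The order of the group. -/
theorem card_G (M : Mdl S g) : Nat.card G = 448345497600 := by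
  rw [S3313.order_formula z (g 2) S.code.ord M.order_t M.t_not_conj M.two_class', M.card_D, Setting.card_C S,
    M.aCount_z, M.aCount_t]

end Mdl

end Cfsg.Agent.Invol.Suz.Loc
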