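import Cfsg.Agent.Lib.Invol.Suz.Loc.OrderData

/-!
# The finite checks for the order count
-/

set_option autoImplicit false

namespace Cfsg.Agent.Invol.Suz.Loc

open Cfsg Cfsg.Agent.Classical.BinCoc Cfsg.Agent.Invol.Big Cfsg.Agent.Invol.Big.Code

/-- A power of a hat. -/
def pwH (f : List ℕ) : ℕ → List ℕ
  | 0 => idH K6
  | k + 1 => cmp K6 f (pwH f k)

/-- A certified half power of the product with `t`. -/
def chkHalf (f : List ℕ) (d : ℕ × ℕ × ℕ × List ℕ × ℕ) : Bool :=
  let P := cmp K6 f fT
  (d.1 % 2 == 0) && (0 < d.1) && ((List.range d.1).all fun k => k == 0 || !(pwH P k == idH K6)) &&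
    (pwH P d.1 == idH K6) && chkSq (pwH P (d.1 / 2)) d.2.1 (d.2.2.1, d.2.2.2.1, d.2.2.2.2)

/-- The count over `Q`. -/
def eQ (a : ℕ) : ℕ := ((qd.find? fun p => p.1 == a).map fun p => p.2.2.1).getD 0

/-- The count over a line. -/
def eL (i a : ℕ) : ℕ := ((ld.find? fun p => p.1 == i && p.2.1 == a).map fun p => p.2.2.2.1).getD 0

/-- The preimage list over a line. -/
def fLine (i : ℕ) : List ℕ := turned (lines.getD i (0, 0, [])).2.2 fA

/-- The data over the lines are correct. -/
def chkLd (l : List (ℕ × ℕ × ℕ × ℕ × ℕ × List ℕ × ℕ)) : Bool :=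
  l.all fun p => chkHalf (cmp K6 (fLine p.1) (innH K6 p.2.1)) p.2.2

theorem qd_ok : (qd.all fun p => chkHalf (innH K6 p.1) p.2) = true := by decide +kernel

theorem ld_ok1 : chkLd (ld.take 30) = true := by decide +kernel
theorem ld_ok2 : chkLd ((ld.drop 30).take 30) = true := by decide +kernel
theorem ld_ok3 : chkLd ((ld.drop 60).take 30) = true := by decide +kernel
theorem ld_ok4 : chkLd ((ld.drop 90).take 30) = true := by decide +kernel
theorem ld_ok5 : chkLd ((ld.drop 120).take 30) = true := by decide +kernel
theorem ld_ok6 : chkLd (ld.drop 150) = true := by decide +kernel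

theorem ld_ok : ∀ p ∈ ld, chkHalf (cmp K6 (fLine p.1) (innH K6 p.2.1)) p.2.2 = true := by
  have e : ld = ld.take 30 ++ (ld.drop 30).take 30 ++ (ld.drop 60).take 30 ++ (ld.drop 90).take 30 ++
      (ld.drop 120).take 30 ++ ld.drop 150 := by rfl
  intro p hp
  rw [e] at hp
  simp only [List.mem_append] at hp
  rcases hp with ((((h | h) | h) | h) | h) | h
  · exact List.all_eq_true.1 ld_ok1 p h
  · exact List.all_eq_true.1 ld_ok2 p h
  · exact List.all_eq_true.1 ld_ok3 p h
  · exact List.all_eq_true.1 ld_ok4 p h
  · exact List.all_eq_true.1 ld_ok5 p h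
  · exact List.all_eq_true.1 ld_ok6 p h

theorem qd_complete : ((List.range 128).all fun x =>
    x == 0 || K6.q (x / 2) || (qd.find? fun p => p.1 == x / 2).isSome) = true := by decide +kernel

theorem ld_complete : ((List.range lines.length).all fun i => (List.range 128).all fun y =>
    !(mulP K6 (ap K6 (fLine i) y) y == 0) || (ld.find? fun p => p.1 == i && p.2.1 == y / 2).isSome) = true := by
  decide +kernel

/-- The coded elements of `Q` conjugate to `z`. -/
def idxQ : List ℕ := (List.range 128).filter fun x => !(x == 0) && !K6.q (x / 2) && eQ (x / 2) == 1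

/-- The coded elements over the lines conjugate to `z`. -/
def idxL : List (ℕ × ℕ) :=
  (List.range lines.length).flatMap fun i =>
    ((List.range 128).filter fun y => mulP K6 (ap K6 (fLine i) y) y == 0 && eL i (y / 2) == 1).map fun y => (i, y)

theorem idx_count : idxQ.length + idxL.length = 236 := by decide +kernel

theorem lines_inj : (lines.map fun p => (tab K6 (lin p.1 p.2.1)).foldl (fun n x => n * 64 + x) 0).Nodup ∧
    (lines.all fun p => (pts K6).any fun a => lin p.1 p.2.1 a != a) = true := by decide +kernel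

theorem t_counts : ((List.range 27).all fun i => (List.range 27).all fun j =>
    !(sqM (mulM (aList.getD i 0) (aList.getD j 0)) == 256) ||
      !(mulM (aList.getD i 0) (aList.getD j 0) == 0)) = true ∧
    ((List.range 27).flatMap fun i => ((List.range 27).filter fun j =>
      sqM (mulM (aList.getD i 0) (aList.getD j 0)) == 256).map fun j => (i, j)).length = 96 ∧
    aList.Nodup ∧ aList.length = 27 ∧ ((List.range 64).all fun i => sqM (sqM (8 * i)) == 0) = true ∧
    ¬ 260 ∈ aList ∧ mulM 4 256 = 260 := by decide +kernel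

end Cfsg.Agent.Invol.Suz.Loc
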