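import Cfsg.Agent.Lib.Invol.Suz.Loc.CentS

/-!
# Data for the order count
-/

set_option autoImplicit false

namespace Cfsg.Agent.Invol.Suz.Loc

/-- The half powers over the elements of `Q`. -/
def qd : List (ℕ × ℕ × ℕ × ℕ × List ℕ × ℕ) :=
  [(1, (2, 1, 2, [], 1)),
   (2, (4, 1, 0, [], 10)),
   (3, (4, 1, 0, [], 10)),
   (4, (4, 1, 0, [], 17)),
   (6, (4, 0, 0, [], 27)),
   (8, (4, 1, 0, [], 10)),
   (9, (4, 1, 0, [], 10)),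
   (12, (4, 0, 0, [], 27)),
   (15, (4, 1, 0, [], 17)),
   (21, (4, 1, 0, [], 17)),
   (23, (4, 0, 0, [], 27)),
   (26, (2, 1, 2, [], 26)),
   (27, (2, 0, 2, [], 27)),
   (29, (4, 0, 0, [], 27)),
   (30, (4, 1, 0, [], 17)),
   (37, (2, 0, 2, [], 37)),
   (39, (4, 1, 0, [], 10)),
   (42, (4, 1, 0, [], 17)),
   (43, (4, 1, 0, [], 17)),
   (45, (4, 1, 0, [], 10)),
   (46, (2, 0, 2, [], 46)),
   (53, (2, 0, 2, [], 53)),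
   (55, (4, 1, 0, [], 10)),
   (58, (4, 1, 0, [], 17)),
   (59, (4, 1, 0, [], 17)),
   (61, (4, 1, 0, [], 10)),
   (62, (2, 0, 2, [], 62)),
   (0, (2, 0, 2, [], 0))]

/-- The half powers over the lines. -/
def ld : List (ℕ × ℕ × ℕ × ℕ × ℕ × List ℕ × ℕ) :=
  [(0, 0, (4, 1, 2, [5, 31], 16)),
   (0, 1, (4, 1, 2, [5, 31], 16)),
   (0, 2, (4, 1, 2, [5, 31], 27)),
   (0, 3, (4, 1, 2, [5, 31], 27)),
   (1, 0, (4, 1, 2, [5, 31], 16)),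
   (1, 1, (4, 1, 2, [5, 31], 16)),
   (1, 8, (4, 1, 2, [5, 31], 27)),
   (1, 9, (4, 1, 2, [5, 31], 27)),
   (2, 0, (4, 0, 0, [], 27)),
   (2, 1, (4, 0, 0, [], 27)),
   (2, 26, (4, 0, 0, [], 27)),
   (2, 27, (4, 0, 0, [], 27)),
   (3, 0, (4, 1, 2, [38, 60], 11)),
   (3, 1, (4, 1, 2, [38, 60], 11)),
   (3, 42, (4, 1, 2, [38, 60], 27)),
   (3, 43, (4, 1, 2, [38, 60], 27)),
   (4, 0, (4, 1, 2, [38, 60], 27)),
   (4, 1, (4, 1, 2, [38, 60], 27)),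
   (4, 58, (4, 1, 2, [38, 60], 11)),
   (4, 59, (4, 1, 2, [38, 60], 11)),
   (5, 0, (6, 1, 1, [25, 49], 13)),
   (5, 2, (6, 1, 1, [25, 49], 22)),
   (5, 4, (6, 1, 1, [25, 49], 22)),
   (5, 6, (6, 1, 1, [25, 49], 13)),
   (6, 0, (6, 1, 1, [14, 32], 16)),
   (6, 2, (6, 1, 1, [14, 32], 11)),
   (6, 21, (6, 1, 1, [14, 32], 11)),
   (6, 23, (6, 1, 1, [14, 32], 16)),
   (7, 0, (8, 0, 0, [], 37)),
   (7, 2, (8, 0, 0, [], 37)),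
   (7, 37, (8, 0, 0, [], 37)),
   (7, 39, (8, 0, 0, [], 37)),
   (8, 0, (8, 0, 0, [], 53)),
   (8, 2, (8, 0, 0, [], 53)),
   (8, 53, (8, 0, 0, [], 53)),
   (8, 55, (8, 0, 0, [], 53)),
   (9, 0, (6, 1, 1, [14, 32], 11)),
   (9, 3, (6, 1, 1, [14, 32], 16)),
   (9, 12, (6, 1, 1, [14, 32], 11)),
   (9, 15, (6, 1, 1, [14, 32], 16)),
   (10, 0, (6, 1, 1, [25, 49], 13)),
   (10, 3, (6, 1, 1, [25, 49], 22)),
   (10, 29, (6, 1, 1, [25, 49], 13)),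
   (10, 30, (6, 1, 1, [25, 49], 22)),
   (11, 0, (8, 0, 0, [], 46)),
   (11, 3, (8, 0, 0, [], 46)),
   (11, 45, (8, 0, 0, [], 46)),
   (11, 46, (8, 0, 0, [], 46)),
   (12, 0, (8, 0, 0, [], 62)),
   (12, 3, (8, 0, 0, [], 62)),
   (12, 61, (8, 0, 0, [], 62)),
   (12, 62, (8, 0, 0, [], 62)),
   (13, 0, (6, 1, 1, [14, 32], 11)),
   (13, 4, (6, 1, 1, [14, 32], 16)),
   (13, 8, (6, 1, 1, [14, 32], 16)),
   (13, 12, (6, 1, 1, [14, 32], 11)),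
   (14, 0, (4, 1, 2, [18, 19], 10)),
   (14, 4, (4, 1, 2, [18, 19], 1)),
   (14, 26, (4, 1, 2, [18, 19], 10)),
   (14, 30, (4, 1, 2, [18, 19], 1)),
   (15, 0, (8, 0, 0, [], 46)),
   (15, 4, (8, 0, 0, [], 46)),
   (15, 42, (8, 0, 0, [], 46)),
   (15, 46, (8, 0, 0, [], 46)),
   (16, 0, (8, 0, 0, [], 62)),
   (16, 4, (8, 0, 0, [], 62)),
   (16, 58, (8, 0, 0, [], 62)),
   (16, 62, (8, 0, 0, [], 62)),
   (17, 0, (6, 1, 1, [25, 49], 13)),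
   (17, 6, (6, 1, 1, [25, 49], 13)),
   (17, 9, (6, 1, 1, [25, 49], 22)),
   (17, 15, (6, 1, 1, [25, 49], 22)),
   (18, 0, (4, 0, 0, [], 27)),
   (18, 6, (2, 1, 1, [14, 32], 11)),
   (18, 27, (4, 0, 0, [], 27)),
   (18, 29, (2, 1, 1, [14, 32], 16)),
   (19, 0, (6, 1, 1, [25, 49], 13)),
   (19, 6, (6, 1, 1, [25, 49], 13)),
   (19, 43, (6, 1, 1, [25, 49], 22)),
   (19, 45, (6, 1, 1, [25, 49], 22)),
   (20, 0, (6, 1, 1, [25, 49], 13)),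
   (20, 6, (6, 1, 1, [25, 49], 13)),
   (20, 59, (6, 1, 1, [25, 49], 22)),
   (20, 61, (6, 1, 1, [25, 49], 22)),
   (21, 0, (6, 1, 1, [25, 49], 22)),
   (21, 8, (6, 1, 1, [25, 49], 13)),
   (21, 21, (6, 1, 1, [25, 49], 13)),
   (21, 29, (6, 1, 1, [25, 49], 22)),
   (22, 0, (8, 0, 0, [], 37)),
   (22, 8, (8, 0, 0, [], 37)),
   (22, 37, (8, 0, 0, [], 37)),
   (22, 45, (8, 0, 0, [], 37)),
   (23, 0, (8, 0, 0, [], 53)),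
   (23, 8, (8, 0, 0, [], 53)),
   (23, 53, (8, 0, 0, [], 53)),
   (23, 61, (8, 0, 0, [], 53)),
   (24, 0, (6, 1, 1, [14, 32], 16)),
   (24, 9, (6, 1, 1, [14, 32], 11)),
   (24, 23, (6, 1, 1, [14, 32], 16)),
   (24, 30, (6, 1, 1, [14, 32], 11)),
   (25, 0, (8, 0, 0, [], 46)),
   (25, 9, (8, 0, 0, [], 46)),
   (25, 39, (8, 0, 0, [], 46)),
   (25, 46, (8, 0, 0, [], 46)),
   (26, 0, (8, 0, 0, [], 62)),
   (26, 9, (8, 0, 0, [], 62)),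
   (26, 55, (8, 0, 0, [], 62)),
   (26, 62, (8, 0, 0, [], 62)),
   (27, 0, (2, 1, 1, [25, 49], 13)),
   (27, 12, (4, 0, 0, [], 27)),
   (27, 23, (4, 0, 0, [], 27)),
   (27, 27, (2, 1, 1, [25, 49], 22)),
   (28, 0, (6, 1, 1, [14, 32], 16)),
   (28, 12, (6, 1, 1, [14, 32], 16)),
   (28, 39, (6, 1, 1, [14, 32], 11)),
   (28, 43, (6, 1, 1, [14, 32], 11)),
   (29, 0, (6, 1, 1, [14, 32], 16)),
   (29, 12, (6, 1, 1, [14, 32], 16)),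
   (29, 55, (6, 1, 1, [14, 32], 11)),
   (29, 59, (6, 1, 1, [14, 32], 11)),
   (30, 0, (4, 1, 2, [18, 19], 10)),
   (30, 15, (4, 1, 2, [18, 19], 1)),
   (30, 21, (4, 1, 2, [18, 19], 1)),
   (30, 26, (4, 1, 2, [18, 19], 10)),
   (31, 0, (8, 0, 0, [], 37)),
   (31, 15, (8, 0, 0, [], 37)),
   (31, 37, (8, 0, 0, [], 37)),
   (31, 42, (8, 0, 0, [], 37)),
   (32, 0, (8, 0, 0, [], 53)),
   (32, 15, (8, 0, 0, [], 53)),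
   (32, 53, (8, 0, 0, [], 53)),
   (32, 58, (8, 0, 0, [], 53)),
   (33, 0, (8, 0, 0, [], 62)),
   (33, 21, (8, 0, 0, [], 62)),
   (33, 43, (8, 0, 0, [], 62)),
   (33, 62, (8, 0, 0, [], 62)),
   (34, 0, (8, 0, 0, [], 46)),
   (34, 21, (8, 0, 0, [], 46)),
   (34, 46, (8, 0, 0, [], 46)),
   (34, 59, (8, 0, 0, [], 46)),
   (35, 0, (6, 1, 1, [14, 32], 11)),
   (35, 23, (6, 1, 1, [14, 32], 11)),
   (35, 42, (6, 1, 1, [14, 32], 16)),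
   (35, 61, (6, 1, 1, [14, 32], 16)),
   (36, 0, (6, 1, 1, [14, 32], 11)),
   (36, 23, (6, 1, 1, [14, 32], 11)),
   (36, 45, (6, 1, 1, [14, 32], 16)),
   (36, 58, (6, 1, 1, [14, 32], 16)),
   (37, 0, (4, 1, 2, [32, 33], 1)),
   (37, 26, (4, 1, 2, [32, 33], 1)),
   (37, 39, (4, 1, 2, [32, 33], 17)),
   (37, 61, (4, 1, 2, [32, 33], 17)),
   (38, 0, (4, 1, 2, [32, 33], 17)),
   (38, 26, (4, 1, 2, [32, 33], 17)),
   (38, 45, (4, 1, 2, [32, 33], 1)),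
   (38, 55, (4, 1, 2, [32, 33], 1)),
   (39, 0, (2, 0, 2, [7, 34], 37)),
   (39, 27, (2, 0, 2, [7, 34], 62)),
   (39, 37, (2, 0, 2, [7, 34], 0)),
   (39, 62, (2, 0, 2, [7, 34], 27)),
   (40, 0, (2, 0, 2, [7, 41], 17)),
   (40, 27, (2, 0, 2, [7, 41], 10)),
   (40, 46, (2, 0, 2, [7, 41], 63)),
   (40, 53, (2, 0, 2, [7, 41], 36)),
   (41, 0, (6, 1, 1, [25, 49], 22)),
   (41, 29, (6, 1, 1, [25, 49], 22)),
   (41, 39, (6, 1, 1, [25, 49], 13)),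
   (41, 58, (6, 1, 1, [25, 49], 13)),
   (42, 0, (6, 1, 1, [25, 49], 22)),
   (42, 29, (6, 1, 1, [25, 49], 22)),
   (42, 42, (6, 1, 1, [25, 49], 13)),
   (42, 55, (6, 1, 1, [25, 49], 13)),
   (43, 0, (8, 0, 0, [], 37)),
   (43, 30, (8, 0, 0, [], 37)),
   (43, 37, (8, 0, 0, [], 37)),
   (43, 59, (8, 0, 0, [], 37)),
   (44, 0, (8, 0, 0, [], 53)),
   (44, 30, (8, 0, 0, [], 53)),
   (44, 43, (8, 0, 0, [], 53)),
   (44, 53, (8, 0, 0, [], 53))]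

end Cfsg.Agent.Invol.Suz.Loc
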