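import Cfsg.Agent.Lib.Invol.Suz.Loc.Sub

/-!
# Facts in the group of bit codes
-/

set_option autoImplicit false
set_option linter.unusedSectionVars false

namespace Cfsg.Agent.Invol.Suz.Loc

open Cfsg Cfsg.Agent.Classical.BinCoc Cfsg.Agent.Invol.Big Cfsg.Agent.Invol.Big.Code

/-- The codes of the conjugates of `z`. -/
def aList : List ℕ :=
  [8, 16, 32, 40, 96, 112, 128, 136, 144, 160, 168, 224, 240, 256, 264, 272, 288, 296, 352, 368, 384, 392, 400,
    416, 424, 480, 496]

theorem aList_ok : ((List.range 512).all fun a => isA a == aList.contains a) = true := by decide +kernel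

theorem aList_U : aList.all (fun a => decide (a < 512) && a % 8 == 0) = true := by decide +kernel

theorem sqA_ok : (aList.all fun a => sqM a == 0 && a != 0) = true := by decide +kernel

/-- The codes of `U` form a subgroup with centre of order four, all of whose involutions are conjugates of `z`. -/
theorem U_ok : ((List.range 64).all fun i => (List.range 64).all fun j => mulM (8 * i) (8 * j) % 8 == 0) = true ∧
    ((List.range 64).all fun i => !(sqM (8 * i) == 0) || i == 0 || aList.contains (8 * i)) = true ∧
    ((List.range 64).all fun i =>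
      ([0, 16, 32, 48].contains i) == ((List.range 9).all fun j => decide (j < 3) ||
        mulM (8 * i) (2 ^ j) == mulM (2 ^ j) (8 * i))) = true ∧
    sqM 48 = 128 ∧ sqM 24 = 256 ∧ sqM 56 = 384 := by decide +kernel

theorem even_ok : ((List.range 256).all fun i => (List.range 256).all fun j => mulM (2 * i) (2 * j) % 2 == 0) = true := by
  decide +kernel

/-- An even code is a product of one commuting with `U` and one in `U`. -/
theorem even_split : ((List.range 256).all fun i => [0, 2, 4, 6, 128, 130, 132, 134, 256, 258, 260, 262, 384, 386,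
    388, 390].any fun c => (List.range 64).any fun u => mulM c (8 * u) == 2 * i) = true ∧
    ([0, 2, 4, 6, 128, 130, 132, 134, 256, 258, 260, 262, 384, 386, 388, 390].all fun c =>
      (List.range 9).all fun j => decide (j < 3) || mulM c (2 ^ j) == mulM (2 ^ j) c) = true ∧
    ((List.range 512).all fun a => !((List.range 9).all fun j => decide (j < 3) || mulM a (2 ^ j) == mulM (2 ^ j) a) ||
      a % 2 == 0) = true := by decide +kernel

/-- Odd codes centralize a single conjugate of `z`; even ones centralize the centre of `U`. -/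
theorem odd_ok : ((List.range 256).all fun i => aList.all fun x =>
      !(mulM x (2 * i + 1) == mulM (2 * i + 1) x) || x == 256) = true ∧
    ((List.range 256).all fun i => mulM 128 (2 * i) == mulM (2 * i) 128 && mulM 384 (2 * i) == mulM (2 * i) 384) = true ∧
    ((List.range 512).all fun a => !((List.range 9).all fun j => mulM a (2 ^ j) == mulM (2 ^ j) a) ||
      !aList.contains a || a == 256) = true := by decide +kernel

variable {G : Type*} [Group G] [Finite G] {z : G} {Q : Subgroup G} {cd : G → ℕ}

theorem dLine_conj (S : Setting z Q cd) {p : ℕ × ℕ × List ℕ} (hp : p ∈ lines) :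
    ∃ γ b, γ * z = z * γ ∧ S.code.Acts b (wd K6 wA) ∧ dLine S p = γ * b * γ⁻¹ := by
  have h := lines_ok
  simp only [chkLines, Bool.and_eq_true, List.all_eq_true] at h
  have hw := (h.1 p hp).1.1
  have hA := Classical.choose_spec (Setting.sq_bases S 1).2
  refine ⟨_, _, (Classical.choose_spec (exists_lift0 S.code hw)).comm, ⟨hA.comm, fun a ha => ?_⟩, by rw [dLine, dif_pos hw]⟩
  have := acts_ok
  simp only [List.all_eq_true, pts, List.mem_range, Bool.and_eq_true, beq_iff_eq] at this
  rw [hA.act_eq ha]
  exact (this a ha).1.1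

/-- Conjugates of `z` in the centralizer, read off the hat. -/
theorem Setting.isA_iff (S : Setting z Q cd) {x : G} {f : List ℕ} (hf : IsHat S.code x f) (hx2 : x * x = 1)
    (hx1 : x ≠ 1) : IsConj z x ↔ isAh f = true := by
  simp only [isAh, Bool.or_eq_true, List.all_eq_true, List.any_eq_true, pts, List.mem_range, beq_iff_eq]
  constructor
  · intro hA
    by_cases hxQ : x ∈ Q
    · exact Or.inl fun a ha => by rw [← hf.act_eq ha]; exact (S.code.mem_iff hf.comm).1 hxQ a ha
    · obtain ⟨p, hp, y, -, rfl⟩ := Setting.line_of_conj S hf.comm hx2 hxQ hA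
      refine Or.inr ⟨p, hp, fun a ha => ?_⟩
      have hd := (dLine_hat S hp).1.comm
      have hyz := S.code.ext.central _ (el_mem S.code y)
      rw [← hf.act_eq ha, S.code.act_mul hd hyz ha, (S.code.mem_iff hyz).1 (el_mem S.code y) a ha, dLine_acts S hp ha]
  · rintro (h | ⟨p, hp, h⟩)
    · have hxQ : x ∈ Q := (S.code.mem_iff hf.comm).2 fun a ha => by rw [hf.act_eq ha]; exact h a ha
      by_cases e : x = z
      · rw [e]
      · exact S.code.isConj_z pair_ok S.moves ⟨hxQ, hx2, hx1, e⟩
    · obtain ⟨γ, b, hγ, hb, e⟩ := dLine_conj S hp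
      refine (Setting.isConj_A S (x := γ⁻¹ * x * γ) ⟨comm_mul (comm_mul (comm_inv hγ) hf.comm) hγ, fun a ha => ?_⟩
        (by simpa using invol_conj γ⁻¹ hx2)).trans (isConj_iff.2 ⟨γ, by group⟩)
      have hbγ := S.code.act_lt hγ a
      have hd : dLine S p * z = z * dLine S p := (dLine_hat S hp).1.comm
      rw [S.code.act_mul (comm_mul (comm_inv hγ) hf.comm) hγ ha, S.code.act_mul (comm_inv hγ) hf.comm hbγ,
        hf.act_eq hbγ, h _ hbγ, ← dLine_acts S hp hbγ, ← S.code.act_mul (comm_inv hγ) hd hbγ,
        ← S.code.act_mul (comm_mul (comm_inv hγ) hd) hγ ha,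
        show γ⁻¹ * dLine S p * γ = b by rw [e]; group, hb.2 a ha]

namespace Mdl

variable {S : Setting z Q cd} {g : ℕ → G}

theorem ev_sq (M : Mdl S g) {a : ℕ} (ha : a < 512) : ev g a * ev g a = ev g (sqM a) :=
  ((M.mulM_spec a ha).2).symm

/-- The conjugates of `z` in the group of the codes. -/
theorem mem_aList (M : Mdl S g) {a : ℕ} (ha : a < 512) : a ∈ aList ↔ IsConj z (ev g a) := by
  have h := aList_ok
  simp only [List.all_eq_true, List.mem_range, beq_iff_eq] at h
  have hs := sqA_ok
  simp only [List.all_eq_true, Bool.and_eq_true, beq_iff_eq, bne_iff_ne] at hs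
  constructor
  · intro hm
    have hA : isA a = true := by rw [h a ha]; simpa using hm
    simp only [isA, Bool.and_eq_true] at hA
    refine (Setting.isA_iff S (M.hat_ev a) ?_ ?_).2 hA.2
    · rw [M.ev_sq ha, (hs a hm).1, ev_zero]
    · rw [← ev_zero (g := g)]
      exact fun e => (hs a hm).2 (M.ev_inj ha (by norm_num) e)
  · intro hA
    have hne : a ≠ 0 := by
      rintro rfl
      rw [ev_zero] at hA
      exact S.code.ne (isConj_one_left.1 hA)
    have hsq : ev g a * ev g a = 1 := by
      obtain ⟨c, hc⟩ := isConj_iff.1 hA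
      rw [← hc]; exact invol_conj c S.code.ext.zz
    have hsm : sqM a = 0 := M.ev_inj (M.mulM_spec a ha).1 (by norm_num) (by rw [← M.ev_sq ha, hsq, ev_zero])
    have := (Setting.isA_iff S (M.hat_ev a) hsq (fun e => hne (M.ev_inj ha (by norm_num) (e.trans ev_zero.symm)))).1 hA
    have hA' : isA a = true := by simp [isA, hsm, hne, this]
    rw [h a ha] at hA'
    simpa using hA'

end Mdl

end Cfsg.Agent.Invol.Suz.Loc
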