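import Cfsg.Agent.Lib.Invol.Suz.Loc.Model

/-!
# The group of bit codes inside the given group
-/

set_option autoImplicit false
set_option linter.unusedSectionVars false

namespace Cfsg.Agent.Invol.Suz.Loc

open Cfsg Cfsg.Agent.Classical.BinCoc Cfsg.Agent.Invol.Big Cfsg.Agent.Invol.Big.Code

variable {G : Type*} [Group G] [Finite G] {z : G} {Q : Subgroup G} {cd : G → ℕ} {S : Setting z Q cd} {g : ℕ → G}

/-- The element of a code. -/
def ev (g : ℕ → G) (a : ℕ) : G := ((decW a).map g).prod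

theorem decW_lt {a j : ℕ} (hj : j ∈ decW a) : j < 9 := List.mem_range.1 (List.mem_filter.1 hj).1

theorem decW_pow : ((List.range 9).all fun j => decW (2 ^ j) == [j]) = true := by decide +kernel

theorem ev_zero : ev g 0 = (1 : G) := by
  rw [ev, show decW 0 = [] by decide +kernel]; rfl

theorem ev_pow {j : ℕ} (hj : j < 9) : ev g (2 ^ j) = g j := by
  have := decW_pow
  simp only [List.all_eq_true, List.mem_range, beq_iff_eq] at this
  rw [ev, this j hj]; simp

namespace Mdl

theorem lmul_spec (M : Mdl S g) : ∀ n j (l : List ℕ), ((lmul n j l).map g).prod = g j * (l.map g).prod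
  | 0, j, l => by simp [lmul]
  | n + 1, j, [] => by simp [lmul]
  | n + 1, j, i :: r => by
    have fold : ∀ w : List ℕ, ((w.foldr (lmul n) r).map g).prod = (w.map g).prod * (r.map g).prod := by
      intro w
      induction w with
      | nil => simp
      | cons x w ih => rw [List.foldr_cons, M.lmul_spec n x, ih, List.map_cons, List.prod_cons, mul_assoc]
    rw [lmul]
    split_ifs with h1 h2
    · simp
    · subst h2
      rw [fold, ← M.sq j (by omega), List.map_cons, List.prod_cons, mul_assoc]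
    · rw [fold, ← M.rel i j (by omega) (by omega), List.map_cons, List.prod_cons, mul_assoc]

theorem stp_spec (M : Mdl S g) {j a : ℕ} (hj : j < 9) (ha : a < 512) : ev g (stp j a) = g j * ev g a := by
  have := table_ok
  simp only [List.all_eq_true, List.mem_range, beq_iff_eq] at this
  rw [ev, this j hj a ha, M.lmul_spec]
  rfl

theorem stp_lt (j a : ℕ) : stp j a < 512 := Nat.mod_lt _ (by norm_num)

theorem mulM_spec (M : Mdl S g) (a : ℕ) {c : ℕ} (hc : c < 512) :
    mulM a c < 512 ∧ ev g (mulM a c) = ev g a * ev g c := by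
  suffices ∀ l : List ℕ, (∀ j ∈ l, j < 9) → l.foldr stp c < 512 ∧ ev g (l.foldr stp c) = (l.map g).prod * ev g c from
    this _ fun _ => decW_lt
  intro l
  induction l with
  | nil => intro _; exact ⟨hc, by simp⟩
  | cons j l ih =>
    intro hl
    obtain ⟨h1, h2⟩ := ih fun x hx => hl x (List.mem_cons_of_mem _ hx)
    refine ⟨stp_lt _ _, ?_⟩
    rw [List.foldr_cons, M.stp_spec (hl j (List.mem_cons_self ..)) h1, h2, List.map_cons, List.prod_cons, mul_assoc]

theorem hat_ev (M : Mdl S g) (a : ℕ) : IsHat S.code (ev g a) (hatM a) := by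
  suffices ∀ l : List ℕ, IsHat S.code (l.map g).prod (l.foldr (fun j f => cmp K6 (gH j) f) (idH K6)) from this _
  intro l
  induction l with
  | nil => simpa using isHat_one S.code
  | cons j l ih => simpa using (M.hat j).mul ih

theorem ev_top (M : Mdl S g) {a : ℕ} (ha : a < 256) : ev g (a + 256) = ev g a * z := by
  have := dec_top
  simp only [List.all_eq_true, List.mem_range, beq_iff_eq] at this
  rw [ev, this a ha, List.map_append, List.prod_append]
  simp [M.top, ev]

end Mdl

omit [Finite G] in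
theorem IsHat.mul_z {h : Code K6 z Q cd} {c : G} {f : List ℕ} (H : IsHat h c f) : IsHat h (c * z) f := by
  refine ⟨comm_mul H.comm rfl, H.len, H.lt, fun i hi => ?_⟩
  rw [← H.eq i hi]
  calc c * z * el h (2 * 2 ^ i) * (c * z)⁻¹ = c * (z * el h (2 * 2 ^ i) * z⁻¹) * c⁻¹ := by group
    _ = _ := by rw [← h.ext.central _ (el_mem h _), mul_inv_cancel_right]

namespace Mdl

theorem ev_inj (M : Mdl S g) {a c : ℕ} (ha : a < 512) (hc : c < 512) (e : ev g a = ev g c) : a = c := by
  have small : ∀ {a c : ℕ}, a < 256 → c < 256 → (ev g a = ev g c ∨ ev g a = ev g c * z) → a = c := by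
    intro a c ha hc he
    have hh : hatM a = hatM c := by
      rcases he with e | e
      · exact (M.hat_ev a).ext_eq (e ▸ M.hat_ev c)
      · exact (M.hat_ev a).ext_eq (e ▸ (M.hat_ev c).mul_z)
    exact List.inj_on_of_nodup_map hatM_nodup (List.mem_range.2 ha) (List.mem_range.2 hc) (by simp only [hh])
  obtain ⟨a', ha', ea⟩ : ∃ a' < 256, (a = a' ∧ ev g a = ev g a') ∨ (a = a' + 256 ∧ ev g a = ev g a' * z) := by
    by_cases h : a < 256
    · exact ⟨a, h, Or.inl ⟨rfl, rfl⟩⟩
    · exact ⟨a - 256, by omega, Or.inr ⟨by omega, by rw [← M.ev_top (by omega), show a - 256 + 256 = a by omega]⟩⟩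
  obtain ⟨c', hc', ec⟩ : ∃ c' < 256, (c = c' ∧ ev g c = ev g c') ∨ (c = c' + 256 ∧ ev g c = ev g c' * z) := by
    by_cases h : c < 256
    · exact ⟨c, h, Or.inl ⟨rfl, rfl⟩⟩
    · exact ⟨c - 256, by omega, Or.inr ⟨by omega, by rw [← M.ev_top (by omega), show c - 256 + 256 = c by omega]⟩⟩
  rcases ea with ⟨e1, e1'⟩ | ⟨e1, e1'⟩ <;> rcases ec with ⟨e2, e2'⟩ | ⟨e2, e2'⟩ <;> rw [e1', e2'] at e
  · rw [e1, e2, small ha' hc' (Or.inl e)]
  · have := small ha' hc' (Or.inr e)
    subst this
    exact absurd (mul_eq_left.1 e.symm) S.code.ne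
  · have := small hc' ha' (Or.inr e.symm)
    subst this
    exact absurd (mul_eq_left.1 e) S.code.ne
  · rw [e1, e2, small ha' hc' (Or.inl (mul_right_cancel e))]

/-- The group of the codes. -/
def sub (M : Mdl S g) : Subgroup G where
  carrier := {x | ∃ a < 512, ev g a = x}
  mul_mem' := by
    rintro _ _ ⟨a, -, rfl⟩ ⟨c, hc, rfl⟩
    exact ⟨_, (M.mulM_spec a hc).1, (M.mulM_spec a hc).2⟩
  one_mem' := ⟨0, by norm_num, ev_zero⟩
  inv_mem' := by
    rintro _ ⟨a, ha, rfl⟩
    show ∃ c < 512, ev g c = (ev g a)⁻¹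
    have hp : ∀ k : ℕ, ∃ c < 512, ev g c = ev g a ^ k := by
      intro k
      induction k with
      | zero => exact ⟨0, by norm_num, by rw [ev_zero, pow_zero]⟩
      | succ k ih =>
        obtain ⟨c, hc, e⟩ := ih
        exact ⟨_, (M.mulM_spec a hc).1, by rw [(M.mulM_spec a hc).2, e, pow_succ']⟩
    obtain ⟨c, hc, e⟩ := hp (orderOf (ev g a) - 1)
    refine ⟨c, hc, eq_inv_of_mul_eq_one_left ?_⟩
    rw [e, ← pow_succ, Nat.sub_add_cancel (orderOf_pos _), pow_orderOf_eq_one]

theorem mem_sub (M : Mdl S g) {x : G} : x ∈ M.sub ↔ ∃ a < 512, ev g a = x := Iff.rfl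

theorem card_sub (M : Mdl S g) : Nat.card M.sub = 512 := by
  have hb : Function.Bijective (fun a : Fin 512 => (⟨ev g a, a, a.2, rfl⟩ : M.sub)) :=
    ⟨fun a c e => Fin.ext (M.ev_inj a.2 c.2 (congrArg Subtype.val e)), fun ⟨x, a, ha, e⟩ => ⟨⟨a, ha⟩, Subtype.ext e⟩⟩
  rw [← Nat.card_eq_of_bijective _ hb, Nat.card_fin]

theorem comm_gen (M : Mdl S g) {k : ℕ} (hk : k < 512)
    (hc : ∀ j < 9, mulM k (2 ^ j) = mulM (2 ^ j) k) (a : ℕ) : ev g k * ev g a = ev g a * ev g k := by
  have hg : ∀ j < 9, Commute (ev g k) (g j) := fun j hj => by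
    have hj2 : 2 ^ j < 512 := lt_of_lt_of_le (Nat.pow_lt_pow_right (by norm_num) hj) (le_refl _)
    have := (M.mulM_spec k hj2).2
    rw [hc j hj, (M.mulM_spec (2 ^ j) hk).2, ev_pow hj] at this
    exact this.symm
  exact (Commute.list_prod_right _ _ fun x hx => by
    obtain ⟨j, hj, rfl⟩ := List.mem_map.1 hx
    exact hg j (decW_lt hj)).eq

theorem g2_comm (M : Mdl S g) (a : ℕ) : g 2 * ev g a = ev g a * g 2 := by
  have h := center_ok
  simp only [List.all_eq_true, List.mem_range, Bool.and_eq_true, beq_iff_eq] at h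
  have := M.comm_gen (k := 4) (by norm_num) (fun j hj => (h j hj).1) a
  rwa [show (4 : ℕ) = 2 ^ 2 by rfl, ev_pow (by norm_num)] at this

theorem g2_sq (M : Mdl S g) : g 2 * g 2 = 1 := by simpa [sqW] using M.sq 2 (by norm_num)

theorem g2_conj (M : Mdl S g) : ∃ c, c * z = z * c ∧ c * tOf S * c⁻¹ = g 2 := by
  refine Setting.conj_t_of_acts S ⟨(M.hat 2).comm, fun a ha => ?_⟩ M.g2_sq
  rw [(M.hat 2).act_eq ha, ← (tOf_acts S).2 a ha, (tOf_hat S).act_eq ha]
  rfl

/-- The group of the codes is the whole centralizer of `t` in the centralizer of `z`. -/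
theorem sub_eq (M : Mdl S g) :
    M.sub = Subgroup.centralizer ({z} : Set G) ⊓ Subgroup.centralizer ({g 2} : Set G) := by
  refine Subgroup.eq_of_le_of_card_ge ?_ ?_
  · rintro _ ⟨a, ha, rfl⟩
    exact ⟨Subgroup.mem_centralizer_singleton_iff.2 (M.hat_ev a).comm,
      Subgroup.mem_centralizer_singleton_iff.2 (M.g2_comm a).symm⟩
  · rw [M.card_sub]
    refine le_trans ?_ (Setting.card_le S)
    obtain ⟨c, hc, hct⟩ := M.g2_conj
    refine Nat.card_le_card_of_injective (fun w => (⟨c⁻¹ * w.1 * c, ?_, ?_⟩ :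
      (Subgroup.centralizer ({z} : Set G) ⊓ Subgroup.centralizer ({tOf S} : Set G) : Subgroup G))) fun a b e =>
        Subtype.ext ?_
    · exact Subgroup.mem_centralizer_singleton_iff.2 (comm_mul (comm_mul (comm_inv hc)
        (Subgroup.mem_centralizer_singleton_iff.1 w.2.1)) hc)
    · refine Subgroup.mem_centralizer_singleton_iff.2 ?_
      obtain ⟨w, hw⟩ := w
      have := Subgroup.mem_centralizer_singleton_iff.1 hw.2
      calc c⁻¹ * w * c * tOf S = c⁻¹ * (w * (c * tOf S * c⁻¹)) * c := by group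
        _ = c⁻¹ * ((c * tOf S * c⁻¹) * w) * c := by rw [hct, this]
        _ = tOf S * (c⁻¹ * w * c) := by group
    · simpa using congrArg Subtype.val e

end Mdl

end Cfsg.Agent.Invol.Suz.Loc
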