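import Cfsg.Agent.Lib.Invol.Suz.Loc.ThreeChecks
import Cfsg.Agent.Lib.Invol.Suz.Loc.Seven

/-!
# The rotations of three orthogonal planes and their centralizer
-/

set_option autoImplicit false
set_option linter.unusedSectionVars false
set_option linter.style.haveILetI false

namespace Cfsg.Agent.Invol.Suz.Loc.Three

open Cfsg Cfsg.Agent.Classical.BinCoc Cfsg.Agent.Invol.Big Cfsg.Agent.Invol.Big.Code Cfsg.Agent.Invol.Suz.Loc

variable {G : Type*} [Group G] [Finite G] {z : G} {Q : Subgroup G} {cd : G → ℕ}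

/-- The rotations and the elements normalising their group. -/
structure Tri (S : Setting z Q cd) (a b : ℕ → G) : Prop where
  ha : ∀ i, i < 3 → IsHat S.code (a i) (aH i)
  a3 : ∀ i, i < 3 → a i ^ 3 = 1
  hb : ∀ j, j < 4 → IsHat S.code (b j) (bH j)
  sq0 : b 0 * b 0 = z
  sq1 : b 1 * b 1 = z
  sq01 : b 0 * b 1 * (b 0 * b 1) = z
  sq2 : b 2 * b 2 = 1
  sq20 : b 2 * b 0 * (b 2 * b 0) = 1
  b3 : b 3 ^ 3 = 1

/-- A product of rotations. -/
def el3 (a : ℕ → G) (n : ℕ) : G := a 0 ^ dig 0 n * (a 1 ^ dig 1 n * a 2 ^ dig 2 n)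

/-- A sign change. -/
def sEl (b : ℕ → G) : ℕ → G
  | 0 => 1
  | 1 => b 0
  | 2 => b 1
  | _ => b 0 * b 1

/-- A permutation. -/
def pEl (b : ℕ → G) : ℕ → G
  | 0 => 1
  | 1 => b 3
  | 2 => b 3 * b 3
  | 3 => b 2
  | 4 => b 2 * b 3
  | _ => b 2 * (b 3 * b 3)

/-- A representative of the monomial group. -/
def rep (b : ℕ → G) (k : ℕ) : G := sEl b (k / 6) * pEl b (k % 6)

section General

variable {h : Code K6 z Q cd} {c d : G} {f : List ℕ}

/-- One of the two preimages of a hat of order three has order three. -/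
theorem exists_cube (H : IsHat h c f) (e : cmp K6 f (cmp K6 f f) = idH K6) : ∃ c', IsHat h c' f ∧ c' ^ 3 = 1 := by
  rcases (isHat_one h).cancel ((H.mul (H.mul H)).ext_hat e) with h3 | h3
  · exact ⟨c, H, by simpa [pow_succ, mul_assoc] using h3⟩
  · refine ⟨c * z, H.mul_z, ?_⟩
    rw [(show Commute c z from H.comm).mul_pow, pow_three, h3, one_mul, pow_three, h.ext.zz, mul_one, h.ext.zz]

/-- Two elements of exponent three with the same action are equal. -/
theorem eq_of_hat (H : IsHat h c f) (J : IsHat h d f) (hc : c ^ 3 = 1) (hd : d ^ 3 = 1) : d = c := by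
  rcases H.cancel J with e | e
  · exact e
  · exfalso
    rw [e, (show Commute c z from H.comm).mul_pow, hc, one_mul, pow_three, h.ext.zz, mul_one] at hd
    exact h.ne hd

/-- Conjugates of elements of exponent three are read off the actions. -/
theorem conj_eq {x y γ : G} {F fx fy : List ℕ} (hg : IsHat h γ F) (hx : IsHat h x fx) (hy : IsHat h y fy)
    (hx3 : x ^ 3 = 1) (hy3 : y ^ 3 = 1) (e : cmp K6 F fx = cmp K6 fy F) : γ * x * γ⁻¹ = y := by
  rcases ((hy.mul hg).ext_hat e.symm).cancel (hg.mul hx) with e' | e'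
  · rw [e', mul_inv_cancel_right]
  · exfalso
    have k : γ * x * γ⁻¹ = y * z := by
      rw [e', mul_assoc y, hg.comm, ← mul_assoc, mul_inv_cancel_right]
    have h3 : (γ * x * γ⁻¹) ^ 3 = 1 := by rw [conj_pow, hx3, mul_one, mul_inv_cancel]
    rw [k, (show Commute y z from hy.comm).mul_pow, hy3, one_mul, pow_three, h.ext.zz, mul_one] at h3
    exact h.ne h3

end General

/-- The rotations exist. -/
theorem exists_tri (S : Setting z Q cd) : ∃ a b, Tri S a b := by
  have h := real_ok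
  simp only [Bool.and_eq_true, List.all_eq_true, List.mem_range, beq_iff_eq] at h
  obtain ⟨hA, hB⟩ := h
  have hex : ∀ i : ℕ, ∃ c, i < 3 → IsHat S.code c (aH i) ∧ c ^ 3 = 1 := fun i => by
    by_cases hi : i < 3
    · obtain ⟨c, hc⟩ := exists_of_chkReal S.code dual_ok (hA i hi).1.1
      obtain ⟨c', hc', hc3⟩ := exists_cube hc (hA i hi).1.2
      exact ⟨c', fun _ => ⟨hc', hc3⟩⟩
    · exact ⟨1, fun h => absurd h hi⟩
  choose a ha using hex
  obtain ⟨q0, q1, q01, q2, q20, q3⟩ := sq_ok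
  obtain ⟨b0, h0⟩ := exists_of_chkReal S.code dual_ok (hB 0 (by norm_num))
  obtain ⟨b1, h1⟩ := exists_of_chkReal S.code dual_ok (hB 1 (by norm_num))
  obtain ⟨b2, h2⟩ := exists_of_chkReal S.code dual_ok (hB 2 (by norm_num))
  obtain ⟨b3', h3'⟩ := exists_of_chkReal S.code dual_ok (hB 3 (by norm_num))
  obtain ⟨b3, h3, h33⟩ := exists_cube h3' q3
  refine ⟨a, fun j => [b0, b1, b2, b3].getD j 1, fun i hi => (ha i hi).1, fun i hi => (ha i hi).2, fun j hj => ?_,
    ?_, ?_, ?_, ?_, ?_, h33⟩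
  · interval_cases j <;> assumption
  · simpa using Setting.sq_cert S q0 _ h0
  · simpa using Setting.sq_cert S q1 _ h1
  · simpa using Setting.sq_cert S q01 _ (h0.mul h1)
  · simpa using Setting.sq_cert S q2 _ h2
  · simpa using Setting.sq_cert S q20 _ (h2.mul h0)

theorem dig_lt (i n : ℕ) : dig i n < 3 := by
  rcases i with _ | _ | i <;> exact Nat.mod_lt _ (by norm_num)

variable {S : Setting z Q cd} {a b : ℕ → G}

namespace Tri

theorem comm_a (T : Tri S a b) {i j : ℕ} (hi : i < 3) (hj : j < 3) : Commute (a i) (a j) := by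
  have h := real_ok
  simp only [Bool.and_eq_true, List.all_eq_true, List.mem_range, beq_iff_eq] at h
  exact mul_inv_eq_iff_eq_mul.1
    (conj_eq (T.ha i hi) (T.ha j hj) (T.ha j hj) (T.a3 j hj) (T.a3 j hj) ((h.1 i hi).2 j hj))

theorem hat_el3 (T : Tri S a b) {n : ℕ} (hn : n < 27) : IsHat S.code (el3 a n) (hA n) := by
  have h := hA_eq
  simp only [List.all_eq_true, List.mem_range, beq_iff_eq] at h
  rw [h n hn]
  exact ((T.ha 0 (by norm_num)).pow _).mul (((T.ha 1 (by norm_num)).pow _).mul ((T.ha 2 (by norm_num)).pow _))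

theorem el3_cube (T : Tri S a b) (n : ℕ) : el3 a n ^ 3 = 1 := by
  have k : ∀ i, i < 3 → ∀ m : ℕ, (a i ^ m) ^ 3 = 1 := fun i hi m => by
    rw [← pow_mul, mul_comm, pow_mul, T.a3 i hi, one_pow]
  have h12 : Commute (a 1 ^ dig 1 n) (a 2 ^ dig 2 n) := (T.comm_a (by norm_num) (by norm_num)).pow_pow _ _
  have h0 : Commute (a 0 ^ dig 0 n) (a 1 ^ dig 1 n * a 2 ^ dig 2 n) :=
    ((T.comm_a (by norm_num) (by norm_num)).pow_pow _ _).mul_right ((T.comm_a (by norm_num) (by norm_num)).pow_pow _ _)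
  rw [el3, h0.mul_pow, h12.mul_pow, k 0 (by norm_num), k 1 (by norm_num), k 2 (by norm_num), one_mul, one_mul]

theorem el3_comm (T : Tri S a b) (n m : ℕ) : Commute (el3 a n) (el3 a m) := by
  have key : ∀ i, i < 3 → Commute (a i) (el3 a m) := fun i hi =>
    ((T.comm_a hi (by norm_num)).pow_right _).mul_right
      (((T.comm_a hi (by norm_num)).pow_right _).mul_right ((T.comm_a hi (by norm_num)).pow_right _))
  exact ((key 0 (by norm_num)).pow_left _).mul_left
    (((key 1 (by norm_num)).pow_left _).mul_left ((key 2 (by norm_num)).pow_left _))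

theorem el3_mul (T : Tri S a b) {n m : ℕ} (hn : n < 27) (hm : m < 27) :
    add n m < 27 ∧ el3 a n * el3 a m = el3 a (add n m) := by
  have h := add_ok
  simp only [List.all_eq_true, List.mem_range, Bool.and_eq_true, decide_eq_true_eq, beq_iff_eq] at h
  obtain ⟨hl, he⟩ := h n hn m hm
  refine ⟨hl, eq_of_hat (T.hat_el3 hl) (((T.hat_el3 hn).mul (T.hat_el3 hm)).ext_hat he) (T.el3_cube _) ?_⟩
  rw [(T.el3_comm n m).mul_pow, T.el3_cube, T.el3_cube, one_mul]

theorem el3_zero : el3 a 0 = (1 : G) := by simp [el3, dig]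

theorem el3_single {i : ℕ} (hi : i < 3) : el3 a ([1, 3, 9].getD i 0) = a i := by
  interval_cases i <;> simp [el3, dig]

theorem el3_hat_inj (T : Tri S a b) {n m : ℕ} (hn : n < 27) (hm : m < 27) (e : el3 a n = el3 a m) : n = m := by
  have h := (T.hat_el3 hn).ext_eq (e ▸ T.hat_el3 hm)
  have := (hA_ok.1).getElem_inj_iff (i := n) (j := m) (hi := by simpa using hn) (hj := by simpa using hm)
  simp only [List.getElem_map, List.getElem_range] at this
  exact this.1 h

theorem el3_zpow_inj (T : Tri S a b) {n m e e' : ℕ} (hn : n < 27) (hm : m < 27) (he : e ≤ 1) (he' : e' ≤ 1)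
    (h : el3 a n * z ^ e = el3 a m * z ^ e') : n = m ∧ e = e' := by
  have k1 : IsHat S.code (el3 a n * z ^ e) (hA n) := by
    interval_cases e
    · simpa using T.hat_el3 hn
    · simpa using (T.hat_el3 hn).mul_z
  have k2 : IsHat S.code (el3 a m * z ^ e') (hA m) := by
    interval_cases e'
    · simpa using T.hat_el3 hm
    · simpa using (T.hat_el3 hm).mul_z
  have := (hA_ok.1).getElem_inj_iff (i := n) (j := m) (hi := by simpa using hn) (hj := by simpa using hm)
  simp only [List.getElem_map, List.getElem_range] at this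
  obtain rfl := this.1 (k1.ext_eq (h ▸ k2))
  exact ⟨rfl, S.code.pow_inj he he' (mul_left_cancel h)⟩

/-- The group of the rotations. -/
def A0 (T : Tri S a b) : Subgroup G where
  carrier := {x | ∃ n < 27, el3 a n = x}
  one_mem' := ⟨0, by norm_num, el3_zero⟩
  mul_mem' := fun ⟨n, hn, e⟩ ⟨m, hm, e'⟩ => ⟨add n m, (T.el3_mul hn hm).1, by rw [← (T.el3_mul hn hm).2, e, e']⟩
  inv_mem' := fun {x} ⟨n, hn, e⟩ => by
    refine ⟨add n n, (T.el3_mul hn hn).1, ?_⟩
    rw [← (T.el3_mul hn hn).2, e, eq_inv_iff_mul_eq_one, mul_assoc, ← pow_three, ← e]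
    exact T.el3_cube n

theorem mem_A0 (T : Tri S a b) {x : G} : x ∈ T.A0 ↔ ∃ n < 27, el3 a n = x := Iff.rfl

theorem el3_mem (T : Tri S a b) {n : ℕ} (hn : n < 27) : el3 a n ∈ T.A0 := ⟨n, hn, rfl⟩

theorem a_mem (T : Tri S a b) {i : ℕ} (hi : i < 3) : a i ∈ T.A0 :=
  ⟨[1, 3, 9].getD i 0, by interval_cases i <;> norm_num, el3_single hi⟩

theorem card_A0 (T : Tri S a b) : Nat.card T.A0 = 27 := by
  have : Function.Bijective (fun n : Fin 27 => (⟨el3 a n, T.el3_mem n.2⟩ : T.A0)) :=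
    ⟨fun x y e => Fin.ext (T.el3_hat_inj x.2 y.2 (congrArg Subtype.val e)), fun ⟨w, n, hn, e⟩ =>
      ⟨⟨n, hn⟩, Subtype.ext e⟩⟩
  rw [← Nat.card_eq_of_bijective _ this, Nat.card_fin]

theorem z_comm_el3 (T : Tri S a b) {n : ℕ} (hn : n < 27) : el3 a n * z = z * el3 a n := (T.hat_el3 hn).comm

theorem A0_le (T : Tri S a b) : T.A0 ≤ Subgroup.centralizer ({z} : Set G) := fun x ⟨n, hn, e⟩ =>
  Subgroup.mem_centralizer_singleton_iff.2 (e ▸ T.z_comm_el3 hn)

theorem comm_A0 (T : Tri S a b) {x y : G} (hx : x ∈ T.A0) (hy : y ∈ T.A0) : x * y = y * x := by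
  obtain ⟨n, -, rfl⟩ := hx; obtain ⟨m, -, rfl⟩ := hy
  exact (T.el3_comm n m).eq

theorem commute_all (T : Tri S a b) {u : G} (h : ∀ i, i < 3 → Commute u (a i)) (n : ℕ) : Commute u (el3 a n) :=
  ((h 0 (by norm_num)).pow_right _).mul_right
    (((h 1 (by norm_num)).pow_right _).mul_right ((h 2 (by norm_num)).pow_right _))

theorem rot_single : ∀ i < 3, ∀ x < 2 ^ K6.n, rot ([1, 3, 9].getD i 0) x = wd K6 (aW i) x := by decide +kernel

theorem act_el3 (T : Tri S a b) {n x : ℕ} (hn : n < 27) (hx : x < 2 ^ K6.n) :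
    S.code.act (el3 a n) x = rot n x := by
  have h := hA_ok.2
  simp only [Bool.and_eq_true, List.all_eq_true, List.mem_range, beq_iff_eq, pts] at h
  rw [(T.hat_el3 hn).act_eq hx, h.1 n hn x hx]

theorem act_a (T : Tri S a b) {i x : ℕ} (hi : i < 3) (hx : x < 2 ^ K6.n) :
    S.code.act (a i) x = wd K6 (aW i) x := by
  rw [← el3_single (a := a) hi, T.act_el3 (by interval_cases i <;> norm_num) hx, rot_single i hi x hx]

/-- An element fixing the second and third rotation and fixing or inverting the first one. -/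
theorem plane_act (T : Tri S a b) {u : G} (hu : u * z = z * u) (h0 : u * a 0 * u⁻¹ = a 0 ∨ u * a 0 * u⁻¹ = a 0 * a 0)
    (h1 : u * a 1 * u⁻¹ = a 1) (h2 : u * a 2 * u⁻¹ = a 2) :
    ∃ n < 27, (∀ x < 2 ^ K6.n, S.code.act u x = rot n x) ∨
      ∃ v ∈ [5, 11, 14], (∀ x < 2 ^ K6.n, S.code.act u x = rot n (tr K6 v x)) := by
  have hp := planes_ok
  simp only [chkPlanes, chkPlane, Bool.and_eq_true, List.all_eq_true, Bool.or_eq_true, Bool.not_eq_true',
    List.contains_iff_mem, pts, List.mem_range, List.any_eq_true, beq_iff_eq] at hp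
  obtain ⟨⟨⟨⟨hP, hP'⟩, hP''⟩, hcov⟩, hall⟩ := hp
  set h := S.code
  set F := fun x => h.act u x
  have hz : ∀ i, i < 3 → a i * z = z * a i := fun i hi => (T.ha i hi).comm
  have hw : ∀ i, i < 3 → ∀ x < 2 ^ K6.n, wd K6 (aW i) x < 2 ^ K6.n := fun i hi x hx => by
    rw [← T.act_a hi hx]; exact h.act_lt (hz i hi) x
  have hFl : ∀ x, F x < 2 ^ K6.n := fun x => h.act_lt hu x
  have hc1 : ∀ x < 2 ^ K6.n, F (wd K6 (aW 1) x) = wd K6 (aW 1) (F x) := fun x hx => by
    show h.act u _ = wd K6 (aW 1) (h.act u x)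
    rw [← T.act_a (by norm_num) hx, ← h.act_mul hu (hz 1 (by norm_num)) hx, mul_inv_eq_iff_eq_mul.1 h1,
      h.act_mul (hz 1 (by norm_num)) hu hx, T.act_a (by norm_num) (hFl x)]
  have hc2 : ∀ x < 2 ^ K6.n, F (wd K6 (aW 2) x) = wd K6 (aW 2) (F x) := fun x hx => by
    show h.act u _ = wd K6 (aW 2) (h.act u x)
    rw [← T.act_a (by norm_num) hx, ← h.act_mul hu (hz 2 (by norm_num)) hx, mul_inv_eq_iff_eq_mul.1 h2,
      h.act_mul (hz 2 (by norm_num)) hu hx, T.act_a (by norm_num) (hFl x)]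
  have hc0 : (∀ x < 2 ^ K6.n, F (wd K6 (aW 0) x) = wd K6 (aW 0) (F x)) ∨
      ∀ x < 2 ^ K6.n, F (wd K6 (aW 0) x) = wd K6 (aW 0) (wd K6 (aW 0) (F x)) := by
    rcases h0 with e | e
    · refine Or.inl fun x hx => ?_
      show h.act u _ = wd K6 (aW 0) (h.act u x)
      rw [← T.act_a (by norm_num) hx, ← h.act_mul hu (hz 0 (by norm_num)) hx, mul_inv_eq_iff_eq_mul.1 e,
        h.act_mul (hz 0 (by norm_num)) hu hx, T.act_a (by norm_num) (hFl x)]
    · refine Or.inr fun x hx => ?_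
      show h.act u _ = wd K6 (aW 0) (wd K6 (aW 0) (h.act u x))
      rw [← T.act_a (by norm_num) hx, ← h.act_mul hu (hz 0 (by norm_num)) hx, mul_inv_eq_iff_eq_mul.1 e,
        h.act_mul (comm_mul (hz 0 (by norm_num)) (hz 0 (by norm_num))) hu hx,
        h.act_mul (hz 0 (by norm_num)) (hz 0 (by norm_num)) (hFl x), T.act_a (by norm_num) (hFl x),
        T.act_a (by norm_num) (hw 0 (by norm_num) _ (hFl x))]
  have hq : ∀ x < 2 ^ K6.n, K6.q (F x) = K6.q x := fun x hx => h.act_q hu hx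
  have b5 : 5 < 2 ^ K6.n := by decide
  have b7 : 7 < 2 ^ K6.n := by decide
  have b16 : 16 < 2 ^ K6.n := by decide
  have fx : ∀ i, i < 3 → (∀ x < 2 ^ K6.n, F (wd K6 (aW i) x) = wd K6 (aW i) (F x)) →
      ∀ x < 2 ^ K6.n, wd K6 (aW i) x = x → wd K6 (aW i) (F x) = F x := fun i _ hi x hx e => by rw [← hi x hx, e]
  have fx0 : ∀ x < 2 ^ K6.n, wd K6 (aW 0) x = x → wd K6 (aW 0) (F x) = F x := by
    intro x hx e
    rcases hc0 with k | k
    · exact fx 0 (by norm_num) k x hx e
    · have h3 : ∀ y < 2 ^ K6.n, wd K6 (aW 0) (wd K6 (aW 0) (wd K6 (aW 0) y)) = y := by decide +kernel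
      have := k x hx
      rw [e] at this
      conv_lhs => rw [this]
      exact h3 _ (hFl x)
  have g5 : F 5 ∈ [5, 11, 14] := ((hP _ (hFl 5)).resolve_left fun hn => by
    simp [hq 5 b5, fx 1 (by norm_num) hc1 5 b5 (by decide +kernel), fx 2 (by norm_num) hc2 5 b5 (by decide +kernel),
      show K6.q 5 = true by decide +kernel] at hn)
  have g7 : F 7 ∈ [7, 10, 13] := ((hP' _ (hFl 7)).resolve_left fun hn => by
    simp [hq 7 b7, fx0 7 b7 (by decide +kernel), fx 2 (by norm_num) hc2 7 b7 (by decide +kernel),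
      show K6.q 7 = true by decide +kernel] at hn)
  have g16 : F 16 ∈ [16, 32, 48] := ((hP'' _ (hFl 16)).resolve_left fun hn => by
    simp [hq 16 b16, fx0 16 b16 (by decide +kernel), fx 1 (by norm_num) hc1 16 b16 (by decide +kernel),
      show K6.q 16 = true by decide +kernel] at hn)
  obtain ⟨hplus, hminus⟩ := hall _ g5 _ g7 _ g16
  have e10 : F 10 = wd K6 (aW 1) (F 7) := by rw [← hc1 7 b7]; exact congrArg F (by decide +kernel)
  have e32 : F 32 = wd K6 (aW 2) (F 16) := by rw [← hc2 16 b16]; exact congrArg F (by decide +kernel)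
  have mm : ∀ w : ℕ, F 11 = w → tab K6 F ∈ maps K6
      [(5, [F 5]), (11, [w]), (7, [F 7]), (10, [wd K6 (aW 1) (F 7)]), (16, [F 16]), (32, [wd K6 (aW 2) (F 16)])] := by
    intro w hw'
    refine mem_maps K6 _ F (fun x y hx hy => h.act_xor hu hx hy) hq (by simpa using hcov) ?_ ?_
    · intro p hp
      simp only [List.mem_cons, List.not_mem_nil, or_false] at hp
      rcases hp with rfl | rfl | rfl | rfl | rfl | rfl <;> exact show _ < 2 ^ K6.n by simp [K6_n]
    · intro p hp
      simp only [List.mem_cons, List.not_mem_nil, or_false] at hp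
      rcases hp with rfl | rfl | rfl | rfl | rfl | rfl <;> simp [hw', e10, e32]
  rcases hc0 with k | k
  · have e11 : F 11 = wd K6 (aW 0) (F 5) := by rw [← k 5 b5]; exact congrArg F (by decide +kernel)
    obtain ⟨n, hn, e⟩ := hplus _ (mm _ e11)
    exact ⟨n, hn, Or.inl ((tab_eq_iff K6).1 e)⟩
  · have e11 : F 11 = wd K6 (aW 0) (wd K6 (aW 0) (F 5)) := by rw [← k 5 b5]; exact congrArg F (by decide +kernel)
    obtain ⟨n, hn, v, hv, e⟩ := hminus _ (mm _ e11)
    exact ⟨n, hn, Or.inr ⟨v, hv, (tab_eq_iff K6).1 e⟩⟩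

/-- No element of the centralizer acts as a reflection of a plane. -/
theorem no_refl (S : Setting z Q cd) {u : G} (hu : u * z = z * u) {v : ℕ} (hv : v ∈ [5, 11, 14])
    (ha : ∀ x < 2 ^ K6.n, S.code.act u x = tr K6 v x) : False := by
  have h := word_ok
  obtain ⟨w, hw⟩ : ∃ w, (v, w) ∈ [(5, [33, 5]), (11, [47, 7]), (14, [47, 5])] := by
    simp only [List.mem_cons, List.not_mem_nil, or_false] at hv
    rcases hv with rfl | rfl | rfl
    · exact ⟨[33, 5], by simp⟩
    · exact ⟨[47, 7], by simp⟩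
    · exact ⟨[47, 5], by simp⟩
  simp only [List.all_eq_true, Bool.and_eq_true, pts, List.mem_range, beq_iff_eq] at h
  obtain ⟨hok, hconj⟩ := h _ hw
  obtain ⟨c, hc, hca⟩ := S.code.exists_lift hok
  refine Setting.no_tr S (comm_mul (comm_mul hc hu) (comm_inv hc)) fun x hx => ?_
  have hl := S.code.act_lt (comm_inv hc) x
  rw [S.code.act_mul (comm_mul hc hu) (comm_inv hc) hx, S.code.act_mul hc hu hl, ha _ hl, ← hconj x hx,
    ← act_inv_word S.code hok hc hca hx, hca]
  rw [← ha _ hl]; exact S.code.act_lt hu _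

/-- An element fixing or inverting the first rotation and fixing the others fixes all of them. -/
theorem plane_cent (T : Tri S a b) {u : G} (hu : u * z = z * u)
    (h0 : u * a 0 * u⁻¹ = a 0 ∨ u * a 0 * u⁻¹ = a 0 * a 0) (h1 : u * a 1 * u⁻¹ = a 1) (h2 : u * a 2 * u⁻¹ = a 2) :
    u * a 0 * u⁻¹ = a 0 ∧ ∃ n < 27, ∃ e ≤ 1, u = el3 a n * z ^ e := by
  obtain ⟨n, hn, hcase⟩ := T.plane_act hu h0 h1 h2
  set w := (el3 a n)⁻¹ * u with hw
  have hnz : el3 a n * z = z * el3 a n := T.z_comm_el3 hn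
  have hwz : w * z = z * w := comm_mul (comm_inv hnz) hu
  have hinv : ∀ y < 2 ^ K6.n, S.code.act (el3 a n)⁻¹ (rot n y) = y := fun y hy => by
    rw [← T.act_el3 hn hy, S.code.act_inv_left hnz hy]
  rcases hcase with hp | ⟨v, hv, hp⟩
  swap
  · exact (no_refl S hwz hv fun x hx => by
      rw [S.code.act_mul (comm_inv hnz) hu hx, hp x hx, hinv]
      simp only [List.mem_cons, List.not_mem_nil, or_false] at hv
      rcases hv with rfl | rfl | rfl <;> revert hx x <;> decide +kernel).elim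
  have hwQ : w ∈ Q := (S.code.mem_iff hwz).2 fun x hx => by
    rw [S.code.act_mul (comm_inv hnz) hu hx, hp x hx, hinv x hx]
  obtain ⟨x, hx, hxe⟩ := exists_el S.code hwQ
  -- `w` normalises each cyclic group, and lies in a normal two-group
  have hfix : ∀ i, i < 3 → w * a i * w⁻¹ = a i ∨ w * a i * w⁻¹ = a i * a i := fun i hi => by
    have e : w * a i * w⁻¹ = (el3 a n)⁻¹ * (u * a i * u⁻¹) * el3 a n := by rw [hw]; group
    have hc : ∀ j : ℕ, (el3 a n)⁻¹ * a i ^ j * el3 a n = a i ^ j := fun j => by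
      have : Commute (el3 a n) (a i) := (T.commute_all (fun k hk => T.comm_a hi hk) n).symm
      rw [mul_assoc, ← (this.pow_right j).eq, inv_mul_cancel_left]
    have hk : u * a i * u⁻¹ = a i ^ 1 ∨ u * a i * u⁻¹ = a i ^ 2 := by
      rw [pow_one, pow_two]
      interval_cases i
      · exact h0
      · exact Or.inl h1
      · exact Or.inl h2
    rcases hk with k | k
    · exact Or.inl (by rw [e, k, hc, pow_one])
    · exact Or.inr (by rw [e, k, hc, pow_two])
  have hcomm : ∀ i, i < 3 → ap K6 (aH i) x = x := fun i hi => by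
    have k : a i * w * (a i)⁻¹ = el S.code (ap K6 (aH i) x) := by rw [← hxe, (T.ha i hi).app]
    have hq : w * a i * w⁻¹ * (a i)⁻¹ ∈ Q := by
      rw [show w * a i * w⁻¹ * (a i)⁻¹ = w * (a i * w⁻¹ * (a i)⁻¹) by group]
      exact mul_mem hwQ (S.code.ext.norm _ (T.ha i hi).comm _ (inv_mem hwQ))
    rcases hfix i hi with e | e
    · refine el_inj S.code ((T.ha i hi).app_lt x) hx ?_
      rw [← k, hxe, mul_inv_eq_iff_eq_mul]
      exact (mul_inv_eq_iff_eq_mul.1 e).symm
    · exfalso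
      rw [e, mul_inv_cancel_right] at hq
      have h2p : ∃ j, a i ^ 2 ^ j = 1 := by
        obtain ⟨j, hj⟩ := S.code.two ⟨a i, hq⟩
        exact ⟨j, congrArg Subtype.val hj⟩
      obtain ⟨j, hj⟩ := h2p
      have h1' : a i = 1 := orderOf_eq_one_iff.1 (Nat.eq_one_of_dvd_coprimes
        (Nat.Coprime.pow_left j (by norm_num : Nat.Coprime 2 3)) (orderOf_dvd_of_pow_eq_one hj)
        (orderOf_dvd_of_pow_eq_one (T.a3 i hi)))
      have h1n : el3 a ([1, 3, 9].getD i 0) = el3 a 0 := by rw [el3_single hi, el3_zero, h1']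
      have := T.el3_hat_inj (by interval_cases i <;> norm_num) (by norm_num) h1n
      interval_cases i <;> simp at this
  have hx2 : x < 2 := by
    have hf := fix_Q
    simp only [List.all_eq_true, List.mem_range, Bool.or_eq_true, decide_eq_true_eq, Bool.not_eq_true'] at hf
    rcases hf x hx with k | k
    · exact k
    · rw [List.all_eq_false] at k
      obtain ⟨i, hi, hne⟩ := k
      rw [List.mem_range] at hi
      simp [hcomm i hi] at hne
  have hwe : w = z ^ x := by
    rw [← hxe]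
    interval_cases x <;> simp [el_zero, el_one]
  have hu' : u = el3 a n * z ^ x := by rw [← hwe, hw, mul_inv_cancel_left]
  refine ⟨?_, n, hn, x, by omega, hu'⟩
  rw [hu', mul_inv_eq_iff_eq_mul]
  exact (((T.commute_all (fun k hk => T.comm_a (by norm_num : 0 < 3) hk) n).symm.mul_left
    ((show Commute z (a 0) from (T.ha 0 (by norm_num)).comm.symm).pow_left x))).eq

end Tri

end Cfsg.Agent.Invol.Suz.Loc.Three
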