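import Cfsg.Agent.Lib.Invol.Suz.Loc.ThreeData

/-!
# Checks on the three-group of maximal rank
-/

set_option autoImplicit false
set_option maxRecDepth 20000

namespace Cfsg.Agent.Invol.Suz.Loc.Three

open Cfsg.Agent.Classical.BinCoc Cfsg.Agent.Invol.Big Cfsg.Agent.Invol.Suz.Loc

theorem real_ok : ((List.range 3).all (fun i => chkReal K6 (aW i) (aH i) &&
      (cmp K6 (aH i) (cmp K6 (aH i) (aH i)) == idH K6) &&
      (List.range 3).all fun j => cmp K6 (aH i) (aH j) == cmp K6 (aH j) (aH i)) &&
    (List.range 4).all fun j => chkReal K6 (bW j) (bH j)) = true := by decide +kernel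

theorem sq_ok : chkSq (bH 0) 1 (2, [11, 63, 49, 50, 17, 49], 55) = true ∧
    chkSq (bH 1) 1 (2, [25, 31, 41, 51, 17, 49], 14) = true ∧
    chkSq (cmp K6 (bH 0) (bH 1)) 1 (2, [49, 50, 5, 28, 17, 49], 13) = true ∧
    chkSq (bH 2) 0 (1, [11, 63, 50, 57], 3) = true ∧
    chkSq (cmp K6 (bH 2) (bH 0)) 0 (1, [34, 49], 0) = true ∧
    cmp K6 (bH 3) (cmp K6 (bH 3) (bH 3)) = idH K6 := by decide +kernel

theorem add_ok : ((List.range 27).all fun n => (List.range 27).all fun m =>
    decide (add n m < 27) && cmp K6 (hA n) (hA m) == hA (add n m)) = true := by decide +kernel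

theorem hA_ok : ((List.range 27).map hA).Nodup ∧ (((List.range 27).all fun n =>
    (pts K6).all fun a => ap K6 (hA n) (2 * a) / 2 == rot n a) &&
    (List.range 3).all fun i => hA ([1, 3, 9].getD i 0) == aH i) = true := by decide +kernel

theorem hA_eq : ((List.range 27).all fun n =>
    hA n == cmp K6 (pwH (aH 0) (dig 0 n)) (cmp K6 (pwH (aH 1) (dig 1 n)) (pwH (aH 2) (dig 2 n)))) = true := by decide +kernel

theorem rH_eq : ((List.range 24).all fun k => rH k == cmp K6 (sH (k / 6)) (pH (k % 6))) = true := by decide +kernel

theorem img_ok : ((List.range 24).all fun k => (List.range 27).all fun n =>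
    decide (img k n < 27) && cmp K6 (rH k) (hA n) == cmp K6 (hA (img k n)) (rH k)) = true := by decide +kernel

theorem six_ok : ((List.range 27).all fun n =>
    (((pts K6).filter fun a => rot n a == a).length == 16) == ((List.range 6).map six).contains n) = true := by
  decide +kernel

theorem prm_ok : (((List.range 24).all fun k => (List.range 6).all fun s =>
    decide (prm k s < 6) && img k (six s) == six (prm k s)) &&
    ((List.range 6).all fun x => (List.range 6).all fun y => (List.range 6).all fun w =>
      (x / 2 == y / 2) || (x / 2 == w / 2) || (y / 2 == w / 2) ||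
      (List.range 24).any fun k => (prm k 0 == x || prm k 1 == x) && prm k 2 == y && prm k 4 == w)) = true := by
  decide +kernel

theorem prm_nodup : ((List.range 24).map fun k => (List.range 6).map (prm k)).Nodup := by decide +kernel

theorem prm_comp : ((List.range 24).all fun k => (List.range 24).all fun k' => (List.range 24).any fun m =>
    (List.range 6).all fun s => prm k (prm k' s) == prm m s) = true := by decide +kernel

theorem fix_ok : ((List.range 24).all fun k =>
    !(!(k == 0) && (List.range 6).all fun s => prm k (prm k (prm k s)) == s) ||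
      ((List.range 27).filter fun n => img k n == n).length == 3) = true := by decide +kernel

/-- Enough points to see the image of an element of order three. -/
def imPts : List ℕ := [31, 33, 23, 50, 39, 57]

theorem im_ok : ((List.range 24).all fun k =>
    !((List.range 6).all fun s => prm k (prm k (prm k s)) == s) || (List.range 27).all fun n =>
      (k == 0 && ((List.range 6).map six).contains n) || (k == 0 && n == 0) ||
      decide (4 < (imPts.map fun a => a ^^^ ap K6 (rH k) (ap K6 (hA n) (2 * a)) / 2).dedup.length)) = true := by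
  decide +kernel

/-- The image of `5` under an isometry permuting the planes. -/
def chkPlane : Bool :=
  (pts K6).all fun a => !(K6.q a && wd K6 (aW 1) a == a && wd K6 (aW 2) a == a) || [5, 11, 14].contains a

/-- The planes and the products of rotations. -/
def chkPlanes : Bool :=
  chkPlane &&
  ((pts K6).all fun a => !(K6.q a && wd K6 (aW 0) a == a && wd K6 (aW 2) a == a) || [7, 10, 13].contains a) &&
  ((pts K6).all fun a => !(K6.q a && wd K6 (aW 0) a == a && wd K6 (aW 1) a == a) || [16, 32, 48].contains a) &&
  covers K6 [5, 11, 7, 10, 16, 32] &&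
  [5, 11, 14].all fun a => [7, 10, 13].all fun b => [16, 32, 48].all fun c =>
    ((maps K6 [(5, [a]), (11, [wd K6 (aW 0) a]), (7, [b]), (10, [wd K6 (aW 1) b]), (16, [c]), (32, [wd K6 (aW 2) c])]).all
      fun T => (List.range 27).any fun n => T == tab K6 (rot n)) &&
    (maps K6 [(5, [a]), (11, [wd K6 (aW 0) (wd K6 (aW 0) a)]), (7, [b]), (10, [wd K6 (aW 1) b]), (16, [c]), (32, [wd K6 (aW 2) c])]).all
      fun T => (List.range 27).any fun n => [5, 11, 14].any fun v => T == tab K6 fun x => rot n (tr K6 v x)

theorem planes_ok : chkPlanes = true := by decide +kernel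

theorem word_ok : ([(5, [33, 5]), (11, [47, 7]), (14, [47, 5])].all fun p : ℕ × List ℕ => Wok K6 p.2 &&
    (pts K6).all fun a => wd K6 p.2 (tr K6 p.1 (wd K6 p.2.reverse a)) == tr K6 36 a) = true := by decide +kernel

theorem fix_Q : ((List.range 128).all fun x => (x < 2 : Bool) ||
    !((List.range 3).all fun i => ap K6 (aH i) x == x)) = true := by decide +kernel

end Cfsg.Agent.Invol.Suz.Loc.Three
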