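import Cfsg.Agent.Lib.Invol.Suz.Loc.Lifts
import Cfsg.Agent.Lib.Invol.Suz.Loc.OrderChecks

/-!
# Data for a three-group of maximal rank in the centralizer
-/

set_option autoImplicit false
set_option maxRecDepth 20000

namespace Cfsg.Agent.Invol.Suz.Loc.Three

open Cfsg.Agent.Classical.BinCoc Cfsg.Agent.Invol.Big Cfsg.Agent.Invol.Suz.Loc

/-- The words of the three rotations. -/
def aW : ℕ → List ℕ
  | 0 => [5, 11]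
  | 1 => [7, 10]
  | _ => [16, 32]

/-- The three rotations. -/
def aH : ℕ → List ℕ
  | 0 => [8, 24, 31, 13, 32, 64]
  | 1 => [13, 31, 6, 4, 32, 64]
  | _ => [2, 4, 8, 16, 64, 96]

/-- The words of the normalising elements. -/
def bW : ℕ → List ℕ
  | 0 => [5, 7]
  | 1 => [7, 16]
  | 2 => [49, 50, 5, 28, 41, 51, 25, 31]
  | _ => [52, 60, 34, 40, 25, 31, 17, 49, 50, 57]

/-- The normalising elements: two sign changes, a transposition and a cycle. -/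
def bH : ℕ → List ℕ
  | 0 => [6, 4, 13, 31, 32, 64]
  | 1 => [12, 5, 7, 30, 33, 97]
  | 2 => [2, 4, 13, 19, 32, 64]
  | _ => [84, 46, 90, 110, 11, 23]

/-- The exponent of a factor. -/
def dig : ℕ → ℕ → ℕ
  | 0, n => n % 3
  | 1, n => n / 3 % 3
  | _, n => n / 9 % 3

/-- The products of the rotations. -/
def hT : List (List ℕ) := [[2, 4, 8, 16, 32, 64], [8, 24, 31, 13, 32, 64], [31, 19, 2, 6, 32, 64], [13, 31, 6, 4, 32, 64], [6, 2, 16, 24, 32, 64], [16, 8, 13, 19, 32, 64], [24, 16, 19, 31, 32, 64], [19, 13, 4, 2, 32, 64], [4, 6, 24, 8, 32, 64], [2, 4, 8, 16, 64, 96], [8, 24, 31, 13, 64, 96], [31, 19, 2, 6, 64, 96], [13, 31, 6, 4, 64, 96], [6, 2, 16, 24, 64, 96], [16, 8, 13, 19, 64, 96], [24, 16, 19, 31, 64, 96], [19, 13, 4, 2, 64, 96], [4, 6, 24, 8, 64, 96], [2, 4, 8, 16, 96, 32], [8, 24, 31, 13, 96, 32], [31, 19, 2, 6,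 96, 32], [13, 31, 6, 4, 96, 32], [6, 2, 16, 24, 96, 32], [16, 8, 13, 19, 96, 32], [24, 16, 19, 31, 96, 32], [19, 13, 4, 2, 96, 32], [4, 6, 24, 8, 96, 32]]

/-- A product of the rotations. -/
def hA (n : ℕ) : List ℕ := hT.getD n []

/-- The action of a product of rotations on codes. -/
def rot (n a : ℕ) : ℕ :=
  wd K6 ((List.replicate (dig 0 n) (aW 0)).flatten ++ ((List.replicate (dig 1 n) (aW 1)).flatten ++
    (List.replicate (dig 2 n) (aW 2)).flatten)) a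

/-- The sum of exponents. -/
def add (n m : ℕ) : ℕ :=
  (dig 0 n + dig 0 m) % 3 + 3 * ((dig 1 n + dig 1 m) % 3) + 9 * ((dig 2 n + dig 2 m) % 3)

/-- The six elements of weight one. -/
def six (s : ℕ) : ℕ := [1, 2, 3, 6, 9, 18].getD s 0

/-- The sign changes. -/
def sH : ℕ → List ℕ
  | 0 => idH K6
  | 1 => bH 0
  | 2 => bH 1
  | _ => cmp K6 (bH 0) (bH 1)

/-- The permutations. -/
def pH : ℕ → List ℕ
  | 0 => idH K6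
  | 1 => bH 3
  | 2 => cmp K6 (bH 3) (bH 3)
  | 3 => bH 2
  | 4 => cmp K6 (bH 2) (bH 3)
  | _ => cmp K6 (bH 2) (cmp K6 (bH 3) (bH 3))

/-- The representatives of the monomial group. -/
def rT : List (List ℕ) := [[2, 4, 8, 16, 32, 64], [84, 46, 90, 110, 11, 23], [87, 43, 119, 61, 14, 20], [2, 4, 13, 19, 32, 64], [87, 43, 93, 107, 14, 20], [84, 46, 116, 58, 11, 23], [6, 4, 13, 31, 32, 64], [91, 47, 85, 111, 10, 28], [92, 42, 124, 54, 15, 27], [6, 4, 8, 24, 32, 64], [92, 42, 86, 106, 15, 27], [91, 47, 123, 53, 10, 28], [12, 5, 7, 30, 33, 97], [122, 46, 116, 78, 11, 23], [118, 42, 86, 60, 15, 27], [12, 5, 3, 18, 33, 97], [118, 42, 124, 74, 15, 27], [122, 46, 90, 52, 11, 23], [9, 5, 3, 17, 33, 97], [117, 47, 123, 79, 10, 28], [125, 43, 93, 55, 14, 20], [9, 5, 7, 25, 33, 97], [125, 43, 119, 75, 14, 20], [117, 47, 85, 59, 10, 28]]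

/-- A representative of the monomial group. -/
def rH (k : ℕ) : List ℕ := rT.getD k []

/-- Their images of the six elements. -/
def prmT : List (List ℕ) := [[0, 1, 2, 3, 4, 5], [2, 3, 4, 5, 0, 1], [4, 5, 0, 1, 2, 3], [2, 3, 0, 1, 4, 5], [0, 1, 4, 5, 2, 3], [4, 5, 2, 3, 0, 1], [1, 0, 3, 2, 4, 5], [3, 2, 4, 5, 1, 0], [4, 5, 1, 0, 3, 2], [3, 2, 1, 0, 4, 5], [1, 0, 4, 5, 3, 2], [4, 5, 3, 2, 1, 0], [0, 1, 3, 2, 5, 4], [3, 2, 5, 4, 0, 1], [5, 4, 0, 1, 3, 2], [3, 2, 0, 1, 5, 4], [0, 1, 5, 4, 3, 2], [5, 4, 3, 2, 0, 1], [1, 0, 2, 3, 5, 4], [2, 3, 5, 4, 1, 0], [5, 4, 1, 0, 2, 3], [2, 3, 1, 0, 5, 4], [1, 0, 5, 4, 2, 3], [5, 4, 2, 3, 1, 0]]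

/-- The image of one of the six. -/
def prm (k s : ℕ) : ℕ := (prmT.getD k []).getD s 0

/-- Their action on the exponents. -/
def imgT : List (List ℕ) := [[0, 1, 2, 3, 4, 5, 6, 7, 8, 9, 10, 11, 12, 13, 14, 15, 16, 17, 18, 19, 20, 21, 22, 23, 24, 25, 26], [0, 3, 6, 9, 12, 15, 18, 21, 24, 1, 4, 7, 10, 13, 16, 19, 22, 25, 2, 5, 8, 11, 14, 17, 20, 23, 26], [0, 9, 18, 1, 10, 19, 2, 11, 20, 3, 12, 21, 4, 13, 22, 5, 14, 23, 6, 15, 24, 7, 16, 25, 8, 17, 26], [0, 3, 6, 1, 4, 7, 2, 5, 8, 9, 12, 15, 10, 13, 16, 11, 14, 17, 18, 21, 24, 19, 22, 25, 20, 23, 26], [0, 1, 2, 9, 10, 11, 18, 19, 20, 3, 4, 5, 12, 13, 14, 21, 22, 23, 6, 7, 8, 15, 16, 17, 24, 25, 26], [0, 9, 18, 3, 12, 21, 6, 15, 24, 1, 10, 19, 4, 13, 22, 7, 16, 25, 2, 11, 20, 5, 14, 23, 8, 17, 26], [0, 2, 1, 6, 8, 7, 3, 5, 4, 9, 11, 10, 15, 17, 16, 12, 14, 13, 18, 20, 19, 24,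 26, 25, 21, 23, 22], [0, 6, 3, 9, 15, 12, 18, 24, 21, 2, 8, 5, 11, 17, 14, 20, 26, 23, 1, 7, 4, 10, 16, 13, 19, 25, 22], [0, 9, 18, 2, 11, 20, 1, 10, 19, 6, 15, 24, 8, 17, 26, 7, 16, 25, 3, 12, 21, 5, 14, 23, 4, 13, 22], [0, 6, 3, 2, 8, 5, 1, 7, 4, 9, 15, 12, 11, 17, 14, 10, 16, 13, 18, 24, 21, 20, 26, 23, 19, 25, 22], [0, 2, 1, 9, 11, 10, 18, 20, 19, 6, 8, 7, 15, 17, 16, 24, 26, 25, 3, 5, 4, 12, 14, 13, 21, 23, 22], [0, 9, 18, 6, 15, 24, 3, 12, 21, 2, 11, 20, 8, 17, 26, 5, 14, 23, 1, 10, 19, 7, 16, 25, 4, 13, 22], [0, 1, 2, 6, 7, 8, 3, 4, 5, 18, 19, 20, 24, 25, 26, 21, 22, 23, 9, 10, 11, 15, 16, 17, 12, 13, 14], [0, 6, 3, 18, 24, 21, 9, 15, 12, 1, 7, 4, 19, 25, 22, 10, 16, 13, 2, 8, 5, 20, 26, 23, 11, 17, 14], [0, 18, 9, 1, 19, 10, 2, 20, 11, 6, 24, 15, 7, 25, 16, 8, 26, 17, 3, 21, 12, 4, 22, 13, 5, 23, 14], [0, 6, 3, 1,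 7, 4, 2, 8, 5, 18, 24, 21, 19, 25, 22, 20, 26, 23, 9, 15, 12, 10, 16, 13, 11, 17, 14], [0, 1, 2, 18, 19, 20, 9, 10, 11, 6, 7, 8, 24, 25, 26, 15, 16, 17, 3, 4, 5, 21, 22, 23, 12, 13, 14], [0, 18, 9, 6, 24, 15, 3, 21, 12, 1, 19, 10, 7, 25, 16, 4, 22, 13, 2, 20, 11, 8, 26, 17, 5, 23, 14], [0, 2, 1, 3, 5, 4, 6, 8, 7, 18, 20, 19, 21, 23, 22, 24, 26, 25, 9, 11, 10, 12, 14, 13, 15, 17, 16], [0, 3, 6, 18, 21, 24, 9, 12, 15, 2, 5, 8, 20, 23, 26, 11, 14, 17, 1, 4, 7, 19, 22, 25, 10, 13, 16], [0, 18, 9, 2, 20, 11, 1, 19, 10, 3, 21, 12, 5, 23, 14, 4, 22, 13, 6, 24, 15, 8, 26, 17, 7, 25, 16], [0, 3, 6, 2, 5, 8, 1, 4, 7, 18, 21, 24, 20, 23, 26, 19, 22, 25, 9, 12, 15, 11, 14, 17, 10, 13, 16], [0, 2, 1, 18, 20, 19, 9, 11, 10, 3, 5, 4, 21, 23, 22, 12, 14, 13, 6, 8, 7, 24, 26, 25, 15, 17, 16], [0, 18, 9, 3, 21, 12, 6, 24, 15, 2, 20, 11, 5,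 23, 14, 8, 26, 17, 1, 19, 10, 4, 22, 13, 7, 25, 16]]

/-- The image of a product. -/
def img (k n : ℕ) : ℕ := (imgT.getD k []).getD n 0

end Cfsg.Agent.Invol.Suz.Loc.Three
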