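import Cfsg.Agent.Lib.Invol.Suz.Loc.ThreeW
import Cfsg.Agent.S2916
import Cfsg.Agent.Lib.Invol.GLTwoThreeCount

/-!
# The quotient of the normalizer is the Mathieu group of degree eleven
-/

set_option autoImplicit false
set_option linter.unusedSectionVars false
set_option linter.style.haveILetI false

namespace Cfsg.Agent.Invol.Suz.Loc.Three

open Cfsg Cfsg.Agent.Classical.BinCoc Cfsg.Agent.Invol.Big Cfsg.Agent.Invol.Big.Code Cfsg.Agent.Invol.Suz.Loc
open Cfsg.Agent.Invol.GL23 (toV toV_mul toV_one toV_injective toV_surj)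

section Q23

open Cfsg.Agent.Invol.GL23

theorem gen_neg_table : mv (mv (1, 1, 0, 1) (1, 0, 2, 1)) (mv (mv (1, 1, 0, 1) (1, 0, 2, 1)) (mv (1, 1, 0, 1) (1, 0, 2, 1))) = nv ∧
    mv (1, 1, 0, 1) (mv (1, 1, 0, 1) (1, 1, 0, 1)) = ov ∧ mv (1, 0, 2, 1) (mv (1, 0, 2, 1) (1, 0, 2, 1)) = ov := by
  decide +kernel

theorem neg_mem {M : Subgroup GL23.Q} (h3 : ∀ g : GL23.Q, g ^ 3 = 1 → g ∈ M) : neg ∈ M := by
  obtain ⟨e1, e2, e3⟩ := gen_neg_table
  obtain ⟨u, hu⟩ := toV_surj (v := (1, 1, 0, 1)) (by decide)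
  obtain ⟨v, hv⟩ := toV_surj (v := (1, 0, 2, 1)) (by decide)
  have hu3 : u ∈ M := h3 u (toV_injective (by rw [pow_three, toV_mul, toV_mul, toV_one, hu]; exact e2))
  have hv3 : v ∈ M := h3 v (toV_injective (by rw [pow_three, toV_mul, toV_mul, toV_one, hv]; exact e3))
  have : neg = u * v * (u * v * (u * v)) :=
    toV_injective (by simp only [toV_neg, toV_mul, hu, hv]; exact e1.symm)
  rw [this]
  exact mul_mem (mul_mem hu3 hv3) (mul_mem (mul_mem hu3 hv3) (mul_mem hu3 hv3))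

/-- Products of a three-element and involutions cover the group. -/
theorem cover_table : ∀ w ∈ units, ∃ x ∈ units, (mv x (mv x x) = ov ∨ mv x x = ov) ∧
    ∃ y ∈ units, (mv y (mv y y) = ov ∨ mv y y = ov) ∧ ∃ u ∈ units, (mv u (mv u u) = ov ∨ mv u u = ov) ∧
      mv x (mv y u) = w := by
  decide +kernel

theorem all_mem {M : Subgroup GL23.Q} (h3 : ∀ g : GL23.Q, g ^ 3 = 1 → g ∈ M)
    (h2 : ∀ g : GL23.Q, g * g = 1 → g ∈ M) (g : GL23.Q) : g ∈ M := by
  obtain ⟨x, hx, hx', y, hy, hy', u, hu, hu', e⟩ := cover_table _ (mem_units g)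
  have key : ∀ x ∈ units, (mv x (mv x x) = ov ∨ mv x x = ov) → ∃ k ∈ M, toV k = x := by
    intro x hx h
    obtain ⟨k, rfl⟩ := toV_surj (Finset.mem_filter.1 hx).2
    rcases h with h | h
    · exact ⟨k, h3 k (toV_injective (by rw [pow_three, toV_mul, toV_mul, toV_one]; exact h)), rfl⟩
    · exact ⟨k, h2 k (toV_injective (by rw [toV_mul, toV_one]; exact h)), rfl⟩
  obtain ⟨kx, hkx, ex⟩ := key x hx hx'
  obtain ⟨ky, hky, ey⟩ := key y hy hy'
  obtain ⟨ku, hku, eu⟩ := key u hu hu'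
  rw [toV_injective (a₁ := g) (a₂ := kx * (ky * ku)) (by rw [toV_mul, toV_mul, ex, ey, eu, e])]
  exact mul_mem hkx (mul_mem hky hku)

end Q23

variable {G : Type*} [Group G] [Finite G] {z : G} {Q : Subgroup G} {cd : G → ℕ}
variable {S : Setting z Q cd} {g : ℕ → G} {a b : ℕ → G}

theorem img3_fix : ((List.range 27).filter fun n => img 3 n == n).length = 9 ∧ prm 3 0 = 2 := by decide +kernel

namespace Tri.OGrp

variable {T : Tri S a b} {O : Subgroup G}

theorem b20 (T : Tri S a b) : b 2 * b 0 = b 0 * z * b 2 := by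
  have e0 : (b 0)⁻¹ = b 0 * z := inv_eq_of_mul_eq_one_right (by rw [← mul_assoc, T.sq0, S.code.ext.zz])
  have e2 : (b 2)⁻¹ = b 2 := inv_eq_of_mul_eq_one_right T.sq2
  calc b 2 * b 0 = (b 2 * b 0 * (b 2 * b 0)) * ((b 0)⁻¹ * (b 2)⁻¹) := by group
    _ = _ := by rw [T.sq20, one_mul, e0, e2]

/-- The transposition is conjugate to `z` in the normalizer. -/
theorem tau_fused (H : OGrp T O) (M : Mdl S g) :
    ∃ k ∈ Subgroup.normalizer (O : Set G), k * b 2 * k⁻¹ = z := by
  classical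
  haveI : Fact (Nat.Prime 3) := ⟨Nat.prime_three⟩
  haveI : Fact (Nat.Prime 2) := ⟨Nat.prime_two⟩
  obtain ⟨i, hi, hiz, hi1, -, -⟩ := H.exists_basis M
  have hτ := T.b_mem_N (show 2 < 4 by norm_num)
  have hτi : (b 2)⁻¹ = b 2 := inv_eq_of_mul_eq_one_right T.sq2
  -- a fixed inverted element
  obtain ⟨u, hu, huz, hu1, huf⟩ : ∃ u ∈ O, z * u * z = u⁻¹ ∧ u ≠ 1 ∧ b 2 * u * (b 2)⁻¹ = u := by
    set i' := b 2 * i * (b 2)⁻¹ with hi'
    have hi'O : i' ∈ O := H.conj hτ.2 hi
    have hback : b 2 * i' * (b 2)⁻¹ = i := by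
      rw [hi', hτi]
      calc b 2 * (b 2 * i * b 2) * b 2 = (b 2 * b 2) * i * (b 2 * b 2) := by group
        _ = i := by rw [T.sq2]; group
    by_cases h : i * i' = 1
    · refine ⟨b 0 * i * (b 0)⁻¹, H.b0_mem hi, H.b0_inv hiz, fun e => hi1 (conj_eq_one_iff.1 e), ?_⟩
      have e' : i' = i⁻¹ := eq_inv_of_mul_eq_one_right h
      calc b 2 * (b 0 * i * (b 0)⁻¹) * (b 2)⁻¹ = (b 2 * b 0) * i * (b 2 * b 0)⁻¹ := by group
        _ = b 0 * (z * i' * z⁻¹) * (b 0)⁻¹ := by rw [b20 T, hi']; group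
        _ = _ := by rw [S.code.zinv, e', H.inv_inv' hiz, inv_inv]
    · refine ⟨i * i', mul_mem hi hi'O, ?_, h, ?_⟩
      · rw [H.zc, hiz, hi', H.N_inv hτ hiz, ← mul_inv_rev, H.abelian M hi'O hi]
      · rw [← conj_mul, hback, ← hi', H.abelian M hi'O hi]
  -- the centralizer of the transposition in the elementary group
  set B := O ⊓ Cx (b 2) with hB
  have hBc : 27 ≤ Nat.card B := by
    have h9 := img3_fix.1
    rw [← List.toFinset_card_of_nodup (List.nodup_range.filter _)] at h9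
    let F : ↥(((List.range 27).filter fun n => img 3 n == n).toFinset) × Fin 3 → B := fun p =>
      ⟨el3 a p.1.1 * u ^ (p.2 : ℕ), by
        have hm := p.1.2
        simp only [List.mem_toFinset, List.mem_filter, List.mem_range, beq_iff_eq] at hm
        refine ⟨mul_mem (H.A0_le (T.el3_mem hm.1)) (pow_mem hu _), mem_Cx.2 ?_⟩
        have h1 : b 2 * el3 a p.1.1 * (b 2)⁻¹ = el3 a p.1.1 := by
          have := (T.img_spec (show 3 < 24 by norm_num) hm.1).2
          rwa [hm.2, show rep b 3 = b 2 by simp [rep, sEl, pEl]] at this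
        exact ((show Commute (el3 a p.1.1) (b 2) from (mul_inv_eq_iff_eq_mul.1 h1).symm).mul_left
          ((show Commute u (b 2) from (mul_inv_eq_iff_eq_mul.1 huf).symm).pow_left _)).eq⟩
    have hinj : Function.Injective F := by
      intro p q e
      have hp := p.1.2
      have hq := q.1.2
      simp only [List.mem_toFinset, List.mem_filter, List.mem_range] at hp hq
      have hz' : ∀ k : ℕ, z * u ^ k * z = (u ^ k)⁻¹ := fun k => by rw [H.zpow', huz, inv_pow]
      obtain ⟨h1, h2⟩ := H.inv_unique (T.el3_mem hp.1) (T.el3_mem hq.1) (pow_mem hu _) (pow_mem hu _) (hz' _) (hz' _)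
        (congrArg Subtype.val e)
      have ho : orderOf u = 3 := orderOf_eq_prime (H.cube M hu) hu1
      exact Prod.ext (Subtype.ext (T.el3_hat_inj hp.1 hq.1 h1))
        (Fin.ext (pow_injOn_Iio_orderOf (by simpa [ho] using p.2.2) (by simpa [ho] using q.2.2) h2))
    have := Nat.card_le_card_of_injective F hinj
    rw [Nat.card_prod, Nat.card_eq_finsetCard, h9, Nat.card_fin] at this
    exact this
  have hB3 : IsPGroup 3 B := (H.isPGroup M).to_le inf_le_left
  -- the transposition is conjugate to `z`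
  have hτ2 : orderOf (b 2) = 2 := by
    refine orderOf_eq_prime (by rw [pow_two, T.sq2]) fun e => ?_
    have := (T.prm_spec (show 3 < 24 by norm_num) (show 0 < 6 by norm_num)).2
    rw [show rep b 3 = b 2 by simp [rep, sEl, pEl], e, one_mul, inv_one, mul_one, img3_fix.2] at this
    exact absurd (T.el3_hat_inj (six_lt 0 (by norm_num)) (six_lt 2 (by norm_num)) this) (by decide)
  obtain ⟨h, hh⟩ : ∃ h, h * b 2 * h⁻¹ = z := by
    rcases M.two_class' _ hτ2 with e | e
    · exact isConj_iff.1 e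
    · exfalso
      obtain ⟨h, hh⟩ := isConj_iff.1 e
      have hd := Subgroup.card_dvd_of_le (inf_le_right : B ≤ Cx (b 2))
      rw [← card_Cx_conj h (b 2), hh, show Nat.card (Cx (g 2)) = 161280 from M.card_D] at hd
      obtain ⟨n, hn⟩ := IsPGroup.iff_card.1 hB3
      rw [hn] at hd hBc
      rcases Nat.lt_or_ge n 3 with hn3 | hn3
      · have := Nat.pow_le_pow_right (show 0 < 3 by norm_num) (show n ≤ 2 by omega); omega
      · exact absurd ((pow_dvd_pow 3 hn3).trans hd) (by norm_num)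
  set B' := B.map (MulAut.conj h).toMonoidHom
  obtain ⟨c, hc, hcB⟩ := T.abelian_27 (B := B') (hB3.map _)
    (by rintro _ ⟨x, hx, rfl⟩
        refine Subgroup.mem_centralizer_singleton_iff.2 ?_
        show h * x * h⁻¹ * z = z * (h * x * h⁻¹)
        rw [← hh, conj_mul, conj_mul, mem_Cx.1 hx.2])
    (by rintro _ ⟨x, hx, rfl⟩ _ ⟨y, hy, rfl⟩
        rw [← map_mul, ← map_mul, H.abelian M hx.1 hy.1])
    (by rwa [Subgroup.card_map_of_injective (MulAut.conj h).injective])
  refine ⟨c * h, mem_norm_of fun x hx => ?_, ?_⟩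
  · have hK : c * h * x * (c * h)⁻¹ ∈ T.K := by
      refine T.mem_K.2 fun w hw => ?_
      rw [← hcB] at hw
      obtain ⟨_, ⟨v, hv, rfl⟩, rfl⟩ := hw
      show c * h * x * (c * h)⁻¹ * (c * (h * v * h⁻¹) * c⁻¹) = c * (h * v * h⁻¹) * c⁻¹ * (c * h * x * (c * h)⁻¹)
      rw [show c * (h * v * h⁻¹) * c⁻¹ = c * h * v * (c * h)⁻¹ by group, conj_mul, conj_mul, H.abelian M hx hv.1]
    rw [H.odd_iff _ hK, orderOf_conj']
    exact H.odd hx
  · calc c * h * b 2 * (c * h)⁻¹ = c * (h * b 2 * h⁻¹) * c⁻¹ := by group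
      _ = z := by rw [hh, hc, mul_inv_cancel_right]

/-- The image of a transposition. -/
def tauW (H : OGrp T O) : Wq O := H.toWN ⟨b 2, T.b_mem_N (by norm_num)⟩

theorem toWN_not (H : OGrp T O) {u : G} (hu : u ∈ T.N) {s : ℕ} (hs : s < 6)
    (h : u * el3 a (six s) * u⁻¹ ≠ el3 a (six s)) : H.toWN ⟨u, hu⟩ ≠ 1 := fun e => by
  refine h (mul_inv_eq_iff_eq_mul.2 ?_)
  exact T.comm_A0 (H.toWN_eq_one.1 e) (T.el3_mem (six_lt s hs))

theorem invols (H : OGrp T O) (M : Mdl S g) {ψ : GL23.Q →* Wq O} (h : GL23.Emb ψ) (hψ : ψ GL23.neg = H.zW)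
    {w : Wq O} (hw : orderOf w = 2) : IsConj H.zW w := by
  classical
  haveI : Fact (Nat.Prime 2) := ⟨Nat.prime_two⟩
  obtain ⟨k, hk, hkτ⟩ := H.tau_fused M
  have htz : IsConj H.zW H.tauW := by
    refine (isConj_iff.2 ⟨toW O ⟨k, hk⟩, ?_⟩).symm
    show toW O ⟨k, hk⟩ * toW O ⟨b 2, _⟩ * (toW O ⟨k, hk⟩)⁻¹ = toW O ⟨z, _⟩
    rw [← map_inv, ← map_mul, ← map_mul]
    exact congrArg (toW O) (Subtype.ext hkτ)
  have htau : ∃ a0 : GL23.Q, ψ a0 = H.tauW ∧ GL23.ty a0 = 5 := by
    obtain ⟨a0, ha0⟩ : H.tauW ∈ ψ.range := by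
      rw [GL23.mem_range_iff h, hψ]
      show H.toWN _ * H.toWN _ = H.toWN _ * H.toWN _
      rw [← map_mul, ← map_mul]
      exact congrArg _ (Subtype.ext (T.hb 2 (by norm_num)).comm)
    refine ⟨a0, ha0, ?_⟩
    have hne : H.tauW ≠ 1 := H.toWN_not _ (show 0 < 6 by norm_num) fun e => by
      have e' := (T.prm_spec (show 3 < 24 by norm_num) (show 0 < 6 by norm_num)).2
      rw [show rep b 3 = b 2 by simp [rep, sEl, pEl], e, img3_fix.2] at e'
      exact absurd (T.el3_hat_inj (six_lt 0 (by norm_num)) (six_lt 2 (by norm_num)) e') (by decide)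
    have hsq : a0 * a0 = 1 := by
      refine h.inj ?_
      rw [map_mul, ha0, map_one, tauW, ← map_mul, ← map_one H.toWN]
      exact congrArg _ (Subtype.ext T.sq2)
    have h1 : a0 ≠ 1 := fun e => hne (by rw [← ha0, e, map_one])
    rcases GL23.invol_table _ (GL23.mem_units a0) (by rw [← toV_mul, hsq, toV_one])
      (fun e => h1 (toV_injective (e.trans toV_one.symm))) with ht | ht
    · exfalso
      obtain ⟨x, hx⟩ := GL23.isConj_el a0
      rw [show GL23.ty a0 = 1 from ht] at hx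
      have : a0 = GL23.neg := by
        rw [← hx, show GL23.el 1 = GL23.neg from rfl, mul_assoc, GL23.neg_comm, inv_mul_cancel_left]
      rw [this, hψ] at ha0
      -- the images of `z` and the transposition differ
      have e1 : (toW O) (⟨z, H.N_le_norm T.z_mem_N⟩⁻¹ * ⟨b 2, H.N_le_norm (T.b_mem_N (by norm_num))⟩) = 1 := by
        rw [map_mul, map_inv]
        exact inv_mul_eq_one.2 ha0
      have hA : z⁻¹ * b 2 ∈ T.A0 := H.fix_z (toW_eq_one.1 e1)
        (comm_mul (comm_inv rfl) (T.hb 2 (by norm_num)).comm)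
      have e2 := (T.prm_spec (show 3 < 24 by norm_num) (show 0 < 6 by norm_num)).2
      have hcz : Commute (z⁻¹ * b 2) (el3 a (six 0)) := T.comm_A0 hA (T.el3_mem (six_lt 0 (by norm_num)))
      have hc : Commute (b 2) (el3 a (six 0)) := by
        have := (show Commute z (el3 a (six 0)) from (T.z_comm_el3 (six_lt 0 (by norm_num))).symm).mul_left hcz
        rwa [mul_inv_cancel_left] at this
      rw [show rep b 3 = b 2 by simp [rep, sEl, pEl], mul_inv_eq_iff_eq_mul.2 hc.eq, img3_fix.2] at e2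
      exact absurd (T.el3_hat_inj (six_lt 0 (by norm_num)) (six_lt 2 (by norm_num)) e2) (by decide)
    · exact ht
  -- move into the Sylow subgroup
  set R := GL23.Semi.map ψ with hR
  have hRc : Nat.card R = 16 := by rw [hR, Subgroup.card_map_of_injective h.inj, GL23.card_Semi]
  obtain ⟨P, hP⟩ := (IsPGroup.of_card (n := 4) (by rw [hRc]; rfl) : IsPGroup 2 R).exists_le_sylow
  have hPR : R = (P : Subgroup (Wq O)) := Subgroup.eq_of_le_of_card_ge hP (by
    obtain ⟨n, hn⟩ := IsPGroup.iff_card.1 P.isPGroup'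
    rw [hn, hRc]
    by_contra hlt
    have h5 : 5 ≤ n := by
      by_contra h5
      have := Nat.pow_le_pow_right (show 0 < 2 by norm_num) (show n ≤ 4 by omega)
      omega
    exact GL23.sylow_sixteen h ((pow_dvd_pow 2 h5).trans (hn ▸ Subgroup.card_subgroup_dvd_card _)))
  obtain ⟨P', hP'⟩ := (IsPGroup.of_card (n := 1) (by rw [Nat.card_zpowers, hw]; rfl) :
    IsPGroup 2 (Subgroup.zpowers w)).exists_le_sylow
  obtain ⟨c, hc⟩ := MulAction.exists_smul_eq (Wq O) P' P
  have hmem : c * w * c⁻¹ ∈ R := by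
    rw [hPR]
    have := Subgroup.smul_mem_pointwise_smul w (MulAut.conj c) _ (hP' (Subgroup.mem_zpowers w))
    rw [← Sylow.coe_subgroup_smul, hc] at this
    exact this
  obtain ⟨x, -, hx⟩ := hmem
  have hx2 : x * x = 1 := h.inj (by
    rw [map_mul, hx, map_one, conj_mul, ← pow_two, ← hw, pow_orderOf_eq_one, mul_one, mul_inv_cancel])
  have hx1 : x ≠ 1 := fun e => by
    rw [e, map_one] at hx
    rw [conj_eq_one_iff.1 hx.symm, orderOf_one] at hw
    omega
  refine IsConj.trans ?_ (isConj_iff.2 ⟨c, rfl⟩).symm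
  rw [← hx]
  rcases GL23.invol_table _ (GL23.mem_units x) (by rw [← toV_mul, hx2, toV_one])
    (fun e => hx1 (toV_injective (e.trans toV_one.symm))) with ht | ht
  · obtain ⟨v, hv⟩ := GL23.isConj_el x
    rw [show GL23.ty x = 1 from ht] at hv
    rw [← hψ]
    exact ψ.map_isConj (isConj_iff.2 ⟨v⁻¹, by rw [inv_inv]; exact hv⟩)
  · obtain ⟨a0, ha0, ha5⟩ := htau
    obtain ⟨v, hv⟩ := GL23.isConj_el a0
    obtain ⟨v', hv'⟩ := GL23.isConj_el x
    rw [ha5] at hv
    rw [show GL23.ty x = 5 from ht] at hv'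
    refine htz.trans ?_
    rw [← ha0]
    exact ψ.map_isConj ((isConj_iff.2 ⟨v⁻¹, by rw [inv_inv]; exact hv⟩ : IsConj (GL23.el 5) a0).symm.trans
      (isConj_iff.2 ⟨v'⁻¹, by rw [inv_inv]; exact hv'⟩))

theorem residual_top (H : OGrp T O) (M : Mdl S g) : pResidual 2 (Wq O) = ⊤ := by
  classical
  haveI : Fact (Nat.Prime 2) := ⟨Nat.prime_two⟩
  obtain ⟨e⟩ := H.cent_iso M
  obtain ⟨ψ, h, hψ⟩ := GL23.exists_emb H.orderOf_zW e
  set R := pResidual 2 (Wq O) with hR
  have hodd : ∀ w : Wq O, Nat.Coprime (orderOf w) 2 → w ∈ R := fun w hw => Subgroup.subset_closure hw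
  have h3 : ∀ q : GL23.Q, q ^ 3 = 1 → q ∈ R.comap ψ := fun q hq => hodd _ (by
    refine Nat.Coprime.coprime_dvd_left (orderOf_dvd_of_pow_eq_one (n := 3) ?_) (by norm_num)
    rw [← map_pow, hq, map_one])
  haveI hn : R.Normal := by
    rw [hR]
    infer_instance
  have hz : H.zW ∈ R := hψ ▸ neg_mem h3
  have h2 : ∀ w : Wq O, w * w = 1 → w ∈ R := fun w hw => by
    by_cases h1 : w = 1
    · rw [h1]; exact one_mem _
    obtain ⟨c, hc⟩ := isConj_iff.1 (H.invols M h hψ (orderOf_eq_prime (by rw [pow_two, hw]) h1))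
    rw [← hc]
    exact hn.conj_mem _ hz c
  have hrange : ψ.range ≤ R := by
    rintro _ ⟨q, rfl⟩
    exact all_mem h3 (fun q hq => h2 _ (by rw [← map_mul, hq, map_one])) q
  refine Subgroup.eq_top_iff' R |>.2 fun w => ?_
  obtain ⟨P, hP⟩ := IsPGroup.exists_le_sylow (p := 2) (P := GL23.Semi.map ψ)
    (IsPGroup.of_card (n := 4) (by rw [Subgroup.card_map_of_injective h.inj, GL23.card_Semi]; rfl))
  have hPc : (P : Subgroup (Wq O)) ≤ R := by
    have hPR : GL23.Semi.map ψ = (P : Subgroup (Wq O)) := Subgroup.eq_of_le_of_card_ge hP (by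
      obtain ⟨n, hn'⟩ := IsPGroup.iff_card.1 P.isPGroup'
      rw [hn', Subgroup.card_map_of_injective h.inj, GL23.card_Semi]
      by_contra hlt
      have h5 : 5 ≤ n := by
        by_contra h5
        have := Nat.pow_le_pow_right (show 0 < 2 by norm_num) (show n ≤ 4 by omega)
        omega
      exact GL23.sylow_sixteen h ((pow_dvd_pow 2 h5).trans (hn' ▸ Subgroup.card_subgroup_dvd_card _)))
    rw [← hPR]
    exact (Subgroup.map_le_range _ _).trans hrange
  have hidx : ¬ 2 ∣ R.index := fun hd => P.not_dvd_index (hd.trans (Subgroup.index_dvd_of_le hPc))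
  -- split off the two-part
  have h1 : w ^ R.index ∈ R := Subgroup.pow_index_mem R w
  set n := orderOf w with hn'
  have hodd' : w ^ 2 ^ n.factorization 2 ∈ R := hodd _ (by
    rw [orderOf_pow_of_dvd (by positivity) (Nat.ordProj_dvd _ _)]
    exact (Nat.coprime_ordCompl Nat.prime_two (orderOf_pos w).ne').symm)
  have hcop : Nat.Coprime R.index (2 ^ n.factorization 2) :=
    Nat.Coprime.pow_right _ ((Nat.Prime.coprime_iff_not_dvd Nat.prime_two).2 hidx).symm
  obtain ⟨x, y, hxy⟩ : ∃ x y : ℤ, (R.index : ℤ) * x + (2 ^ n.factorization 2 : ℕ) * y = 1 :=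
    ⟨_, _, ((Int.gcd_eq_gcd_ab _ _).symm.trans (by rw [Int.gcd_natCast_natCast, hcop]; rfl))⟩
  have : w = (w ^ R.index) ^ x * (w ^ 2 ^ n.factorization 2) ^ y := by
    rw [← zpow_natCast w, ← zpow_natCast w, ← zpow_mul, ← zpow_mul, ← zpow_add, hxy, zpow_one]
  rw [this]
  exact mul_mem (zpow_mem h1 x) (zpow_mem hodd' y)

theorem m11 (H : OGrp T O) (M : Mdl S g) : Spor.IsoM11 (Wq O) ∧ Nat.card (Wq O) = 7920 := by
  haveI : Fact (Nat.Prime 3) := ⟨Nat.prime_three⟩
  have hO := H.residual_top M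
  obtain ⟨e⟩ := H.cent_iso M
  have hcard := Subgroup.card_subgroup_dvd_card (Subgroup.normalizer (O : Set G))
  rw [Subgroup.card_eq_card_quotient_mul_card_subgroup (O.subgroupOf (Subgroup.normalizer (O : Set G))),
    Nat.card_congr (Subgroup.subgroupOfEquivOfLe (Subgroup.le_normalizer (H := O))).toEquiv, (H.card_O M).1,
    M.card_G] at hcard
  rcases GL23.natCard_of_centralizer hO H.orderOf_zW e with hW | hW
  · rw [show Nat.card (↥(Subgroup.normalizer (O : Set G)) ⧸ O.subgroupOf (Subgroup.normalizer (O : Set G))) = 5616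
      from hW] at hcard
    norm_num at hcard
  · refine ⟨?_, hW⟩
    obtain ⟨ψ, h, -⟩ := GL23.exists_emb H.orderOf_zW e
    haveI := GL23.simple h hO
    haveI := Invol.M11Ord.m11_simple'
    exact Invol.M11Ord.mulEquiv_of_card hW Fus.Mathieu.card11

/-- Every involution of the quotient has a centralizer of order 48. -/
theorem invol_cent (H : OGrp T O) (M : Mdl S g) {w : Wq O} (hw : orderOf w = 2) :
    Nat.card (Subgroup.centralizer ({w} : Set (Wq O))) = 48 := by
  obtain ⟨e⟩ := H.cent_iso M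
  obtain ⟨ψ, h, hψ⟩ := GL23.exists_emb H.orderOf_zW e
  obtain ⟨c, hc⟩ := isConj_iff.1 (H.invols M h hψ hw)
  have h48 : Nat.card (Subgroup.centralizer ({H.zW} : Set (Wq O))) = 48 := by
    rw [Nat.card_congr e.toEquiv]; exact GL23.card_Q
  rw [← hc, show Nat.card (Subgroup.centralizer ({c * H.zW * c⁻¹} : Set (Wq O))) =
    Nat.card (Subgroup.centralizer ({H.zW} : Set (Wq O))) from card_Cx_conj c H.zW, h48]

end Tri.OGrp

end Cfsg.Agent.Invol.Suz.Loc.Three
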