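import Cfsg.Agent.Lib.Invol.Suz.Loc.ThreeA

/-!
# The normalizer of the group of rotations in the centralizer
-/

set_option autoImplicit false
set_option linter.unusedSectionVars false
set_option linter.style.haveILetI false

namespace Cfsg.Agent.Invol.Suz.Loc.Three

open Cfsg Cfsg.Agent.Classical.BinCoc Cfsg.Agent.Invol.Big Cfsg.Agent.Invol.Big.Code Cfsg.Agent.Invol.Suz.Loc

variable {G : Type*} [Group G] [Finite G] {z : G} {Q : Subgroup G} {cd : G → ℕ}

/-- Preserving a finite subgroup is normalising it. -/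
theorem mem_norm_of {H : Subgroup G} {u : G} (h : ∀ x ∈ H, u * x * u⁻¹ ∈ H) :
    u ∈ Subgroup.normalizer (H : Set G) := by
  have hle : H.map (MulAut.conj u).toMonoidHom ≤ H := fun y ⟨x, hx, e⟩ => e ▸ h x hx
  have heq := Subgroup.eq_of_le_of_card_ge hle
    (Nat.card_congr (H.equivMapOfInjective _ (MulAut.conj u).injective).toEquiv).le
  refine Subgroup.mem_normalizer_iff.2 fun n => ⟨fun hn => h n hn, fun hn => ?_⟩
  rw [← heq] at hn
  obtain ⟨m, hm, e⟩ := hn
  exact (MulAut.conj u).injective e ▸ hm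

theorem cycle_ok : ((List.range 24).all fun k =>
    ((List.range 6).all fun s => prm k (prm k (prm k s)) == s) ||
      !((List.range 6).all fun s => (prm k)^[81] s == s)) = true ∧
    ((List.range 6).all fun s => prm 0 s == s) = true ∧ ((List.range 27).all fun n => img 0 n == n) = true := by
  decide +kernel

theorem six_lt : ∀ s < 6, six s < 27 := by decide

theorem six_inj : ∀ s < 6, ∀ t < 6, six s = six t → s = t := by decide

theorem six_vals : ∀ s < 6, six s = [1, 3, 9].getD (s / 2) 0 ∨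
    six s = add ([1, 3, 9].getD (s / 2) 0) ([1, 3, 9].getD (s / 2) 0) := by decide

namespace Tri

variable {S : Setting z Q cd} {a b : ℕ → G}

theorem hat_rep (T : Tri S a b) {k : ℕ} (hk : k < 24) : IsHat S.code (rep b k) (rH k) := by
  have h := rH_eq
  simp only [List.all_eq_true, List.mem_range, beq_iff_eq] at h
  rw [h k hk]
  have b0 := T.hb 0 (by norm_num)
  have b1 := T.hb 1 (by norm_num)
  have b2 := T.hb 2 (by norm_num)
  have b3 := T.hb 3 (by norm_num)
  refine IsHat.mul ?_ ?_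
  · have : k / 6 < 4 := by omega
    interval_cases k / 6
    exacts [isHat_one S.code, b0, b1, b0.mul b1]
  · have : k % 6 < 6 := Nat.mod_lt _ (by norm_num)
    interval_cases k % 6
    exacts [isHat_one S.code, b3, b3.mul b3, b2, b2.mul b3, b2.mul (b3.mul b3)]

theorem img_spec (T : Tri S a b) {k n : ℕ} (hk : k < 24) (hn : n < 27) :
    img k n < 27 ∧ rep b k * el3 a n * (rep b k)⁻¹ = el3 a (img k n) := by
  have h := img_ok
  simp only [List.all_eq_true, List.mem_range, Bool.and_eq_true, decide_eq_true_eq, beq_iff_eq] at h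
  obtain ⟨hl, he⟩ := h k hk n hn
  exact ⟨hl, conj_eq (T.hat_rep hk) (T.hat_el3 hn) (T.hat_el3 hl) (T.el3_cube n) (T.el3_cube _) he⟩

theorem prm_spec (T : Tri S a b) {k s : ℕ} (hk : k < 24) (hs : s < 6) :
    prm k s < 6 ∧ rep b k * el3 a (six s) * (rep b k)⁻¹ = el3 a (six (prm k s)) := by
  have h := prm_ok
  simp only [List.all_eq_true, List.mem_range, Bool.and_eq_true, decide_eq_true_eq, beq_iff_eq] at h
  obtain ⟨hl, he⟩ := h.1 k hk s hs
  exact ⟨hl, he ▸ (T.img_spec hk (six_lt s hs)).2⟩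

/-- The normalizer of the group of rotations in the centralizer. -/
def N (T : Tri S a b) : Subgroup G := Subgroup.centralizer ({z} : Set G) ⊓ Subgroup.normalizer (T.A0 : Set G)

theorem mem_N (T : Tri S a b) {u : G} :
    u ∈ T.N ↔ u * z = z * u ∧ u ∈ Subgroup.normalizer (T.A0 : Set G) := by
  rw [N, Subgroup.mem_inf, Subgroup.mem_centralizer_singleton_iff]

theorem N_conj (T : Tri S a b) {u x : G} (hu : u ∈ T.N) (hx : x ∈ T.A0) : u * x * u⁻¹ ∈ T.A0 :=
  (Subgroup.mem_normalizer_iff.1 hu.2 x).1 hx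

theorem N_le (T : Tri S a b) : T.N ≤ Subgroup.centralizer ({z} : Set G) := inf_le_left

theorem rep_mem (T : Tri S a b) {k : ℕ} (hk : k < 24) : rep b k ∈ T.N :=
  T.mem_N.2 ⟨(T.hat_rep hk).comm, mem_norm_of fun x ⟨n, hn, e⟩ => by
    rw [← e, (T.img_spec hk hn).2]; exact T.el3_mem (T.img_spec hk hn).1⟩

theorem A0_le_N (T : Tri S a b) : T.A0 ≤ T.N := fun _ hx =>
  ⟨T.A0_le hx, Subgroup.le_normalizer hx⟩

theorem z_mem_N (T : Tri S a b) : z ∈ T.N :=
  T.mem_N.2 ⟨rfl, mem_norm_of fun x hx => by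
    rw [← Subgroup.mem_centralizer_singleton_iff.1 (T.A0_le hx), mul_inv_cancel_right]; exact hx⟩

/-- The number of fixed codes of a product of rotations. -/
def fixN (n : ℕ) : ℕ := ((pts K6).filter fun x => rot n x == x).length

theorem fix_invariant (T : Tri S a b) {u : G} (hu : u * z = z * u) {n m : ℕ} (hn : n < 27) (hm : m < 27)
    (e : u * el3 a n * u⁻¹ = el3 a m) : fixN n = fixN m := by
  classical
  have hnd : ∀ f : ℕ → Bool, ((pts K6).filter f).Nodup := fun f => List.nodup_range.filter _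
  rw [fixN, fixN, ← List.toFinset_card_of_nodup (hnd _), ← List.toFinset_card_of_nodup (hnd _)]
  set h := S.code
  have hnz := T.z_comm_el3 hn
  have hmz := T.z_comm_el3 hm
  have e' : el3 a m * u = u * el3 a n := by rw [← e, inv_mul_cancel_right]
  have key : ∀ x < 2 ^ K6.n, rot m (h.act u x) = h.act u (rot n x) := fun x hx => by
    rw [← T.act_el3 hm (h.act_lt hu x), ← h.act_mul hmz hu hx, e', h.act_mul hu hnz hx, T.act_el3 hn hx]
  refine Finset.card_bij' (fun x _ => h.act u x) (fun x _ => h.act u⁻¹ x) ?_ ?_ ?_ ?_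
  · intro x hx
    simp only [List.mem_toFinset, List.mem_filter, pts, List.mem_range, beq_iff_eq] at hx ⊢
    exact ⟨h.act_lt hu x, by rw [key x hx.1, hx.2]⟩
  · intro x hx
    simp only [List.mem_toFinset, List.mem_filter, pts, List.mem_range, beq_iff_eq] at hx ⊢
    have hl := h.act_lt (comm_inv hu) x
    refine ⟨hl, ?_⟩
    have := key _ hl
    rw [h.act_inv_right hu hx.1, hx.2] at this
    have hrl : rot n (h.act u⁻¹ x) < 2 ^ K6.n := T.act_el3 hn hl ▸ h.act_lt hnz _
    calc rot n (h.act u⁻¹ x) = h.act u⁻¹ (h.act u (rot n (h.act u⁻¹ x))) := (h.act_inv_left hu hrl).symm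
      _ = h.act u⁻¹ x := by rw [← this]
  · intro x hx
    simp only [List.mem_toFinset, List.mem_filter, pts, List.mem_range] at hx
    exact h.act_inv_left hu hx.1
  · intro x hx
    simp only [List.mem_toFinset, List.mem_filter, pts, List.mem_range] at hx
    exact h.act_inv_right hu hx.1

theorem fix_six {n : ℕ} (hn : n < 27) : fixN n = 16 ↔ ∃ s < 6, six s = n := by
  have h := six_ok
  simp only [List.all_eq_true, List.mem_range, beq_iff_eq] at h
  have := h n hn
  unfold fixN
  constructor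
  · intro e
    rw [e] at this
    simpa using this.symm
  · rintro ⟨s, hs, e⟩
    have hc : ((List.range 6).map six).contains n = true := by simpa using ⟨s, hs, e⟩
    rw [hc] at this
    simpa using this

theorem N_six (T : Tri S a b) {u : G} (hu : u ∈ T.N) {s : ℕ} (hs : s < 6) :
    ∃ j < 6, u * el3 a (six s) * u⁻¹ = el3 a (six j) := by
  obtain ⟨m, hm, e⟩ := T.N_conj hu (T.el3_mem (six_lt s hs))
  have h16 := fix_six (six_lt s hs) |>.2 ⟨s, hs, rfl⟩
  rw [T.fix_invariant (T.mem_N.1 hu).1 (six_lt s hs) hm e.symm] at h16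
  obtain ⟨j, hj, rfl⟩ := (fix_six hm).1 h16
  exact ⟨j, hj, e.symm⟩

/-- The elements of the normalizer. -/
theorem exists_rep (T : Tri S a b) {u : G} (hu : u ∈ T.N) :
    ∃ k < 24, ∃ n < 27, ∃ e ≤ 1, u = rep b k * (el3 a n * z ^ e) := by
  obtain ⟨x, hx, ex⟩ := T.N_six hu (show 0 < 6 by norm_num)
  obtain ⟨y, hy, ey⟩ := T.N_six hu (show 2 < 6 by norm_num)
  obtain ⟨w, hw, ew⟩ := T.N_six hu (show 4 < 6 by norm_num)
  have hsep : ∀ {s t x y : ℕ}, s < 6 → t < 6 → x < 6 → y < 6 → s / 2 ≠ t / 2 →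
      u * el3 a (six s) * u⁻¹ = el3 a (six x) → u * el3 a (six t) * u⁻¹ = el3 a (six y) → x / 2 ≠ y / 2 := by
    intro s t x y hs ht hx hy hst e e' hxy
    have hd : six x = six y ∨ six x = add (six y) (six y) := by
      interval_cases x <;> interval_cases y <;> first | omega | decide
    rcases hd with k | k
    · rw [k, ← e'] at e
      exact hst (by rw [six_inj s hs t ht (T.el3_hat_inj (six_lt s hs) (six_lt t ht)
        (mul_left_cancel (mul_right_cancel e)))])
    · obtain ⟨hl, hmul⟩ := T.el3_mul (six_lt y hy) (six_lt y hy)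
      obtain ⟨hl', hmul'⟩ := T.el3_mul (six_lt t ht) (six_lt t ht)
      rw [k, ← hmul, ← e', conj_mul, hmul'] at e
      have := T.el3_hat_inj (six_lt s hs) hl' (mul_left_cancel (mul_right_cancel e))
      revert this hst
      interval_cases s <;> interval_cases t <;> decide
  have h := prm_ok
  simp only [List.all_eq_true, List.mem_range, Bool.and_eq_true, Bool.or_eq_true, List.any_eq_true,
    beq_iff_eq] at h
  obtain ⟨k, hk, ⟨hk0, hk2⟩, hk4⟩ : ∃ k < 24, ((prm k 0 = x ∨ prm k 1 = x) ∧ prm k 2 = y) ∧ prm k 4 = w := by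
    rcases h.2 x hx y hy w hw with ((k | k) | k) | k
    · exact absurd k (hsep (by norm_num) (by norm_num) hx hy (by norm_num) ex ey)
    · exact absurd k (hsep (by norm_num) (by norm_num) hx hw (by norm_num) ex ew)
    · exact absurd k (hsep (by norm_num) (by norm_num) hy hw (by norm_num) ey ew)
    · exact k
  set r := rep b k with hr
  set v := r⁻¹ * u with hv
  have hback : ∀ {s t x : ℕ}, u * el3 a (six s) * u⁻¹ = el3 a (six x) → t < 6 → prm k t = x →
      v * el3 a (six s) * v⁻¹ = el3 a (six t) := by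
    intro s t x e ht et
    calc v * el3 a (six s) * v⁻¹ = r⁻¹ * (u * el3 a (six s) * u⁻¹) * r := by rw [hv]; group
      _ = r⁻¹ * (r * el3 a (six t) * r⁻¹) * r := by rw [e, ← et, (T.prm_spec hk ht).2]
      _ = _ := by group
  have hvz : v * z = z * v := comm_mul (comm_inv (T.hat_rep hk).comm) (T.mem_N.1 hu).1
  have e0 : el3 a (six 0) = a 0 := el3_single (i := 0) (by norm_num)
  have e2 : el3 a (six 2) = a 1 := el3_single (i := 1) (by norm_num)
  have e4 : el3 a (six 4) = a 2 := el3_single (i := 2) (by norm_num)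
  have v1 := hback ey (by norm_num : 2 < 6) hk2
  have v2 := hback ew (by norm_num : 4 < 6) hk4
  have e1 : el3 a (six 1) = a 0 * a 0 := by
    have := (T.el3_mul (show 1 < 27 by norm_num) (show 1 < 27 by norm_num)).2
    rw [show el3 a 1 = a 0 from el3_single (i := 0) (by norm_num)] at this
    rw [this]; rfl
  have v0 : v * a 0 * v⁻¹ = a 0 ∨ v * a 0 * v⁻¹ = a 0 * a 0 := by
    rcases hk0 with k0 | k0
    · exact Or.inl (by rw [← e0]; exact hback ex (by norm_num) k0)
    · refine Or.inr ?_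
      rw [← e1, ← e0]
      exact hback ex (by norm_num) k0
  rw [e2] at v1
  rw [e4] at v2
  obtain ⟨-, n, hn, e, he, hve⟩ := T.plane_cent hvz v0 v1 v2
  exact ⟨k, hk, n, hn, e, he, by rw [← hve, hv, mul_inv_cancel_left]⟩

theorem conj_el3_N (T : Tri S a b) {k n m e : ℕ} (hk : k < 24) (hn : n < 27) (hm : m < 27) :
    rep b k * (el3 a n * z ^ e) * el3 a m * (rep b k * (el3 a n * z ^ e))⁻¹ = el3 a (img k m) := by
  have h1 : el3 a n * z ^ e * el3 a m = el3 a m * (el3 a n * z ^ e) :=
    ((T.el3_comm n m).mul_left ((show Commute z (el3 a m) from (T.z_comm_el3 hm).symm).pow_left e)).eq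
  calc rep b k * (el3 a n * z ^ e) * el3 a m * (rep b k * (el3 a n * z ^ e))⁻¹
      = rep b k * (el3 a n * z ^ e * el3 a m) * (el3 a n * z ^ e)⁻¹ * (rep b k)⁻¹ := by group
    _ = rep b k * el3 a m * (rep b k)⁻¹ := by rw [h1]; group
    _ = _ := (T.img_spec hk hm).2

theorem conj_six (T : Tri S a b) {k n e s : ℕ} (hk : k < 24) (hn : n < 27) (hs : s < 6) :
    rep b k * (el3 a n * z ^ e) * el3 a (six s) * (rep b k * (el3 a n * z ^ e))⁻¹ = el3 a (six (prm k s)) := by
  rw [T.conj_el3_N hk hn (six_lt s hs)]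
  have h := prm_ok
  simp only [List.all_eq_true, List.mem_range, Bool.and_eq_true, decide_eq_true_eq, beq_iff_eq] at h
  rw [(h.1 k hk s hs).2]

theorem rep_inj (T : Tri S a b) {k n e k' n' e' : ℕ} (hk : k < 24) (hn : n < 27) (he : e ≤ 1) (hk' : k' < 24)
    (hn' : n' < 27) (he' : e' ≤ 1) (h : rep b k * (el3 a n * z ^ e) = rep b k' * (el3 a n' * z ^ e')) :
    k = k' ∧ n = n' ∧ e = e' := by
  have hp : (List.range 6).map (prm k) = (List.range 6).map (prm k') := by
    refine List.map_inj_left.2 fun s hs => ?_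
    rw [List.mem_range] at hs
    refine six_inj _ (T.prm_spec hk hs).1 _ (T.prm_spec hk' hs).1 (T.el3_hat_inj (six_lt _ (T.prm_spec hk hs).1)
      (six_lt _ (T.prm_spec hk' hs).1) ?_)
    rw [← T.conj_six (e := e) hk hn hs, ← T.conj_six (e := e') hk' hn' hs, h]
  have := prm_nodup.getElem_inj_iff (i := k) (j := k') (hi := by simpa using hk) (hj := by simpa using hk')
  simp only [List.getElem_map, List.getElem_range] at this
  obtain rfl := this.1 hp
  exact ⟨rfl, T.el3_zpow_inj hn hn' he he' (mul_left_cancel h)⟩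

theorem elem_mem_N (T : Tri S a b) {k n : ℕ} (hk : k < 24) (hn : n < 27) (e : ℕ) :
    rep b k * (el3 a n * z ^ e) ∈ T.N :=
  mul_mem (T.rep_mem hk) (mul_mem (T.A0_le_N (T.el3_mem hn)) (pow_mem T.z_mem_N e))

theorem card_N (T : Tri S a b) : Nat.card T.N = 1296 := by
  let F : Fin 24 × Fin 27 × Fin 2 → T.N := fun p =>
    ⟨rep b p.1 * (el3 a p.2.1 * z ^ (p.2.2 : ℕ)), T.elem_mem_N p.1.2 p.2.1.2 _⟩
  have : Function.Bijective F := by
    refine ⟨fun p q e => ?_, fun ⟨u, hu⟩ => ?_⟩
    · obtain ⟨h1, h2, h3⟩ := T.rep_inj p.1.2 p.2.1.2 (by omega) q.1.2 q.2.1.2 (by omega) (congrArg Subtype.val e)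
      exact Prod.ext (Fin.ext h1) (Prod.ext (Fin.ext h2) (Fin.ext h3))
    · obtain ⟨k, hk, n, hn, e, he, hue⟩ := T.exists_rep hu
      exact ⟨(⟨k, hk⟩, ⟨n, hn⟩, ⟨e, by omega⟩), Subtype.ext hue.symm⟩
  rw [← Nat.card_eq_of_bijective _ this]
  simp

/-- The part of the centralizer fixing every rotation. -/
theorem cent_A0 (T : Tri S a b) {u : G} (hu : u * z = z * u) (hc : ∀ x ∈ T.A0, u * x = x * u) :
    ∃ n < 27, ∃ e ≤ 1, u = el3 a n * z ^ e :=
  (T.plane_cent hu (Or.inl (mul_inv_eq_iff_eq_mul.2 (hc _ (T.a_mem (by norm_num)))))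
    (mul_inv_eq_iff_eq_mul.2 (hc _ (T.a_mem (by norm_num))))
    (mul_inv_eq_iff_eq_mul.2 (hc _ (T.a_mem (by norm_num))))).2

theorem iterate_six (T : Tri S a b) {k n e : ℕ} (hk : k < 24) (hn : n < 27) :
    ∀ j : ℕ, ∀ s < 6, (prm k)^[j] s < 6 ∧
      (rep b k * (el3 a n * z ^ e)) ^ j * el3 a (six s) * ((rep b k * (el3 a n * z ^ e)) ^ j)⁻¹ =
        el3 a (six ((prm k)^[j] s))
  | 0, s, hs => by simp [hs]
  | j + 1, s, hs => by
    obtain ⟨hl, he⟩ := T.iterate_six (e := e) hk hn j s hs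
    refine ⟨by rw [Function.iterate_succ_apply']; exact (T.prm_spec hk hl).1, ?_⟩
    rw [Function.iterate_succ_apply', ← T.conj_six (e := e) hk hn hl, ← he, pow_succ']
    generalize rep b k * (el3 a n * z ^ e) = u
    generalize u ^ j = v
    group

theorem prm_cube (T : Tri S a b) {k n e : ℕ} (hk : k < 24) (hn : n < 27)
    (h : (rep b k * (el3 a n * z ^ e)) ^ 81 = 1) : ∀ s < 6, prm k (prm k (prm k s)) = s := by
  obtain ⟨hc, -, -⟩ := cycle_ok
  simp only [List.all_eq_true, List.mem_range, Bool.or_eq_true, Bool.not_eq_true', beq_iff_eq] at hc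
  rcases hc k hk with p | p
  · exact p
  · rw [List.all_eq_false] at p
    obtain ⟨s, hs, hne⟩ := p
    rw [List.mem_range] at hs
    obtain ⟨hl, he⟩ := T.iterate_six (e := e) hk hn 81 s hs
    rw [h, one_mul, inv_one, mul_one] at he
    have := six_inj _ hs _ hl (T.el3_hat_inj (six_lt _ hs) (six_lt _ hl) he)
    simp [← this] at hne

/-- A three-element of the normalizer outside the rotations fixes three of them. -/
theorem fix_three (T : Tri S a b) {u : G} (hu : u ∈ T.N) (hu81 : u ^ 81 = 1) (hnot : u ∉ T.A0) :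
    Nat.card {x : G // x ∈ T.A0 ∧ u * x = x * u} = 3 := by
  classical
  obtain ⟨k, hk, n, hn, e, he, rfl⟩ := T.exists_rep hu
  have hp := T.prm_cube hk hn hu81
  have hk0 : k ≠ 0 := by
    rintro rfl
    have hr : rep b 0 = 1 := by simp [rep, sEl, pEl]
    rw [hr, one_mul] at hu81 hnot
    interval_cases e
    · exact hnot (by simpa using T.el3_mem hn)
    · rw [pow_one, (show Commute (el3 a n) z from T.z_comm_el3 hn).mul_pow,
        show (81 : ℕ) = 3 * 27 by norm_num, pow_mul, T.el3_cube, one_pow, one_mul,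
        show (3 : ℕ) * 27 = 2 * 40 + 1 by norm_num, pow_succ, pow_mul, pow_two, S.code.ext.zz, one_pow, one_mul] at hu81
      exact S.code.ne hu81
  have hf := fix_ok
  simp only [List.all_eq_true, List.mem_range, Bool.or_eq_true, Bool.not_eq_true', beq_iff_eq] at hf
  have hlen : ((List.range 27).filter fun n => img k n == n).length = 3 := by
    rcases hf k hk with q | q
    · exfalso
      rw [Bool.and_eq_false_iff] at q
      rcases q with q | q
      · simp [hk0] at q
      · rw [List.all_eq_false] at q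
        obtain ⟨s, hs, hne⟩ := q
        rw [List.mem_range] at hs
        simp [hp s hs] at hne
    · exact q
  rw [← hlen, ← List.toFinset_card_of_nodup (List.nodup_range.filter _), ← Nat.card_eq_finsetCard]
  refine Nat.card_congr (Equiv.ofBijective
    (fun m : ↥(((List.range 27).filter fun n => img k n == n).toFinset) => (⟨el3 a m.1, ?_⟩ :
      {x : G // x ∈ T.A0 ∧ rep b k * (el3 a n * z ^ e) * x = x * (rep b k * (el3 a n * z ^ e))})) ⟨?_, ?_⟩).symm
  · have hm := m.2
    simp only [List.mem_toFinset, List.mem_filter, List.mem_range, beq_iff_eq] at hm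
    refine ⟨T.el3_mem hm.1, mul_inv_eq_iff_eq_mul.1 ?_⟩
    rw [T.conj_el3_N hk hn hm.1, hm.2]
  · intro m m' h
    have hm := m.2
    have hm' := m'.2
    simp only [List.mem_toFinset, List.mem_filter, List.mem_range] at hm hm'
    exact Subtype.ext (T.el3_hat_inj hm.1 hm'.1 (congrArg Subtype.val h))
  · rintro ⟨x, ⟨m, hm, rfl⟩, hxc⟩
    refine ⟨⟨m, ?_⟩, rfl⟩
    simp only [List.mem_toFinset, List.mem_filter, List.mem_range, beq_iff_eq]
    refine ⟨hm, T.el3_hat_inj (T.img_spec hk hm).1 hm ?_⟩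
    rw [← T.conj_el3_N (e := e) hk hn hm, hxc, mul_inv_cancel_right]

/-- A Sylow three-subgroup of the centralizer inside the normalizer. -/
theorem exists_R (T : Tri S a b) : ∃ R : Subgroup G, Nat.card R = 81 ∧ T.A0 ≤ R ∧ R ≤ T.N ∧
    ∀ B : Subgroup G, IsPGroup 3 B → B ≤ Subgroup.centralizer ({z} : Set G) →
      ∃ c, c * z = z * c ∧ ∀ x ∈ B, c * x * c⁻¹ ∈ R := by
  classical
  haveI : Fact (Nat.Prime 3) := ⟨Nat.prime_three⟩
  have h27 : IsPGroup 3 (T.A0.subgroupOf T.N) := IsPGroup.of_card (n := 3) (by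
    rw [Nat.card_congr (Subgroup.subgroupOfEquivOfLe T.A0_le_N).toEquiv, T.card_A0]; rfl)
  obtain ⟨P, hP⟩ := h27.exists_le_sylow
  have hPc : Nat.card (P : Subgroup T.N) = 81 := by
    rw [P.card_eq_multiplicity, T.card_N, show 1296 = 3 ^ 4 * 16 by norm_num,
      Nat.factorization_mul (by norm_num) (by norm_num), Finsupp.add_apply,
      Nat.Prime.factorization_pow Nat.prime_three, Finsupp.single_eq_same,
      Nat.factorization_eq_zero_of_not_dvd (by norm_num : ¬ 3 ∣ 16)]
    norm_num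
  set R := (P : Subgroup T.N).map T.N.subtype with hR
  have hRc : Nat.card R = 81 := by rw [hR, Subgroup.card_map_of_injective Subtype.coe_injective, hPc]
  have hRN : R ≤ T.N := by rw [hR]; exact Subgroup.map_subtype_le _
  refine ⟨R, hRc, fun x hx => ⟨⟨x, T.A0_le_N hx⟩, hP hx, rfl⟩, hRN, fun B hB hBC => ?_⟩
  set C := Subgroup.centralizer ({z} : Set G)
  have hRC : R ≤ C := hRN.trans T.N_le
  have hRCc : Nat.card (R.subgroupOf C) = 81 := by
    rw [Nat.card_congr (Subgroup.subgroupOfEquivOfLe hRC).toEquiv, hRc]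
  obtain ⟨P0, hP0⟩ := (IsPGroup.of_card (n := 4) (by rw [hRCc]; rfl) : IsPGroup 3 (R.subgroupOf C)).exists_le_sylow
  have hP0e : (P0 : Subgroup C) = R.subgroupOf C := by
    refine (Subgroup.eq_of_le_of_card_ge hP0 ?_).symm
    rw [P0.card_eq_multiplicity, Setting.card_C S, hRCc, show 3317760 = 3 ^ 4 * 40960 by norm_num,
      Nat.factorization_mul (by norm_num) (by norm_num), Finsupp.add_apply,
      Nat.Prime.factorization_pow Nat.prime_three, Finsupp.single_eq_same,
      Nat.factorization_eq_zero_of_not_dvd (by norm_num : ¬ 3 ∣ 40960)]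
    norm_num
  obtain ⟨P1, hP1⟩ := (hB.of_injective (Subgroup.subgroupOfEquivOfLe hBC).toMonoidHom (Subgroup.subgroupOfEquivOfLe hBC).injective :
    IsPGroup 3 (B.subgroupOf C)).exists_le_sylow
  obtain ⟨c, hc⟩ := MulAction.exists_smul_eq C P1 P0
  refine ⟨c, Subgroup.mem_centralizer_singleton_iff.1 c.2, fun x hx => ?_⟩
  have : MulAut.conj c ⟨x, hBC hx⟩ ∈ (P0 : Subgroup C) := by
    rw [← hc, Sylow.coe_subgroup_smul]
    exact Subgroup.smul_mem_pointwise_smul _ (MulAut.conj c) _ (hP1 hx)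
  rw [hP0e, Subgroup.mem_subgroupOf] at this
  exact this

/-- A Sylow three-subgroup of the normalizer has one abelian subgroup of order 27. -/
theorem abelian_R (T : Tri S a b) {R B : Subgroup G} (hR : Nat.card R = 81) (hAR : T.A0 ≤ R) (hRN : R ≤ T.N)
    (hBR : B ≤ R) (hcomm : ∀ x ∈ B, ∀ y ∈ B, x * y = y * x) (hcard : 27 ≤ Nat.card B) : B = T.A0 := by
  classical
  have hle : B ≤ T.A0 := by
    intro u huB
    by_contra hnot
    have h81 : u ^ 81 = 1 := orderOf_dvd_iff_pow_eq_one.1 (hR ▸ Subgroup.orderOf_dvd_natCard _ (hBR huB))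
    have h3 := T.fix_three (hRN (hBR huB)) h81 hnot
    have hidx : T.A0.relIndex R = 3 := by
      have := Subgroup.card_mul_index (T.A0.subgroupOf R)
      rw [Nat.card_congr (Subgroup.subgroupOfEquivOfLe hAR).toEquiv, T.card_A0, hR] at this
      show (T.A0.subgroupOf R).index = 3
      omega
    have hrel : T.A0.relIndex B ≤ 3 := hidx ▸ Subgroup.relIndex_le_of_le_right hBR (by rw [hidx]; norm_num)
    have hprod : Nat.card (T.A0.subgroupOf B) * T.A0.relIndex B = Nat.card B := Subgroup.card_mul_index _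
    have hcard' : Nat.card (T.A0.subgroupOf B) ≤ 3 := by
      rw [← h3]
      refine Nat.card_le_card_of_injective
        (fun x : T.A0.subgroupOf B => (⟨((x : B) : G), x.2, hcomm u huB _ (x : B).2⟩ :
          {x : G // x ∈ T.A0 ∧ u * x = x * u})) fun x y e => Subtype.ext (Subtype.ext (congrArg (·.1) e))
    nlinarith
  exact Subgroup.eq_of_le_of_card_ge hle (by rw [T.card_A0]; exact hcard)

/-- Large abelian three-subgroups of the centralizer are conjugate into the rotations. -/
theorem abelian_27 (T : Tri S a b) {B : Subgroup G} (hB : IsPGroup 3 B)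
    (hBC : B ≤ Subgroup.centralizer ({z} : Set G)) (hcomm : ∀ x ∈ B, ∀ y ∈ B, x * y = y * x)
    (hcard : 27 ≤ Nat.card B) : ∃ c, c * z = z * c ∧ B.map (MulAut.conj c).toMonoidHom = T.A0 := by
  obtain ⟨R, hR, hAR, hRN, hconj⟩ := T.exists_R
  obtain ⟨c, hc, hcR⟩ := hconj B hB hBC
  refine ⟨c, hc, T.abelian_R hR hAR hRN (fun y ⟨x, hx, e⟩ => e ▸ hcR x hx) ?_ ?_⟩
  · rintro _ ⟨x, hx, rfl⟩ _ ⟨y, hy, rfl⟩
    rw [← map_mul, ← map_mul, hcomm x hx y hy]
  · rwa [Subgroup.card_map_of_injective (MulAut.conj c).injective]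

end Tri

end Cfsg.Agent.Invol.Suz.Loc.Three
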