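import Cfsg.Agent.Lib.Invol.Suz.Loc.ThreeN

/-!
# The three-part of the centralizer of the rotations
-/

set_option autoImplicit false
set_option linter.unusedSectionVars false
set_option linter.style.haveILetI false

namespace Cfsg.Agent.Invol.Suz.Loc.Three

open Cfsg Cfsg.Agent.Classical.BinCoc Cfsg.Agent.Invol.Big Cfsg.Agent.Invol.Big.Code Cfsg.Agent.Invol.Suz.Loc
open scoped commutatorElement

variable {G : Type*} [Group G] [Finite G] {z : G} {Q : Subgroup G} {cd : G → ℕ}

/-- A permutation whose square has no fixed point, of fourth power one. -/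
theorem four_dvd_card {α : Type*} [Finite α] (σ : Equiv.Perm α) (h4 : ∀ x, σ (σ (σ (σ x))) = x)
    (h2 : ∀ x, σ (σ x) ≠ x) : 4 ∣ Nat.card α := by
  classical
  rcases isEmpty_or_nonempty α with hα | ⟨⟨x0⟩⟩
  · simp
  have ho : orderOf σ = 2 ^ (1 + 1) := orderOf_eq_prime_pow
    (fun e => h2 x0 (by have := Equiv.congr_fun e x0; simpa [pow_two] using this))
    (Equiv.ext fun x => by simpa [pow_succ] using h4 x)
  have hfree : ∀ x : α, MulAction.stabilizer (Subgroup.zpowers σ) x = ⊥ := by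
    intro x
    refine (Subgroup.eq_bot_iff_forall _).2 fun g hg => ?_
    obtain ⟨v, hv⟩ := g
    rw [mem_zpowers_iff_mem_range_orderOf, Finset.mem_image] at hv
    obtain ⟨j, hj, rfl⟩ := hv
    rw [Finset.mem_range, ho] at hj
    have hx : (σ ^ j) x = x := hg
    refine Subtype.ext ?_
    show σ ^ j = 1
    have : j < 4 := by simpa using hj
    interval_cases j
    · rfl
    · exact absurd (show σ (σ x) = x by simp at hx; rw [hx, hx]) (h2 x)
    · exact absurd (show σ (σ x) = x by simpa [pow_two] using hx) (h2 x)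
    · simp [pow_succ] at hx
      exact absurd (show σ (σ x) = x by
        have h1 : σ x = x := by conv_rhs => rw [← h4 x]; rw [hx]
        rw [h1, h1]) (h2 x)
  have key := Nat.card_congr (MulAction.selfEquivOrbitsQuotientProd (G := Subgroup.zpowers σ) (X := α) (hfree))
  rw [Nat.card_prod, Nat.card_zpowers, ho] at key
  exact ⟨_, key.trans (mul_comm _ _)⟩

/-- An element of odd order is a square of a power of itself. -/
theorem exists_half {x : G} (h : Odd (orderOf x)) : ∃ m : ℕ, (x ^ m) ^ 2 = x := by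
  obtain ⟨m, hm⟩ := h
  refine ⟨m + 1, ?_⟩
  rw [← pow_mul, show (m + 1) * 2 = orderOf x + 1 by omega, pow_succ, pow_orderOf_eq_one, one_mul]

theorem sq_inj {x y : G} (hx : Odd (orderOf x)) (hy : Odd (orderOf y)) (e : x * x = y * y) : x = y := by
  obtain ⟨a, ha⟩ := hx
  obtain ⟨b, hb⟩ := hy
  set n := orderOf x * orderOf y with hn
  have hno : Odd n := (show Odd (orderOf x) from ⟨a, ha⟩).mul ⟨b, hb⟩
  obtain ⟨m, hm⟩ := hno
  have hx1 : x ^ n = 1 := by rw [hn, pow_mul, pow_orderOf_eq_one, one_pow]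
  have hy1 : y ^ n = 1 := by rw [hn, mul_comm, pow_mul, pow_orderOf_eq_one, one_pow]
  have key : ∀ w : G, w ^ n = 1 → (w * w) ^ (m + 1) = w := fun w hw => by
    rw [← pow_two, ← pow_mul, show 2 * (m + 1) = n + 1 by omega, pow_succ, hw, one_mul]
  rw [← key x hx1, ← key y hy1, e]

theorem orderOf_conj' (u x : G) : orderOf (u * x * u⁻¹) = orderOf x :=
  orderOf_injective (MulAut.conj u).toMonoidHom (MulAut.conj u).injective x

variable {S : Setting z Q cd} {a b : ℕ → G}

namespace Tri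

/-- The centralizer of the rotations. -/
def K (T : Tri S a b) : Subgroup G := Subgroup.centralizer (T.A0 : Set G)

theorem mem_K (T : Tri S a b) {u : G} : u ∈ T.K ↔ ∀ x ∈ T.A0, u * x = x * u := by
  rw [K, Subgroup.mem_centralizer_iff]
  exact ⟨fun h x hx => (h x hx).symm, fun h x hx => (h x hx).symm⟩

theorem z_mem_K (T : Tri S a b) : z ∈ T.K :=
  T.mem_K.2 fun _ hx => (Subgroup.mem_centralizer_singleton_iff.1 (T.A0_le hx)).symm

theorem A0_le_K (T : Tri S a b) : T.A0 ≤ T.K := fun _ hx => T.mem_K.2 fun _ hy => T.comm_A0 hx hy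

theorem K_conj (T : Tri S a b) {u x : G} (hu : u ∈ Subgroup.normalizer (T.A0 : Set G)) (hx : x ∈ T.K) :
    u * x * u⁻¹ ∈ T.K := by
  refine T.mem_K.2 fun y hy => ?_
  have hy' : u⁻¹ * y * u ∈ T.A0 := by
    rw [Subgroup.mem_normalizer_iff.1 hu (u⁻¹ * y * u)]
    rwa [show u * (u⁻¹ * y * u) * u⁻¹ = y by group]
  calc u * x * u⁻¹ * y = u * (x * (u⁻¹ * y * u)) * u⁻¹ := by group
    _ = u * ((u⁻¹ * y * u) * x) * u⁻¹ := by rw [T.mem_K.1 hx _ hy']
    _ = _ := by group

/-- The odd part of the centralizer of the rotations. -/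
structure OGrp (T : Tri S a b) (O : Subgroup G) : Prop where
  le : O ≤ T.K
  odd_iff : ∀ x ∈ T.K, x ∈ O ↔ Odd (orderOf x)
  card : Nat.card T.K = 2 * Nat.card O

theorem exists_O (T : Tri S a b) : ∃ O, OGrp T O := by
  classical
  haveI : Fact (Nat.Prime 2) := ⟨Nat.prime_two⟩
  set zK : T.K := ⟨z, T.z_mem_K⟩ with hzK
  have hord : orderOf zK = 2 := by rw [hzK, Subgroup.orderOf_mk, S.code.ord]
  have hZ : IsPGroup 2 (Subgroup.zpowers zK) := IsPGroup.of_card (n := 1) (by rw [Nat.card_zpowers, hord]; rfl)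
  obtain ⟨P, hP⟩ := hZ.exists_le_sylow
  have hPe : (P : Subgroup T.K) = Subgroup.zpowers zK := by
    refine le_antisymm ?_ hP
    by_contra hnle
    haveI := P.isPGroup'.isNilpotent
    set H := (Subgroup.zpowers zK).subgroupOf (P : Subgroup T.K) with hH
    have hlt : H < ⊤ := lt_top_iff_ne_top.2 fun e => hnle fun x hx => by
      have : (⟨x, hx⟩ : (P : Subgroup T.K)) ∈ H := e ▸ Subgroup.mem_top _
      exact this
    obtain ⟨w, hw, hwH⟩ := SetLike.exists_of_lt (Group.normalizerCondition_of_isNilpotent H hlt)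
    apply hwH
    have hmem : (⟨zK, hP (Subgroup.mem_zpowers zK)⟩ : (P : Subgroup T.K)) ∈ H := Subgroup.mem_zpowers zK
    have h1 : (w : T.K) * zK * (w : T.K)⁻¹ ∈ Subgroup.zpowers zK :=
      (Subgroup.mem_normalizer_iff.1 hw _).1 hmem
    rw [mem_zpowers_iff_mem_range_orderOf, hord, Finset.mem_image] at h1
    obtain ⟨j, hj, hje⟩ := h1
    rw [Finset.mem_range] at hj
    have hwz : ((w : T.K) : G) * z = z * ((w : T.K) : G) := by
      interval_cases j
      · rw [pow_zero] at hje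
        have := conj_eq_one_iff.1 hje.symm
        rw [this, orderOf_one] at hord
        omega
      · rw [pow_one] at hje
        exact mul_inv_eq_iff_eq_mul.1 (congrArg Subtype.val hje.symm)
    obtain ⟨n, hn, e, he, hwe⟩ := T.cent_A0 hwz (T.mem_K.1 (w : T.K).2)
    obtain ⟨j, hj⟩ := P.isPGroup' w
    have h2 : (el3 a n * z ^ e) ^ 2 ^ j = 1 := by rw [← hwe]; exact congrArg (fun v : (P : Subgroup T.K) => ((v : T.K) : G)) hj
    have hn0 : n = 0 := by
      refine T.el3_hat_inj hn (by norm_num) ?_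
      rw [el3_zero, ← orderOf_eq_one_iff]
      refine Nat.eq_one_of_dvd_coprimes (Nat.Coprime.pow_left (j + 1) (by norm_num : Nat.Coprime 2 3))
        (orderOf_dvd_of_pow_eq_one ?_) (orderOf_dvd_of_pow_eq_one (T.el3_cube n))
      rw [((show Commute (el3 a n) z from T.z_comm_el3 hn).pow_right e).mul_pow] at h2
      rw [pow_succ, pow_mul, eq_inv_of_mul_eq_one_left h2, inv_pow, ← pow_mul, ← pow_mul,
        show e * (2 ^ j * 2) = 2 * (e * 2 ^ j) by ring, pow_mul, pow_two, S.code.ext.zz, one_pow, inv_one]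
    rw [hn0, el3_zero, one_mul] at hwe
    show (w : T.K) ∈ Subgroup.zpowers zK
    rw [show (w : T.K) = zK ^ e from Subtype.ext hwe]
    exact pow_mem (Subgroup.mem_zpowers zK) e
  have hNC : Subgroup.normalizer ((P : Subgroup T.K) : Set T.K) ≤ Subgroup.centralizer ((P : Subgroup T.K) : Set T.K) := by
    rw [hPe]
    intro u hu
    have h1 : u * zK * u⁻¹ ∈ Subgroup.zpowers zK := (Subgroup.mem_normalizer_iff.1 hu _).1 (Subgroup.mem_zpowers zK)
    rw [mem_zpowers_iff_mem_range_orderOf, hord, Finset.mem_image] at h1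
    obtain ⟨j, hj, hje⟩ := h1
    rw [Finset.mem_range] at hj
    interval_cases j
    · rw [pow_zero] at hje
      have := conj_eq_one_iff.1 hje.symm
      rw [this, orderOf_one] at hord
      omega
    · rw [pow_one] at hje
      rw [Subgroup.zpowers_eq_closure, Subgroup.centralizer_closure, Subgroup.mem_centralizer_singleton_iff]
      exact mul_inv_eq_iff_eq_mul.1 hje.symm
  have hc := MonoidHom.ker_transferSylow_isComplement' P hNC
  set Kr := (MonoidHom.transferSylow P hNC).ker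
  have hcard : Nat.card T.K = Nat.card Kr * 2 := by
    rw [← hc.card_mul, hPe, Nat.card_zpowers, hord]
  have hidx : Kr.index = 2 := by rw [hc.symm.index_eq_card, hPe, Nat.card_zpowers, hord]
  have hodd : Odd (Nat.card Kr) := by
    rw [← Nat.not_even_iff_odd, even_iff_two_dvd, ← hc.index_eq_card]
    exact P.not_dvd_index
  refine ⟨Kr.map T.K.subtype, Subgroup.map_subtype_le _, fun x hx => ?_, ?_⟩
  · constructor
    · rintro ⟨⟨y, hyK⟩, hy, rfl⟩
      have : orderOf (⟨y, hyK⟩ : T.K) ∣ Nat.card Kr := Subgroup.orderOf_dvd_natCard _ hy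
      rw [Subgroup.orderOf_mk] at this
      exact hodd.of_dvd_nat this
    · intro ho
      obtain ⟨m, hm⟩ := exists_half ho
      refine ⟨⟨x, hx⟩, ?_, rfl⟩
      have hx2 : (⟨x, hx⟩ : T.K) = (⟨x, hx⟩ ^ m) ^ 2 := Subtype.ext hm.symm
      rw [hx2]
      exact Subgroup.sq_mem_of_index_two hidx _
  · rw [Subgroup.card_map_of_injective Subtype.coe_injective, hcard, mul_comm]

namespace OGrp

variable {T : Tri S a b} {O : Subgroup G}

theorem odd (H : OGrp T O) {x : G} (hx : x ∈ O) : Odd (orderOf x) := (H.odd_iff x (H.le hx)).1 hx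

theorem A0_le (H : OGrp T O) : T.A0 ≤ O := fun x hx => by
  refine (H.odd_iff x (T.A0_le_K hx)).2 ?_
  exact Odd.of_dvd_nat (show Odd 27 by decide) (T.card_A0 ▸ Subgroup.orderOf_dvd_natCard _ hx)

theorem comm (H : OGrp T O) {x y : G} (hx : x ∈ O) (hy : y ∈ T.A0) : x * y = y * x := T.mem_K.1 (H.le hx) y hy

theorem conj (H : OGrp T O) {u x : G} (hu : u ∈ Subgroup.normalizer (T.A0 : Set G)) (hx : x ∈ O) :
    u * x * u⁻¹ ∈ O := by
  rw [H.odd_iff _ (T.K_conj hu (H.le hx)), orderOf_conj']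
  exact H.odd hx

theorem conjz (H : OGrp T O) {x : G} (hx : x ∈ O) : z * x * z ∈ O := by
  have := H.conj T.z_mem_N.2 hx
  rwa [S.code.zinv] at this

theorem fix_z (H : OGrp T O) {x : G} (hx : x ∈ O) (hz : x * z = z * x) : x ∈ T.A0 := by
  obtain ⟨n, hn, e, he, rfl⟩ := T.cent_A0 hz (T.mem_K.1 (H.le hx))
  interval_cases e
  · simpa using T.el3_mem hn
  · exfalso
    have h1 : el3 a n ∈ O := H.A0_le (T.el3_mem hn)
    have h2 : z ∈ O := by
      have := mul_mem (inv_mem h1) hx
      rwa [inv_mul_cancel_left, pow_one] at this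
    have := H.odd h2
    rw [S.code.ord] at this
    exact absurd this (by decide)

theorem zc (H : OGrp T O) (x y : G) : z * (x * y) * z = (z * x * z) * (z * y * z) := by
  rw [show (z * x * z) * (z * y * z) = z * x * (z * z) * y * z by group, S.code.ext.zz]; group

theorem zpow' (H : OGrp T O) {x : G} (k : ℕ) : z * x ^ k * z = (z * x * z) ^ k := by
  have := conj_pow (i := k) (a := z) (b := x)
  rw [S.code.zinv] at this
  exact this.symm

theorem fixA (H : OGrp T O) {x : G} (hx : x ∈ T.A0) : z * x * z = x := by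
  rw [← Subgroup.mem_centralizer_singleton_iff.1 (T.A0_le hx), mul_assoc, S.code.ext.zz, mul_one]

/-- Every element is a product of a rotation and an inverted element. -/
theorem decomp (H : OGrp T O) {g : G} (hg : g ∈ O) :
    ∃ x ∈ T.A0, ∃ d ∈ O, z * d * z = d⁻¹ ∧ g = x * d := by
  have hzz := S.code.ext.zz
  set c := g⁻¹ * (z * g * z) with hc
  have hcO : c ∈ O := mul_mem (inv_mem hg) (H.conjz hg)
  obtain ⟨m, hm⟩ := exists_half (H.odd hcO)
  set d := c ^ m with hd
  have hcz : z * c * z = c⁻¹ := by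
    rw [hc]
    calc z * (g⁻¹ * (z * g * z)) * z = z * g⁻¹ * z * g * (z * z) := by group
      _ = (g⁻¹ * (z * g * z))⁻¹ := by
          rw [hzz, mul_one, mul_inv_rev, mul_inv_rev, mul_inv_rev, inv_inv, S.code.zinv]
          simp only [mul_assoc]
  have hdz : z * d * z = d⁻¹ := by rw [hd, H.zpow', hcz, inv_pow]
  have hdO : d ∈ O := pow_mem hcO m
  have hx : g * d ∈ T.A0 := by
    refine H.fix_z (mul_mem hg hdO) ?_
    have e : z * (g * d) * z = g * d := by
      rw [H.zc, hdz, show z * g * z = g * c by rw [hc]; group, ← hm, pow_two]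
      group
    calc g * d * z = z * (g * d) * z * z := by rw [e]
      _ = z * (g * d) * (z * z) := by group
      _ = z * (g * d) := by rw [hzz, mul_one]
  refine ⟨g * d, hx, d⁻¹, inv_mem hdO, ?_, (mul_inv_cancel_right g d).symm⟩
  calc z * d⁻¹ * z = (z * d * z)⁻¹ := by rw [mul_inv_rev, mul_inv_rev, S.code.zinv]; group
    _ = d⁻¹⁻¹ := by rw [hdz]

theorem inv_inv' (H : OGrp T O) {d : G} (hd : z * d * z = d⁻¹) : z * d⁻¹ * z = d⁻¹⁻¹ := by
  calc z * d⁻¹ * z = (z * d * z)⁻¹ := by rw [mul_inv_rev, mul_inv_rev, S.code.zinv]; group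
    _ = d⁻¹⁻¹ := by rw [hd]

theorem inv_comm (H : OGrp T O) {d e : G} (hd : d ∈ O) (he : e ∈ O) (hdz : z * d * z = d⁻¹)
    (hez : z * e * z = e⁻¹) : ⁅d, e⁆ ∈ T.A0 := by
  obtain ⟨x, hx, f, hf, hfz, hde⟩ := H.decomp (mul_mem (inv_mem hd) (inv_mem he))
  have h1 : d * e = x * f⁻¹ := by
    have := H.zc d⁻¹ e⁻¹
    rw [hde, H.zc, H.fixA hx, hfz, H.inv_inv' hdz, H.inv_inv' hez, inv_inv, inv_inv] at this
    exact this.symm
  have : ⁅d, e⁆ = x * x := by
    rw [commutatorElement_def, mul_assoc (d * e), h1, hde]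
    calc x * f⁻¹ * (x * f) = x * (f⁻¹ * x) * f := by group
      _ = x * (x * f⁻¹) * f := by rw [H.comm (inv_mem hf) hx]
      _ = x * x := by group
  rw [this]
  exact mul_mem hx hx

theorem comm_mem (H : OGrp T O) {g h : G} (hg : g ∈ O) (hh : h ∈ O) : ⁅g, h⁆ ∈ T.A0 := by
  obtain ⟨x, hx, d, hd, hdz, rfl⟩ := H.decomp hg
  obtain ⟨y, hy, e, he, hez, rfl⟩ := H.decomp hh
  have e1 : ⁅x * d, y * e⁆ = ⁅d, e⁆ := by
    have cx : ∀ w ∈ O, w * x = x * w := fun w hw => H.comm hw hx
    have cy : ∀ w ∈ O, w * y = y * w := fun w hw => H.comm hw hy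
    rw [commutatorElement_def, commutatorElement_def]
    calc x * d * (y * e) * (x * d)⁻¹ * (y * e)⁻¹ = x * (d * y) * e * d⁻¹ * x⁻¹ * e⁻¹ * y⁻¹ := by group
      _ = x * y * (d * e * d⁻¹) * x⁻¹ * e⁻¹ * y⁻¹ := by rw [cy d hd]; group
      _ = y * (x * (d * e * d⁻¹)) * x⁻¹ * e⁻¹ * y⁻¹ := by rw [T.comm_A0 hx hy]; group
      _ = y * (d * e * d⁻¹) * e⁻¹ * y⁻¹ := by rw [← cx _ (mul_mem (mul_mem hd he) (inv_mem hd))]; group
      _ = y * (d * e * d⁻¹ * e⁻¹) * y⁻¹ := by group
      _ = _ := by rw [← cy _ (mul_mem (mul_mem (mul_mem hd he) (inv_mem hd)) (inv_mem he)), mul_inv_cancel_right]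
  rw [e1]
  exact H.inv_comm hd he hdz hez

theorem comm_central (H : OGrp T O) {g h w : G} (hg : g ∈ O) (hh : h ∈ O) (hw : w ∈ O) :
    ⁅g, h⁆ * w = w * ⁅g, h⁆ := (H.comm hw (H.comm_mem hg hh)).symm

end OGrp

end Tri

end Cfsg.Agent.Invol.Suz.Loc.Three
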