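import Cfsg.Agent.Lib.Invol.Suz.Loc.ThreeO

/-!
# The odd part of the centralizer of the rotations is a three-group
-/

set_option autoImplicit false
set_option linter.unusedSectionVars false
set_option linter.style.haveILetI false

namespace Cfsg.Agent.Invol.Suz.Loc.Three

open Cfsg Cfsg.Agent.Classical.BinCoc Cfsg.Agent.Invol.Big Cfsg.Agent.Invol.Big.Code Cfsg.Agent.Invol.Suz.Loc
open scoped commutatorElement

variable {G : Type*} [Group G] [Finite G] {z : G} {Q : Subgroup G} {cd : G → ℕ}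
variable {S : Setting z Q cd} {g : ℕ → G} {a b : ℕ → G}

/-- The centralizer of an element of order five has a small three-part. -/
theorem five_small (M : Mdl S g) {x : G} (hx : orderOf x = 5) : ¬ 27 ∣ Nat.card (Cx x) := by
  obtain ⟨β, hβ, hb5, hb1⟩ := Setting.exists_five S
  have hord := order_five hb5 hb1
  obtain ⟨P, hP⟩ := M.exists_sylow_five hx
  obtain ⟨-, hkinds⟩ := M.norm_five hβ hb5 hb1 P
  rcases hkinds x hP (fun e => by rw [e, orderOf_one] at hx; omega) with ⟨k, hk⟩ | ⟨k, c, hc, hco, hk⟩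
  · rw [← hk, card_Cx_conj, card_Cx, hord, M.card_Cx_b hβ hb5 hb1]
    norm_num
  · rw [← hk, card_Cx_conj, card_Cx, hco, M.card_Cx_c hβ hb5 hb1 hc hco]
    norm_num

theorem order_factor : 448345497600 = 2 ^ 13 * 3 ^ 7 * 5 ^ 2 * 7 * 11 * 13 := by norm_num

theorem prime_cases {q : ℕ} (hq : q.Prime) (h : q ∣ 448345497600) :
    q = 2 ∨ q = 3 ∨ q = 5 ∨ q = 7 ∨ q = 11 ∨ q = 13 := by
  rw [order_factor] at h
  simp only [hq.dvd_mul] at h
  have key : ∀ p k : ℕ, p.Prime → q ∣ p ^ k → q = p := fun p k hp hd =>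
    (Nat.prime_dvd_prime_iff_eq hq hp).1 (hq.dvd_of_dvd_pow hd)
  rcases h with ((((h | h) | h) | h) | h) | h
  · exact Or.inl (key 2 13 Nat.prime_two h)
  · exact Or.inr (Or.inl (key 3 7 Nat.prime_three h))
  · exact Or.inr (Or.inr (Or.inl (key 5 2 (by norm_num) h)))
  · exact Or.inr (Or.inr (Or.inr (Or.inl ((Nat.prime_dvd_prime_iff_eq hq (by norm_num)).1 h))))
  · exact Or.inr (Or.inr (Or.inr (Or.inr (Or.inl ((Nat.prime_dvd_prime_iff_eq hq (by norm_num)).1 h)))))
  · exact Or.inr (Or.inr (Or.inr (Or.inr (Or.inr ((Nat.prime_dvd_prime_iff_eq hq (by norm_num)).1 h)))))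

namespace Tri

variable {T : Tri S a b} {O : Subgroup G}

theorem b_mem_N (T : Tri S a b) {j : ℕ} (hj : j < 4) : b j ∈ T.N := by
  have r0 := T.rep_mem (show 6 < 24 by norm_num)
  have r1 := T.rep_mem (show 12 < 24 by norm_num)
  have r2 := T.rep_mem (show 3 < 24 by norm_num)
  have r3 := T.rep_mem (show 1 < 24 by norm_num)
  interval_cases j
  · simpa [rep, sEl, pEl] using r0
  · simpa [rep, sEl, pEl] using r1
  · simpa [rep, sEl, pEl] using r2
  · simpa [rep, sEl, pEl] using r3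

theorem b10 (T : Tri S a b) : b 1 * b 0 = b 0 * b 1 * z := by
  have e0 : (b 0)⁻¹ = b 0 * z := inv_eq_of_mul_eq_one_right (by rw [← mul_assoc, T.sq0, S.code.ext.zz])
  have e1 : (b 1)⁻¹ = b 1 * z := inv_eq_of_mul_eq_one_right (by rw [← mul_assoc, T.sq1, S.code.ext.zz])
  have h0 : z * b 1 = b 1 * z := ((T.hb 1 (by norm_num)).comm).symm
  calc b 1 * b 0 = (b 0)⁻¹ * (b 0 * b 1 * (b 0 * b 1)) * (b 1)⁻¹ := by group
    _ = b 0 * z * z * (b 1 * z) := by rw [T.sq01, e0, e1]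
    _ = b 0 * (z * z) * (b 1 * z) := by group
    _ = _ := by rw [S.code.ext.zz]; group

theorem OGrp.prime_inverted (H : OGrp T O) {x : G} {q : ℕ} (hq : q.Prime) (hq3 : q ≠ 3) (hx : x ∈ O)
    (hxq : orderOf x = q) : z * x * z = x⁻¹ := by
  obtain ⟨u, hu, d, hd, hdz, rfl⟩ := H.decomp hx
  have hc : Commute u d := (H.comm hd hu).symm
  have h1 : u ^ q * d ^ q = 1 := by rw [← hc.mul_pow, ← hxq, pow_orderOf_eq_one]
  have e : d ^ q = (u ^ q)⁻¹ := eq_inv_of_mul_eq_one_right h1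
  have hdq : d ^ q = 1 := by
    have h2 : z * d ^ q * z = (d ^ q)⁻¹ := by rw [H.zpow', hdz, inv_pow]
    rw [H.fixA (e ▸ inv_mem (pow_mem hu q))] at h2
    refine sq_inj (H.odd (pow_mem hd q)) (by simp) ?_
    rw [mul_one]
    conv_lhs => arg 2; rw [h2]
    rw [mul_inv_cancel]
  have hu1 : u = 1 := by
    rw [hdq, mul_one] at h1
    refine orderOf_eq_one_iff.1 (Nat.eq_one_of_dvd_coprimes ((Nat.coprime_primes hq Nat.prime_three).2 hq3)
      (orderOf_dvd_of_pow_eq_one h1) ?_)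
    obtain ⟨n, -, rfl⟩ := hu
    exact orderOf_dvd_of_pow_eq_one (T.el3_cube n)
  rw [hu1, one_mul, hdz]

theorem OGrp.prime_commute (H : OGrp T O) {x y : G} {q : ℕ} (hq : q.Prime) (hq3 : q ≠ 3) (hx : x ∈ O)
    (hxq : orderOf x = q) (hy : y ∈ O) : x * y = y * x := by
  set c := ⁅x, y⁆ with hc
  have hcA := H.comm_mem hx hy
  have hxc : Commute x c := H.comm hx hcA
  have e : y * x * y⁻¹ = c⁻¹ * x := by rw [hc, commutatorElement_def]; group
  have h1 : (c⁻¹ * x) ^ q = 1 := by rw [← e, conj_pow, ← hxq, pow_orderOf_eq_one, mul_one, mul_inv_cancel]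
  rw [(hxc.symm.inv_left).mul_pow, ← hxq, pow_orderOf_eq_one, mul_one, hxq, inv_pow, inv_eq_one] at h1
  have hc1 : c = 1 := by
    refine orderOf_eq_one_iff.1 (Nat.eq_one_of_dvd_coprimes ((Nat.coprime_primes hq Nat.prime_three).2 hq3)
      (orderOf_dvd_of_pow_eq_one h1) ?_)
    obtain ⟨n, -, hn⟩ := hcA
    rw [show c = el3 a n from hn.symm]
    exact orderOf_dvd_of_pow_eq_one (T.el3_cube n)
  rw [hc1, inv_one, one_mul] at e
  exact (mul_inv_eq_iff_eq_mul.1 e).symm

theorem OGrp.isPGroup (H : OGrp T O) (M : Mdl S g) : IsPGroup 3 O := by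
  suffices h : ∀ {q : ℕ}, q.Prime → q ∣ Nat.card O → q = 3 from
    IsPGroup.of_card (Nat.eq_prime_pow_of_unique_prime_dvd Nat.card_pos.ne' h)
  classical
  intro q hq hdvd
  haveI : Fact q.Prime := ⟨hq⟩
  obtain ⟨⟨x, hx⟩, hxq⟩ := exists_prime_orderOf_dvd_card' (G := O) q hdvd
  rw [Subgroup.orderOf_mk] at hxq
  by_contra hq3
  have hodd := H.odd hx
  have hG : q ∣ Nat.card G := hdvd.trans (Subgroup.card_subgroup_dvd_card O)
  rw [M.card_G] at hG
  have hxz := H.prime_inverted hq hq3 hx hxq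
  have hA : T.A0 ≤ Cx x := fun w hw => mem_Cx.2 (H.comm hx hw).symm
  rcases prime_cases hq hG with e | e | e | e
  · rw [hxq, e] at hodd; exact absurd hodd (by decide)
  · exact hq3 e
  · subst e
    exact five_small M hxq (by have := Subgroup.card_dvd_of_le hA; rwa [T.card_A0] at this)
  · have hq2 : ¬ q ^ 2 ∣ Nat.card (Cx x) := fun h2 => by
      have := h2.trans (Subgroup.card_subgroup_dvd_card _)
      rw [M.card_G] at this
      rcases e with rfl | rfl | rfl <;> norm_num at this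
    have key : ∀ j < 2, ∃ i : ℕ, b j * x * (b j)⁻¹ = x ^ i := by
      intro j hj
      have hN := T.b_mem_N (show j < 4 by omega)
      have hy := H.conj hN.2 hx
      have hyq : orderOf (b j * x * (b j)⁻¹) = q := by rw [orderOf_conj', hxq]
      obtain ⟨h, hh, hmem⟩ := conj_of_part hxq (mem_Cx.2 rfl) hyq
        (mem_Cx.2 (H.prime_commute hq hq3 hx hxq hy).symm) hq2
      rw [mem_zpowers_iff_mem_range_orderOf, Finset.mem_image] at hmem
      obtain ⟨i, -, hi⟩ := hmem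
      refine ⟨i, ?_⟩
      calc b j * x * (b j)⁻¹ = h⁻¹ * (h * (b j * x * (b j)⁻¹) * h⁻¹) * h := by group
        _ = h⁻¹ * (x ^ i * h) := by rw [← hi]; group
        _ = x ^ i := by
          rw [← ((show Commute h x from mem_Cx.1 hh).pow_right i).eq, inv_mul_cancel_left]
    obtain ⟨i, hi⟩ := key 0 (by norm_num)
    obtain ⟨j, hj⟩ := key 1 (by norm_num)
    have e1 : b 0 * b 1 * x * (b 0 * b 1)⁻¹ = x ^ (i * j) := by
      rw [show b 0 * b 1 * x * (b 0 * b 1)⁻¹ = b 0 * (b 1 * x * (b 1)⁻¹) * (b 0)⁻¹ by group, hj, ← conj_pow,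
        hi, ← pow_mul]
    have e2 : b 1 * b 0 * x * (b 1 * b 0)⁻¹ = x ^ (i * j) := by
      rw [show b 1 * b 0 * x * (b 1 * b 0)⁻¹ = b 1 * (b 0 * x * (b 0)⁻¹) * (b 1)⁻¹ by group, hi, ← conj_pow,
        hj, ← pow_mul, mul_comm]
    rw [T.b10] at e2
    have hzx : z * x * z⁻¹ = x := by
      apply mul_left_cancel (a := b 0 * b 1)
      apply mul_right_cancel (b := (b 0 * b 1)⁻¹)
      rw [e1, ← e2]
      group
    rw [S.code.zinv, hxz] at hzx
    have h2 : x ^ 2 = 1 := by rw [pow_two]; nth_rw 1 [← hzx]; rw [inv_mul_cancel]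
    have := orderOf_dvd_of_pow_eq_one h2
    rw [hxq] at this
    have := Nat.le_of_dvd (by norm_num) this
    rcases e with rfl | rfl | rfl <;> omega

end Tri

end Cfsg.Agent.Invol.Suz.Loc.Three
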