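import Cfsg.Agent.Lib.Invol.Suz.Loc.ThreeP

/-!
# The odd part of the centralizer of the rotations is elementary abelian of order 243
-/

set_option autoImplicit false
set_option linter.unusedSectionVars false
set_option linter.style.haveILetI false

namespace Cfsg.Agent.Invol.Suz.Loc.Three

open Cfsg Cfsg.Agent.Classical.BinCoc Cfsg.Agent.Invol.Big Cfsg.Agent.Invol.Big.Code Cfsg.Agent.Invol.Suz.Loc
open scoped commutatorElement

variable {G : Type*} [Group G] [Finite G] {z : G} {Q : Subgroup G} {cd : G → ℕ}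
variable {S : Setting z Q cd} {g : ℕ → G} {a b : ℕ → G}

theorem fix6 : ((List.range 27).all fun n => !(img 6 n == n && img 6 (img 1 n) == img 1 n) || n == 0) = true := by
  decide +kernel

theorem not_sq_neg : ∀ m : ℕ, ¬ 3 ∣ m * m + 1 := by
  intro m h
  have := Nat.mod_lt m (show 3 > 0 by norm_num)
  have h' : (m * m + 1) % 3 = 0 := Nat.mod_eq_zero_of_dvd h
  rw [Nat.add_mod, Nat.mul_mod] at h'
  interval_cases hm : m % 3 <;> simp at h'

namespace Tri

variable {T : Tri S a b} {O : Subgroup G}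

theorem rep_six (T : Tri S a b) : rep b 6 = b 0 ∧ rep b 1 = b 3 := by simp [rep, sEl, pEl]

theorem b0_not_K (T : Tri S a b) : b 3 ∉ T.K := fun h => by
  have h1 : b 3 * el3 a 1 * (b 3)⁻¹ = el3 a 1 := mul_inv_eq_iff_eq_mul.2 (T.mem_K.1 h _ (T.el3_mem (by norm_num)))
  rw [← T.rep_six.2, (T.img_spec (by norm_num) (by norm_num)).2] at h1
  exact absurd (T.el3_hat_inj (T.img_spec (by norm_num) (by norm_num)).1 (by norm_num) h1) (by decide)

namespace OGrp

theorem b0_z (H : OGrp T O) (x : G) : b 0 * (b 0 * x * (b 0)⁻¹) * (b 0)⁻¹ = z * x * z := by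
  conv_rhs => rw [show z * x * z = z * x * z⁻¹ by rw [S.code.zinv], ← T.sq0]
  group

theorem b0_mem (H : OGrp T O) {x : G} (hx : x ∈ O) : b 0 * x * (b 0)⁻¹ ∈ O := H.conj (T.b_mem_N (by norm_num)).2 hx

theorem b0_inv (H : OGrp T O) {x : G} (hx : z * x * z = x⁻¹) :
    z * (b 0 * x * (b 0)⁻¹) * z = (b 0 * x * (b 0)⁻¹)⁻¹ := by
  have hc : b 0 * z = z * b 0 := (T.hb 0 (by norm_num)).comm
  calc z * (b 0 * x * (b 0)⁻¹) * z = (z * b 0) * x * ((b 0)⁻¹ * z) := by group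
    _ = (b 0 * z) * x * (z * (b 0)⁻¹) := by rw [hc, comm_inv hc]
    _ = b 0 * (z * x * z) * (b 0)⁻¹ := by group
    _ = _ := by rw [hx]; group

theorem no_invariant (H : OGrp T O) {y : G} (hy : y ∈ O) (hyz : z * y * z = y⁻¹) (hy3 : y ^ 3 = 1) {m : ℕ}
    (hm : b 0 * y * (b 0)⁻¹ = y ^ m) : y = 1 := by
  by_contra hne
  haveI : Fact (Nat.Prime 3) := ⟨Nat.prime_three⟩
  have ho : orderOf y = 3 := orderOf_eq_prime hy3 hne
  have h := H.b0_z y
  rw [hm, ← conj_pow, hm, ← pow_mul, hyz] at h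
  refine not_sq_neg m (ho ▸ orderOf_dvd_of_pow_eq_one ?_)
  rw [pow_succ, h, inv_mul_cancel]

/-- The inverted elements. -/
def Inv (H : OGrp T O) : Type _ := {d : G // d ∈ O ∧ z * d * z = d⁻¹}

instance (H : OGrp T O) : Finite H.Inv := Subtype.finite

theorem inv_unique (H : OGrp T O) {x x' d d' : G} (hx : x ∈ T.A0) (hx' : x' ∈ T.A0) (hd : d ∈ O) (hd' : d' ∈ O)
    (hdz : z * d * z = d⁻¹) (hdz' : z * d' * z = d'⁻¹) (e : x * d = x' * d') : x = x' ∧ d = d' := by
  have e2 : x * d⁻¹ = x' * d'⁻¹ := by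
    have := congrArg (fun w => z * w * z) e
    simpa [H.zc, H.fixA hx, H.fixA hx', hdz, hdz'] using this
  have hsq : x * x = x' * x' := by
    calc x * x = x * d * (x * d⁻¹) := by
          rw [show x * d * (x * d⁻¹) = x * (d * x) * d⁻¹ by group, H.comm hd hx]; group
      _ = x' * d' * (x' * d'⁻¹) := by rw [e, e2]
      _ = x' * x' := by
          rw [show x' * d' * (x' * d'⁻¹) = x' * (d' * x') * d'⁻¹ by group, H.comm hd' hx']; group
  obtain rfl := sq_inj (H.odd (H.A0_le hx)) (H.odd (H.A0_le hx')) hsq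
  exact ⟨rfl, mul_left_cancel e⟩

theorem card_eq (H : OGrp T O) : Nat.card O = 27 * Nat.card H.Inv := by
  let F : T.A0 × H.Inv → O := fun p => ⟨p.1.1 * p.2.1, mul_mem (H.A0_le p.1.2) p.2.2.1⟩
  have : Function.Bijective F := by
    refine ⟨fun p q e => ?_, fun ⟨w, hw⟩ => ?_⟩
    · obtain ⟨h1, h2⟩ := H.inv_unique p.1.2 q.1.2 p.2.2.1 q.2.2.1 p.2.2.2 q.2.2.2 (congrArg Subtype.val e)
      exact Prod.ext (Subtype.ext h1) (Subtype.ext h2)
    · obtain ⟨x, hx, d, hd, hdz, rfl⟩ := H.decomp hw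
      exact ⟨(⟨x, hx⟩, ⟨d, hd, hdz⟩), rfl⟩
  rw [← Nat.card_eq_of_bijective _ this, Nat.card_prod, T.card_A0]

theorem card_le (H : OGrp T O) (M : Mdl S g) : ∃ n, Nat.card O = 3 ^ n ∧ n ≤ 6 := by
  haveI : Fact (Nat.Prime 3) := ⟨Nat.prime_three⟩
  obtain ⟨n, hn⟩ := IsPGroup.iff_card.1 (H.isPGroup M)
  refine ⟨n, hn, ?_⟩
  have hN : Subgroup.zpowers (b 3) ≤ Subgroup.normalizer (O : Set G) :=
    Subgroup.zpowers_le.2 (mem_norm_of fun x hx => H.conj (T.b_mem_N (by norm_num)).2 hx)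
  have hb : IsPGroup 3 (Subgroup.zpowers (b 3)) := by
    obtain ⟨j, -, hj⟩ := (Nat.dvd_prime_pow Nat.prime_three).1
      (orderOf_dvd_of_pow_eq_one (show b 3 ^ 3 ^ 1 = 1 by rw [pow_one]; exact T.b3))
    exact IsPGroup.of_card (n := j) (by rw [Nat.card_zpowers, hj])
  have hsup : IsPGroup 3 ↥(Subgroup.zpowers (b 3) ⊔ O) :=
    IsPGroup.to_sup_of_normal_right' hb (H.isPGroup M) hN
  obtain ⟨m, hm⟩ := IsPGroup.iff_card.1 hsup
  have hlt : O < Subgroup.zpowers (b 3) ⊔ O := lt_of_le_of_ne le_sup_right fun e => T.b0_not_K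
    (H.le (e ▸ Subgroup.mem_sup_left (Subgroup.mem_zpowers (b 3)) : b 3 ∈ O))
  have hnm : n < m := by
    refine (Nat.pow_lt_pow_iff_right (show 1 < 3 by norm_num)).1 ?_
    rw [← hn, ← hm]
    exact lt_of_le_of_ne (Subgroup.card_le_of_le hlt.le) fun e => hlt.ne (Subgroup.eq_of_le_of_card_ge hlt.le e.ge)
  have h7 : m ≤ 7 := by
    have h := hm ▸ Subgroup.card_subgroup_dvd_card (Subgroup.zpowers (b 3) ⊔ O)
    rw [M.card_G] at h
    by_contra hcon
    exact absurd ((pow_dvd_pow 3 (show 8 ≤ m by omega)).trans h) (by norm_num)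
  omega

theorem ne_A0 (H : OGrp T O) (M : Mdl S g) : O ≠ T.A0 := by
  intro e
  haveI : Fact (Nat.Prime 3) := ⟨Nat.prime_three⟩
  -- then the normalizer is inside the centralizer of `z`
  have hK : ∀ w ∈ T.K, orderOf w = 2 → w = z := by
    intro w hw hw2
    have hcard := H.card
    rw [e, T.card_A0] at hcard
    let F : T.A0 × Fin 2 → T.K := fun p => ⟨p.1.1 * z ^ (p.2 : ℕ), mul_mem (T.A0_le_K p.1.2) (pow_mem T.z_mem_K _)⟩
    have hF : Function.Bijective F := by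
      refine (Nat.bijective_iff_injective_and_card F).2 ⟨fun p q h => ?_, by
        rw [hcard, Nat.card_prod, T.card_A0, Nat.card_fin]⟩
      obtain ⟨⟨_, n, hn, rfl⟩, i⟩ := p
      obtain ⟨⟨_, n', hn', rfl⟩, i'⟩ := q
      obtain ⟨h1, h2⟩ := T.el3_zpow_inj hn hn' (by omega : (i : ℕ) ≤ 1) (by omega : (i' : ℕ) ≤ 1) (congrArg Subtype.val h)
      subst h1
      rw [Fin.ext h2]
    obtain ⟨⟨⟨_, n, hn, rfl⟩, i⟩, hp⟩ := hF.2 ⟨w, hw⟩
    have hwe : el3 a n * z ^ (i : ℕ) = w := congrArg Subtype.val hp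
    have hi : (i : ℕ) ≤ 1 := by omega
    have h2 : w ^ 2 = 1 := hw2 ▸ pow_orderOf_eq_one w
    rw [← hwe, ((show Commute (el3 a n) z from T.z_comm_el3 hn).pow_right _).mul_pow, ← pow_mul, mul_comm (i : ℕ),
      pow_mul, pow_two z, S.code.ext.zz, one_pow, mul_one] at h2
    have hn1 : el3 a n = 1 := orderOf_eq_one_iff.1 (Nat.eq_one_of_dvd_coprimes (by norm_num : Nat.Coprime 2 3)
      (orderOf_dvd_of_pow_eq_one h2) (orderOf_dvd_of_pow_eq_one (T.el3_cube n)))
    rw [hn1, one_mul] at hwe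
    rcases Nat.le_one_iff_eq_zero_or_eq_one.1 hi with k | k <;> rw [k] at hwe
    · rw [← hwe, pow_zero, orderOf_one] at hw2; omega
    · rw [← hwe, pow_one]
  have hNA : Subgroup.normalizer (T.A0 : Set G) ≤ T.N := fun u hu => by
    have := hK _ (T.K_conj hu T.z_mem_K) (by rw [orderOf_conj', S.code.ord])
    exact T.mem_N.2 ⟨mul_inv_eq_iff_eq_mul.1 this, hu⟩
  obtain ⟨R, hR, hAR, hRN, -⟩ := T.exists_R
  obtain ⟨P, hP⟩ := (IsPGroup.of_card (n := 4) (by rw [hR]; rfl) : IsPGroup 3 R).exists_le_sylow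
  have hPc : Nat.card (P : Subgroup G) = 2187 := by
    rw [P.card_eq_multiplicity, M.card_G, show 448345497600 = 3 ^ 7 * 205004800 by norm_num,
      Nat.factorization_mul (by norm_num) (by norm_num), Finsupp.add_apply,
      Nat.Prime.factorization_pow Nat.prime_three, Finsupp.single_eq_same,
      Nat.factorization_eq_zero_of_not_dvd (by norm_num : ¬ 3 ∣ 205004800)]
    norm_num
  haveI := P.isPGroup'.isNilpotent
  set R' := R.subgroupOf (P : Subgroup G)
  have hlt : R' < ⊤ := lt_top_iff_ne_top.2 fun e => by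
    have := Subgroup.card_le_of_le (Subgroup.subgroupOf_eq_top.1 e)
    rw [hR, hPc] at this
    omega
  obtain ⟨w, hw, hwR⟩ := SetLike.exists_of_lt (Group.normalizerCondition_of_isNilpotent R' hlt)
  have hwn : ∀ x ∈ R, (w : G) * x * (w : G)⁻¹ ∈ R := fun x hx =>
    (Subgroup.mem_normalizer_iff.1 hw ⟨x, hP hx⟩).1 hx
  have hwA : (w : G) ∈ Subgroup.normalizer (T.A0 : Set G) := by
    have hB : T.A0.map (MulAut.conj (w : G)).toMonoidHom = T.A0 := by
      refine T.abelian_R hR hAR hRN (fun y ⟨x, hx, e⟩ => e ▸ hwn x (hAR hx)) ?_ ?_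
      · rintro _ ⟨x, hx, rfl⟩ _ ⟨y, hy, rfl⟩
        rw [← map_mul, ← map_mul, T.comm_A0 hx hy]
      · rw [Subgroup.card_map_of_injective (MulAut.conj (w : G)).injective, T.card_A0]
    exact mem_norm_of fun x hx => by rw [← hB]; exact ⟨x, hx, rfl⟩
  have hsup : Subgroup.zpowers (w : G) ⊔ R ≤ T.N :=
    sup_le (Subgroup.zpowers_le.2 (hNA hwA)) hRN
  have hsupP : Subgroup.zpowers (w : G) ⊔ R ≤ (P : Subgroup G) := sup_le (Subgroup.zpowers_le.2 w.2) hP
  obtain ⟨m, hm⟩ := IsPGroup.iff_card.1 (P.isPGroup'.to_le hsupP)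
  have h4 : 4 < m := by
    refine (Nat.pow_lt_pow_iff_right (show 1 < 3 by norm_num)).1 ?_
    rw [← hm, show (3 : ℕ) ^ 4 = 81 by norm_num, ← hR]
    refine lt_of_le_of_ne (Subgroup.card_le_of_le le_sup_right) fun e => hwR ?_
    show (w : G) ∈ R
    rw [Subgroup.eq_of_le_of_card_ge le_sup_right e.ge]
    exact Subgroup.mem_sup_left (Subgroup.mem_zpowers _)
  have := (pow_dvd_pow 3 (show 5 ≤ m by omega)).trans (hm ▸ Subgroup.card_dvd_of_le hsup)
  rw [T.card_N] at this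
  norm_num at this

/-- The order. -/
theorem card_O (H : OGrp T O) (M : Mdl S g) : Nat.card O = 243 ∧ Nat.card H.Inv = 9 := by
  classical
  obtain ⟨n, hn, hn6⟩ := H.card_le M
  have hc := H.card_eq
  have hgt : 27 < Nat.card O := by
    rcases Nat.lt_or_ge 27 (Nat.card O) with h | h
    · exact h
    · exact absurd (Subgroup.eq_of_le_of_card_ge H.A0_le (by rw [T.card_A0]; exact h)).symm (H.ne_A0 M)
  let σ : Equiv.Perm {d : H.Inv // d.1 ≠ 1} :=
    { toFun := fun d => ⟨⟨b 0 * d.1.1 * (b 0)⁻¹, H.b0_mem d.1.2.1, H.b0_inv d.1.2.2⟩, fun e =>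
        d.2 (conj_eq_one_iff.1 e)⟩
      invFun := fun d => ⟨⟨b 0 * d.1.1⁻¹ * (b 0)⁻¹, H.b0_mem (inv_mem d.1.2.1), H.b0_inv (H.inv_inv' d.1.2.2)⟩,
        fun e => d.2 (inv_eq_one.1 (conj_eq_one_iff.1 e))⟩
      left_inv := fun d => Subtype.ext (Subtype.ext (by
        show b 0 * (b 0 * d.1.1 * (b 0)⁻¹)⁻¹ * (b 0)⁻¹ = d.1.1
        rw [show b 0 * (b 0 * d.1.1 * (b 0)⁻¹)⁻¹ * (b 0)⁻¹ = b 0 * (b 0 * d.1.1⁻¹ * (b 0)⁻¹) * (b 0)⁻¹ by group,
          H.b0_z, H.inv_inv' d.1.2.2, inv_inv]))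
      right_inv := fun d => Subtype.ext (Subtype.ext (by
        show b 0 * (b 0 * d.1.1⁻¹ * (b 0)⁻¹) * (b 0)⁻¹ = d.1.1
        rw [H.b0_z, H.inv_inv' d.1.2.2, inv_inv])) }
  have hσ : ∀ d, (σ (σ d)).1.1 = d.1.1⁻¹ := fun d => by
    show b 0 * (b 0 * d.1.1 * (b 0)⁻¹) * (b 0)⁻¹ = _
    rw [H.b0_z, d.1.2.2]
  have h4 := four_dvd_card σ (fun d => Subtype.ext (Subtype.ext (by rw [hσ, hσ, inv_inv]))) fun d e => d.2 (by
    have h2 : d.1.1⁻¹ = d.1.1 := (hσ d).symm.trans (congrArg (fun v => v.1.1) e)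
    refine sq_inj (H.odd d.1.2.1) (by simp) ?_
    rw [mul_one]
    nth_rw 1 [← h2]
    rw [inv_mul_cancel])
  have hsub : Nat.card {d : H.Inv // d.1 ≠ 1} + 1 = Nat.card H.Inv := by
    have h1 : (1 : G) ∈ O ∧ z * 1 * z = (1 : G)⁻¹ := ⟨one_mem _, by simp [S.code.ext.zz]⟩
    haveI := Fintype.ofFinite H.Inv
    rw [Nat.card_eq_fintype_card, Nat.card_eq_fintype_card, Fintype.card_subtype_compl]
    have : Fintype.card {d : H.Inv // d.1 = 1} = 1 :=
      Fintype.card_eq_one_iff.2 ⟨⟨⟨1, h1⟩, rfl⟩, fun d => Subtype.ext (Subtype.ext d.2)⟩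
    have hle := Fintype.card_subtype_le (fun d : H.Inv => d.1 = 1)
    omega
  rw [hn] at hc hgt
  interval_cases n <;> omega

/-- All elements have exponent three. -/
theorem inv_cube (H : OGrp T O) (M : Mdl S g) {x : G} (hx : x ∈ O) (hxz : z * x * z = x⁻¹) : x ^ 3 = 1 := by
  classical
  haveI : Fact (Nat.Prime 3) := ⟨Nat.prime_three⟩
  by_contra h3
  obtain ⟨hO, hI⟩ := H.card_O M
  have hpw : ∀ k : ℕ, z * x ^ k * z = (x ^ k)⁻¹ := fun k => by rw [H.zpow', hxz, inv_pow]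
  let F : Fin (orderOf x) → H.Inv := fun k => ⟨x ^ (k : ℕ), pow_mem hx _, hpw k⟩
  have hinj : Function.Injective F := fun k l e => Fin.ext (pow_injOn_Iio_orderOf k.2 l.2 (congrArg Subtype.val e))
  have hle : orderOf x ≤ 9 := by
    have := Nat.card_le_card_of_injective F hinj
    rwa [Nat.card_fin, hI] at this
  obtain ⟨j, -, hj⟩ := (Nat.dvd_prime_pow Nat.prime_three).1
    ((show Nat.card O = 3 ^ 5 from hO) ▸ Subgroup.orderOf_dvd_natCard _ hx)
  have hj2 : j = 2 := by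
    have h1 : ¬ j ≤ 1 := fun h => h3 (orderOf_dvd_iff_pow_eq_one.1 (by
      rw [hj]; exact (pow_dvd_pow 3 h).trans (by norm_num)))
    by_contra hne
    have := Nat.pow_le_pow_right (show 0 < 3 by norm_num) (show 3 ≤ j by omega)
    omega
  have hsurj : Function.Surjective F := ((Nat.bijective_iff_injective_and_card F).2
    ⟨hinj, by rw [Nat.card_fin, hI, hj, hj2]; rfl⟩).2
  obtain ⟨k, hk⟩ := hsurj ⟨_, H.b0_mem hx, H.b0_inv hxz⟩
  have hk' : x ^ (k : ℕ) = b 0 * x * (b 0)⁻¹ := congrArg Subtype.val hk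
  refine h3 (H.no_invariant (pow_mem hx 3) (hpw 3) ?_ (m := k) ?_)
  · rw [← pow_mul, ← orderOf_dvd_iff_pow_eq_one, hj, hj2]; norm_num
  · rw [← conj_pow, ← hk', ← pow_mul, ← pow_mul, mul_comm]

/-- The group is abelian. -/
theorem abelian (H : OGrp T O) (M : Mdl S g) {x y : G} (hx : x ∈ O) (hy : y ∈ O) : x * y = y * x := by
  classical
  haveI : Fact (Nat.Prime 3) := ⟨Nat.prime_three⟩
  obtain ⟨hO, hI⟩ := H.card_O M
  obtain ⟨d, hd1⟩ : ∃ d : H.Inv, d.1 ≠ 1 := by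
    by_contra hcon
    push Not at hcon
    haveI : Subsingleton H.Inv := ⟨fun u v => Subtype.ext ((hcon u).trans (hcon v).symm)⟩
    have := Finite.card_le_one_iff_subsingleton.2 ‹Subsingleton H.Inv›
    omega
  obtain ⟨i, hi, hiz⟩ := d
  replace hd1 : i ≠ 1 := hd1
  set j := b 0 * i * (b 0)⁻¹ with hjdef
  have hj : j ∈ O := H.b0_mem hi
  have hjz := H.b0_inv hiz
  have hij : ∀ m : ℕ, j ≠ i ^ m := fun m e => hd1 (H.no_invariant hi hiz (H.inv_cube M hi hiz) e)
  have hj1 : j ≠ 1 := fun e => hd1 (conj_eq_one_iff.1 e)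
  -- generation
  set gens : Set G := (T.A0 : Set G) ∪ {i, j} with hgens
  have hle : Subgroup.closure gens ≤ O := by
    rw [Subgroup.closure_le]
    rintro w (hw | rfl | rfl)
    exacts [H.A0_le hw, hi, hj]
  have hgen : Subgroup.closure gens = O := by
    refine Subgroup.eq_of_le_of_card_ge hle ?_
    let W : Fin 4 → H.Inv :=
      ![⟨1, one_mem _, by simp [S.code.ext.zz]⟩, ⟨i, hi, hiz⟩, ⟨i⁻¹, inv_mem hi, H.inv_inv' hiz⟩, ⟨j, hj, hjz⟩]
    have hW : ∀ k, (W k).1 ∈ Subgroup.closure gens := by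
      have hiC : i ∈ Subgroup.closure gens := Subgroup.subset_closure (Or.inr (Or.inl rfl))
      intro k
      fin_cases k
      exacts [one_mem _, hiC, inv_mem hiC, Subgroup.subset_closure (Or.inr (Or.inr rfl))]
    have hii : i ≠ i⁻¹ := fun e => hd1 (sq_inj (H.odd hi) (by simp) (by rw [mul_one]; nth_rw 1 [e]; rw [inv_mul_cancel]))
    have hij2 : j ≠ i⁻¹ := fun e => hij 2 (by
      rw [e]
      exact inv_eq_of_mul_eq_one_right (by rw [← pow_succ']; exact H.inv_cube M hi hiz))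
    have hij1 : j ≠ i := fun e => hij 1 (by rw [pow_one]; exact e)
    have hWi : Function.Injective W := by
      intro k l e
      have e' : (W k).1 = (W l).1 := congrArg Subtype.val e
      have h1i : (1 : G) ≠ i⁻¹ := fun e => hd1 (inv_eq_one.1 e.symm)
      fin_cases k <;> fin_cases l <;> simp [W, Ne.symm hd1, hd1, hii, Ne.symm hii, hj1, Ne.symm hj1, hij1,
        Ne.symm hij1, hij2, Ne.symm hij2, h1i, Ne.symm h1i] at e' ⊢
    have h108 : 108 ≤ Nat.card (Subgroup.closure gens) := by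
      let F : T.A0 × Fin 4 → Subgroup.closure gens := fun p =>
        ⟨p.1.1 * (W p.2).1, mul_mem (Subgroup.subset_closure (Or.inl p.1.2)) (hW p.2)⟩
      have := Nat.card_le_card_of_injective F fun p q e => by
        obtain ⟨h1, h2⟩ := H.inv_unique p.1.2 q.1.2 (W p.2).2.1 (W q.2).2.1 (W p.2).2.2 (W q.2).2.2
          (congrArg Subtype.val e)
        exact Prod.ext (Subtype.ext h1) (hWi (Subtype.ext h2))
      rwa [Nat.card_prod, T.card_A0, Nat.card_fin] at this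
    obtain ⟨m, hm, hmc⟩ := (Nat.dvd_prime_pow Nat.prime_three).1
      ((show Nat.card O = 3 ^ 5 from hO) ▸ Subgroup.card_dvd_of_le hle)
    rw [hO, hmc]
    rw [hmc] at h108
    have h5 : m = 5 := by
      by_contra hne
      have := Nat.pow_le_pow_right (show 0 < 3 by norm_num) (show m ≤ 4 by omega)
      omega
    rw [h5]; norm_num
  set D := Subgroup.zpowers ⁅i, j⁆ with hD
  have hDA : ∀ w ∈ D, w ∈ T.A0 := fun w hw => (Subgroup.zpowers_le.2 (H.comm_mem hi hj)) hw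
  have hcen : ∀ {u v : G}, u ∈ O → v ∈ D → u * v = v * u := fun hu hv => H.comm hu (hDA _ hv)
  have hmul : ∀ {u u' v : G}, u ∈ O → u' ∈ O → v ∈ O → ⁅u * u', v⁆ = ⁅u, v⁆ * ⁅u', v⁆ := by
    intro u u' v hu hu' hv
    have hc := H.comm_central hu' hv hu
    have h2 := T.comm_A0 (H.comm_mem hu hv) (H.comm_mem hu' hv)
    rw [h2]
    have : ⁅u * u', v⁆ = u * ⁅u', v⁆ * u⁻¹ * ⁅u, v⁆ := by simp only [commutatorElement_def]; group
    rw [this, ← hc, mul_inv_cancel_right]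
  have hinv : ∀ {u v : G}, u ∈ O → v ∈ O → ⁅u⁻¹, v⁆ = ⁅u, v⁆⁻¹ := by
    intro u v hu hv
    refine eq_inv_of_mul_eq_one_left ?_
    rw [← hmul (inv_mem hu) hu hv, inv_mul_cancel, commutatorElement_one_left]
  have step : ∀ v ∈ O, (∀ w ∈ gens, ⁅w, v⁆ ∈ D) → ∀ u ∈ O, ⁅u, v⁆ ∈ D := by
    intro v hv hg u hu
    rw [← hgen] at hu
    induction hu using Subgroup.closure_induction with
    | mem w hw => exact hg w hw
    | one => rw [commutatorElement_one_left]; exact one_mem _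
    | mul w w' hw hw' ih ih' => rw [hmul (hle hw) (hle hw') hv]; exact mul_mem ih ih'
    | inv w hw ih => rw [hinv (hle hw) hv]; exact inv_mem ih
  have hA1 : ∀ w ∈ T.A0, ∀ v ∈ O, ⁅w, v⁆ = 1 := fun w hw v hv =>
    commutatorElement_eq_one_iff_mul_comm.2 (H.comm hv hw).symm
  have hsym : ∀ u v : G, ⁅u, v⁆ ∈ D → ⁅v, u⁆ ∈ D := fun u v h => by
    rw [← commutatorElement_inv]; exact inv_mem h
  have hgensD : ∀ w ∈ gens, ∀ w' ∈ gens, ⁅w, w'⁆ ∈ D := by
    rintro w (hw | rfl | rfl) w' hw'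
    · rw [hA1 w hw w' (hle (Subgroup.subset_closure hw'))]; exact one_mem _
    · rcases hw' with hw' | rfl | rfl
      · exact hsym _ _ (by rw [hA1 _ hw' _ hi]; exact one_mem _)
      · rw [commutatorElement_self]; exact one_mem _
      · exact Subgroup.mem_zpowers _
    · rcases hw' with hw' | rfl | rfl
      · exact hsym _ _ (by rw [hA1 _ hw' _ hj]; exact one_mem _)
      · exact hsym _ _ (Subgroup.mem_zpowers _)
      · rw [commutatorElement_self]; exact one_mem _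
  have hDall : ∀ u ∈ O, ∀ v ∈ O, ⁅u, v⁆ ∈ D := fun u hu v hv =>
    step v hv (fun w hw => hsym _ _ (step w (hle (Subgroup.subset_closure hw))
      (fun w' hw' => hgensD w' hw' w hw) v hv)) u hu
  -- `b 0` fixes the commutators
  have hb0c : b 0 * ⁅i, j⁆ * (b 0)⁻¹ = ⁅i, j⁆ := by
    have e : b 0 * ⁅i, j⁆ * (b 0)⁻¹ = ⁅j, b 0 * j * (b 0)⁻¹⁆ := by
      simp only [commutatorElement_def, hjdef]; group
    have e' : b 0 * j * (b 0)⁻¹ = i⁻¹ := by rw [hjdef, H.b0_z, hiz]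
    rw [e, e', ← commutatorElement_inv, hinv hi hj, inv_inv]
  have hfixD : ∀ w ∈ D, b 0 * w * (b 0)⁻¹ = w := by
    intro w hw
    obtain ⟨k, rfl⟩ := Subgroup.mem_zpowers_iff.1 hw
    rw [← conj_zpow, hb0c]
  obtain ⟨n, hn, hne⟩ := H.comm_mem hi hj
  have hs : b 3 * ⁅i, j⁆ * (b 3)⁻¹ ∈ D := by
    have hN := (T.b_mem_N (show 3 < 4 by norm_num)).2
    have e : b 3 * ⁅i, j⁆ * (b 3)⁻¹ = ⁅b 3 * i * (b 3)⁻¹, b 3 * j * (b 3)⁻¹⁆ := by
      simp only [commutatorElement_def]; group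
    rw [e]
    exact hDall _ (H.conj hN hi) _ (H.conj hN hj)
  have h6 := T.rep_six
  have hs6 := T.img_spec (show 6 < 24 by norm_num) hn
  have hs1 := T.img_spec (show 1 < 24 by norm_num) hn
  have hn0 : n = 0 := by
    have k1 : img 6 n = n := T.el3_hat_inj hs6.1 hn (by rw [← hs6.2, h6.1, hne, hb0c])
    have k2 : img 6 (img 1 n) = img 1 n := by
      refine T.el3_hat_inj (T.img_spec (by norm_num) hs1.1).1 hs1.1 ?_
      rw [← (T.img_spec (show 6 < 24 by norm_num) hs1.1).2, h6.1, ← hs1.2, h6.2, hne, hfixD _ hs]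
    have := fix6
    simp only [List.all_eq_true, List.mem_range, Bool.or_eq_true, Bool.not_eq_true', Bool.and_eq_false_iff,
      beq_eq_false_iff_ne, beq_iff_eq] at this
    rcases this n hn with (h | h) | h
    · exact absurd k1 h
    · exact absurd k2 h
    · exact h
  rw [hn0, el3_zero] at hne
  have := hDall x hx y hy
  rw [hD, ← hne, Subgroup.zpowers_one_eq_bot, Subgroup.mem_bot] at this
  exact commutatorElement_eq_one_iff_mul_comm.1 this

theorem cube (H : OGrp T O) (M : Mdl S g) {x : G} (hx : x ∈ O) : x ^ 3 = 1 := by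
  obtain ⟨u, hu, d, hd, hdz, rfl⟩ := H.decomp hx
  obtain ⟨n, hn, rfl⟩ := hu
  rw [(show Commute (el3 a n) d from H.abelian M (H.A0_le ⟨n, hn, rfl⟩) hd).mul_pow, T.el3_cube,
    H.inv_cube M hd hdz, one_mul]

theorem self_cent (H : OGrp T O) (M : Mdl S g) : Subgroup.centralizer (O : Set G) = O := by
  refine le_antisymm (fun x hx => ?_) fun x hx => Subgroup.mem_centralizer_iff.2 fun w hw => H.abelian M hw hx
  have hxK : x ∈ T.K := T.mem_K.2 fun w hw => (Subgroup.mem_centralizer_iff.1 hx w (H.A0_le hw)).symm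
  by_contra hxO
  have hidx : (O.subgroupOf T.K).index = 2 := by
    have := Subgroup.card_mul_index (O.subgroupOf T.K)
    rw [Nat.card_congr (Subgroup.subgroupOfEquivOfLe H.le).toEquiv, H.card, mul_comm 2] at this
    exact Nat.eq_of_mul_eq_mul_left Nat.card_pos this
  have hzO : z ∉ O := fun h => by
    have := H.odd h
    rw [S.code.ord] at this
    exact absurd this (by decide)
  have hxz : x * z ∈ O := (Subgroup.mul_mem_iff_of_index_two hidx (a := ⟨x, hxK⟩) (b := ⟨z, T.z_mem_K⟩)).2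
    (iff_of_false hxO hzO)
  have hle : O ≤ T.A0 := fun w hw => by
    refine H.fix_z hw ?_
    have h1 : w * x = x * w := Subgroup.mem_centralizer_iff.1 hx w hw
    have h2 : w * (x * z) = x * z * w := H.abelian M hw hxz
    calc w * z = x⁻¹ * (w * x) * z := by rw [h1]; group
      _ = x⁻¹ * (w * (x * z)) := by group
      _ = z * w := by rw [h2]; group
  have := Subgroup.card_le_of_le hle
  rw [(H.card_O M).1, T.card_A0] at this
  omega

theorem norm_mem (H : OGrp T O) {u : G} (hu : u ∈ Subgroup.normalizer (T.A0 : Set G)) :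
    u ∈ Subgroup.normalizer (O : Set G) := mem_norm_of fun _ hx => H.conj hu hx

end OGrp

end Tri

end Cfsg.Agent.Invol.Suz.Loc.Three
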