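import Cfsg.Agent.Lib.Invol.Suz.Loc.ThreeX

/-!
# The normalizer of the first plane's rotations in the normalizer of the elementary group
-/

set_option autoImplicit false
set_option linter.unusedSectionVars false
set_option linter.style.haveILetI false

namespace Cfsg.Agent.Invol.Suz.Loc.Three

open Cfsg Cfsg.Agent.Classical.BinCoc Cfsg.Agent.Invol.Big Cfsg.Agent.Invol.Big.Code Cfsg.Agent.Invol.Suz.Loc
open Cfsg.Agent.Invol.GL23 (toV toV_mul toV_one toV_injective toV_surj)

variable {G : Type*} [Group G] [Finite G] {z : G} {Q : Subgroup G} {cd : G → ℕ}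
variable {S : Setting z Q cd} {g : ℕ → G} {a b : ℕ → G}

theorem five_table : ∀ R : Fin 241, ∀ n : Fin 241, (R.val = 80 ∨ R.val = 240) → n.val % 5 = 1 → n.val % 4 = 0 →
    (R.val / 5) % n.val = 0 → n.val = 16 := by decide +kernel

theorem five_arith {R c e n : ℕ} (hR : R = 80 ∨ R = 240) (hc : ¬ 2 ∣ c) (hc5 : 5 ∣ c) (he : e ∣ 4)
    (hn : n % 5 = 1) (h : R = c * e * n) : e = 1 := by
  obtain ⟨q, rfl⟩ := hc5
  have hq : ¬ 2 ∣ q := fun hq => hc (Dvd.dvd.mul_left hq 5)
  have hR5 : R / 5 = q * e * n := by rw [h, mul_assoc, mul_assoc, Nat.mul_div_cancel_left _ (by norm_num)]; ring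
  have h4n : 4 ∣ n := by
    have h16 : 16 ∣ R := by rcases hR with rfl | rfl <;> norm_num
    have hq5 : Nat.Coprime (2 ^ 4) (5 * q) := Nat.Coprime.pow_left 4 ((Nat.Prime.coprime_iff_not_dvd Nat.prime_two).2 hc)
    have h1 : 16 ∣ e * n := hq5.dvd_of_dvd_mul_left (by rw [← mul_assoc, ← h]; exact h16)
    obtain ⟨f, hf⟩ := he
    have h2 : 16 ∣ 4 * n := by rw [hf, mul_right_comm]; exact h1.mul_right f
    omega
  have hR' : R < 241 := by rcases hR with rfl | rfl <;> norm_num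
  have hn' : n < 241 := by
    have : n ∣ R := ⟨5 * q * e, by rw [h]; ring⟩
    have := Nat.le_of_dvd (by rcases hR with rfl | rfl <;> norm_num) this
    omega
  have hn16 := five_table ⟨R, hR'⟩ ⟨n, hn'⟩ hR hn (by show n % 4 = 0; omega)
    (Nat.mod_eq_zero_of_dvd ⟨q * e, by rw [hR5]; ring⟩)
  rw [show n = 16 from hn16] at hR5
  rcases hR with rfl | rfl
  · have : q * e = 1 := by omega
    exact (Nat.eq_one_of_mul_eq_one_left this)
  · have hqe : q * e = 3 := by omega
    have : e ∣ 3 := ⟨q, by rw [← hqe, mul_comm]⟩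
    exact Nat.eq_one_of_dvd_coprimes (by norm_num : Nat.Coprime 4 3) he this

namespace Tri.OGrp

variable {T : Tri S a b} {O : Subgroup G}

theorem no_cent (H : OGrp T O) (M : Mdl S g) {w t : Wq O} {p : ℕ} (hp : p = 5 ∨ p = 11) (hw : orderOf w = p)
    (ht : orderOf t = 2) : w * t ≠ t * w := fun hc => by
  have := Subgroup.orderOf_dvd_natCard (Subgroup.centralizer ({t} : Set (Wq O)))
    (x := w) (Subgroup.mem_centralizer_singleton_iff.2 hc)
  rw [H.invol_cent M ht, hw] at this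
  rcases hp with rfl | rfl <;> norm_num at this

theorem cx_odd (H : OGrp T O) (M : Mdl S g) {R : Subgroup (Wq O)} {w : Wq O} {p : ℕ} (hp : p = 5 ∨ p = 11)
    (hw : orderOf w = p) : ¬ 2 ∣ Nat.card (cx R w) := fun h => by
  haveI : Fact (Nat.Prime 2) := ⟨Nat.prime_two⟩
  obtain ⟨⟨t, ht⟩, ho⟩ := exists_prime_orderOf_dvd_card' (G := cx R w) 2 h
  rw [Subgroup.orderOf_mk] at ho
  exact H.no_cent M hp hw ho (mem_cx.1 ht).2.symm

theorem no_normalize (H : OGrp T O) (M : Mdl S g) {T' : Subgroup (Wq O)} (hT : Nat.card T' = 16) {y : Wq O}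
    (hy : y ∈ Subgroup.normalizer (T' : Set (Wq O))) (hy5 : orderOf y = 5) : False := by
  classical
  haveI : Fact (Nat.Prime 2) := ⟨Nat.prime_two⟩
  obtain ⟨e⟩ := H.cent_iso M
  obtain ⟨ψ, h, hψ⟩ := GL23.exists_emb H.orderOf_zW e
  set R0 := GL23.Semi.map ψ with hR0
  have hR0c : Nat.card R0 = 16 := by rw [hR0, Subgroup.card_map_of_injective h.inj, GL23.card_Semi]
  have full : ∀ U : Subgroup (Wq O), Nat.card U = 16 → ∃ P : Sylow 2 (Wq O), (P : Subgroup (Wq O)) = U := by
    intro U hU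
    obtain ⟨P, hP⟩ := (IsPGroup.of_card (n := 4) (by rw [hU]; rfl) : IsPGroup 2 U).exists_le_sylow
    refine ⟨P, (Subgroup.eq_of_le_of_card_ge hP ?_).symm⟩
    obtain ⟨n, hn⟩ := IsPGroup.iff_card.1 P.isPGroup'
    rw [hn, hU]
    by_contra hlt
    have h5 : 5 ≤ n := by
      by_contra h5
      have := Nat.pow_le_pow_right (show 0 < 2 by norm_num) (show n ≤ 4 by omega)
      omega
    exact GL23.sylow_sixteen h ((pow_dvd_pow 2 h5).trans (hn ▸ Subgroup.card_subgroup_dvd_card _))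
  obtain ⟨P0, hP0⟩ := full R0 hR0c
  obtain ⟨P1, hP1⟩ := full T' hT
  obtain ⟨c, hc⟩ := MulAction.exists_smul_eq (Wq O) P1 P0
  have hmap : ∀ x, x ∈ T' ↔ c * x * c⁻¹ ∈ R0 := by
    intro x
    rw [← hP1, ← hP0, ← hc, Sylow.coe_subgroup_smul]
    exact (Subgroup.smul_mem_pointwise_smul_iff (a := MulAut.conj c) (x := x)).symm
  set y' := c * y * c⁻¹ with hy'
  have hy'5 : orderOf y' = 5 := by rw [hy', orderOf_conj', hy5]
  have hnorm : ∀ x ∈ R0, y' * x * y'⁻¹ ∈ R0 := by
    intro x hx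
    have h1 : c⁻¹ * x * c ∈ T' := by
      rw [hmap, show c * (c⁻¹ * x * c) * c⁻¹ = x by group]; exact hx
    have h2 := (hmap _).1 ((Subgroup.mem_normalizer_iff.1 hy _).1 h1)
    rwa [show c * (y * (c⁻¹ * x * c) * y⁻¹) * c⁻¹ = y' * x * y'⁻¹ by rw [hy']; group] at h2
  have hy'n : y' ∈ Subgroup.normalizer (R0 : Set (Wq O)) := mem_norm_of hnorm
  have hzS : GL23.neg ∈ GL23.Semi := by
    show GL23.pS (toV GL23.neg) = true
    rw [GL23.toV_neg]; decide
  obtain ⟨x, hxS, hx⟩ := hnorm _ (Subgroup.mem_map_of_mem ψ hzS)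
  have hxn : x = GL23.neg := by
    refine toV_injective ((GL23.semi_central_table _ (GL23.mem_units x) hxS ?_ ?_ (decide_eq_true ?_)).trans GL23.toV_neg.symm)
    · rw [← toV_mul, ← toV_one]
      refine congrArg toV (h.inj ?_)
      rw [map_mul, hx, map_one, conj_mul, ← map_mul, GL23.neg_mul_neg, map_one, mul_one, mul_inv_cancel]
    · rw [← toV_one]
      refine fun e' => GL23.neg_ne_one (h.inj ?_)
      rw [toV_injective e', map_one] at hx
      rw [map_one]
      exact conj_eq_one_iff.1 hx.symm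
    · intro v hv hvS
      obtain ⟨q, rfl⟩ := toV_surj (Finset.mem_filter.1 hv).2
      rw [← toV_mul, ← toV_mul]
      refine congrArg toV (h.inj ?_)
      have hq : y'⁻¹ * ψ q * y' ∈ R0 := by
        rw [Subgroup.mem_normalizer_iff.1 hy'n (y'⁻¹ * ψ q * y'),
          show y' * (y'⁻¹ * ψ q * y') * y'⁻¹ = ψ q by group]
        exact Subgroup.mem_map_of_mem ψ hvS
      obtain ⟨r, -, hr⟩ := hq
      have hb : ψ q = y' * ψ r * y'⁻¹ := by rw [hr]; group
      rw [map_mul, map_mul, hx, hb, conj_mul, conj_mul, ← map_mul, ← map_mul, GL23.neg_comm]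
  rw [hxn, hψ] at hx
  exact H.no_cent M (p := 5) (Or.inl rfl) hy'5 H.orderOf_zW (mul_inv_eq_iff_eq_mul.1 hx.symm)

theorem nine_dvd (H : OGrp T O) (M : Mdl S g) (R : Subgroup (Wq O)) (h16 : 16 ∣ Nat.card R) (h66 : 66 ≤ Nat.card R) :
    9 ∣ Nat.card R := by
  classical
  by_contra h9
  have hW := (H.m11 M).2
  have hR : Nat.card R ∣ 7920 := hW ▸ Subgroup.card_subgroup_dvd_card R
  have hsq : ∀ p : ℕ, p = 5 ∨ p = 11 → ¬ p ^ 2 ∣ Nat.card R := fun p hp h2 => by
    have := h2.trans hR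
    rcases hp with rfl | rfl <;> norm_num at this
  have h11 : ¬ 11 ∣ Nat.card R := fun h11 => by
    haveI : Fact (Nat.Prime 11) := ⟨by norm_num⟩
    obtain ⟨⟨x, hxR⟩, hx⟩ := exists_prime_orderOf_dvd_card' (G := R) 11 h11
    rw [Subgroup.orderOf_mk] at hx
    obtain ⟨n, hn, hcard⟩ := sylow_count hx hxR (hsq 11 (Or.inr rfl))
    obtain ⟨e, he, hnz⟩ := index_cx (H := R) hx
    exact eleven_arith hR h16 h9 h11 (H.cx_odd M (Or.inr rfl) hx)
      (hx ▸ Subgroup.orderOf_dvd_natCard _ (mem_cx.2 ⟨hxR, rfl⟩)) he hn (by rw [hcard, hnz])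
  obtain ⟨m, hm⟩ := h16
  have hm495 : m ∣ 495 := Nat.dvd_of_mul_dvd_mul_left (show 0 < 16 by norm_num) (by rw [← hm]; exact hR)
  have hcases : Nat.card R = 80 ∨ Nat.card R = 240 := by
    have hd : m ∣ 45 := Nat.Coprime.dvd_of_dvd_mul_right (k := m) (n := 11) (m := 45)
      ((Nat.Prime.coprime_iff_not_dvd (by norm_num : Nat.Prime 11)).2 (fun h => h11 (hm ▸ h.mul_left 16))).symm hm495
    have hle := Nat.le_of_dvd (by norm_num) hd
    rw [hm] at h9 h66 ⊢
    interval_cases m <;> first | omega | skip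
    all_goals exact absurd hd (by norm_num)
  haveI : Fact (Nat.Prime 5) := ⟨by norm_num⟩
  have h5 : 5 ∣ Nat.card R := by rcases hcases with e | e <;> rw [e] <;> norm_num
  obtain ⟨⟨x, hxR⟩, hx⟩ := exists_prime_orderOf_dvd_card' (G := R) 5 h5
  rw [Subgroup.orderOf_mk] at hx
  obtain ⟨n, hn, hcard⟩ := sylow_count hx hxR (hsq 5 (Or.inl rfl))
  obtain ⟨e, he, hnz⟩ := index_cx (H := R) hx
  have he1 : e = 1 := five_arith hcases (H.cx_odd M (Or.inl rfl) hx)
    (hx ▸ Subgroup.orderOf_dvd_natCard _ (mem_cx.2 ⟨hxR, rfl⟩)) he hn (by rw [hcard, hnz])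
  -- transfer
  rw [he1, mul_one] at hnz
  obtain ⟨P, hP⟩ := exists_sylow_zpowers hx hxR (hsq 5 (Or.inl rfl))
  have heq : cx R x = nz R x := Subgroup.eq_of_le_of_card_ge (cx_le_nz R x) hnz.le
  have hNC : Subgroup.normalizer ((P : Subgroup R) : Set R) ≤ Subgroup.centralizer ((P : Subgroup R) : Set R) := by
    intro u hu
    have h1 : (⟨x, hxR⟩ : R) ∈ (P : Subgroup R) := by
      rw [hP, Subgroup.mem_subgroupOf]; exact Subgroup.mem_zpowers x
    have h2 : u * ⟨x, hxR⟩ * u⁻¹ ∈ (P : Subgroup R) := (Subgroup.mem_normalizer_iff.1 hu _).1 h1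
    rw [hP, Subgroup.mem_subgroupOf] at h2
    have hux : (u : Wq O) * x = x * u := (mem_cx.1 (heq ▸ mem_nz_of hx u.2 h2)).2
    refine Subgroup.mem_centralizer_iff.2 fun w hw => ?_
    rw [SetLike.mem_coe, hP, Subgroup.mem_subgroupOf] at hw
    obtain ⟨k, hk⟩ := Subgroup.mem_zpowers_iff.1 hw
    refine Subtype.ext ?_
    show (w : Wq O) * u = u * w
    rw [← hk]
    exact ((show Commute (u : Wq O) x from hux).zpow_right k).eq.symm
  have hc := MonoidHom.ker_transferSylow_isComplement' P hNC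
  set Kr := (MonoidHom.transferSylow P hNC).ker
  have hPc : Nat.card (P : Subgroup R) = 5 := by
    rw [hP, Nat.card_congr (Subgroup.subgroupOfEquivOfLe (Subgroup.zpowers_le.2 hxR)).toEquiv, Nat.card_zpowers, hx]
  have hKr := hc.card_mul
  rw [hPc] at hKr
  haveI : Fact (Nat.Prime 2) := ⟨Nat.prime_two⟩
  obtain ⟨P2⟩ : Nonempty (Sylow 2 Kr) := inferInstance
  have hP2 : Nat.card (P2 : Subgroup Kr) = 16 := by
    have hk : Nat.card Kr = 16 ∨ Nat.card Kr = 16 * 3 := by omega
    rw [P2.card_eq_multiplicity]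
    rcases hk with e' | e' <;> rw [e']
    · rw [show (16 : ℕ) = 2 ^ 4 by norm_num, Nat.Prime.factorization_pow Nat.prime_two, Finsupp.single_eq_same]
    · rw [show (16 : ℕ) = 2 ^ 4 by norm_num, Nat.factorization_mul (by norm_num) (by norm_num), Finsupp.add_apply,
        Nat.Prime.factorization_pow Nat.prime_two, Finsupp.single_eq_same,
        Nat.factorization_eq_zero_of_not_dvd (by norm_num : ¬ 2 ∣ 3)]
  have hsup := Sylow.normalizer_sup_eq_top (N := Kr) P2
  set U := (P2 : Subgroup Kr).map Kr.subtype with hU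
  set NU := Subgroup.normalizer (U : Set R)
  have hprod : Nat.card (↑(NU ⊔ Kr) : Subgroup R) ∣ Nat.card NU * Nat.card Kr := by
    have h1 : Kr.relIndex (NU ⊔ Kr) = Kr.relIndex NU := Subgroup.relIndex_sup_right _ _
    have h2 : Kr.relIndex (NU ⊔ Kr) * Nat.card Kr = Nat.card (↑(NU ⊔ Kr) : Subgroup R) := by
      have := Subgroup.card_mul_index (Kr.subgroupOf (NU ⊔ Kr))
      rw [Nat.card_congr (Subgroup.subgroupOfEquivOfLe (le_sup_right : Kr ≤ NU ⊔ Kr)).toEquiv, mul_comm] at this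
      exact this
    rw [← h2, h1]
    exact Nat.mul_dvd_mul_right (Subgroup.index_dvd_card (Kr.subgroupOf NU)) _
  rw [show (↑(NU ⊔ Kr) : Subgroup R) = ⊤ from hsup, Subgroup.card_top] at hprod
  have h5N : 5 ∣ Nat.card NU := by
    rcases ((by norm_num : Nat.Prime 5)).dvd_mul.1 (h5.trans hprod) with h' | h'
    · exact h'
    · omega
  obtain ⟨⟨y, hyN⟩, hy5⟩ := exists_prime_orderOf_dvd_card' (G := NU) 5 h5N
  rw [Subgroup.orderOf_mk] at hy5
  refine H.no_normalize M (T' := U.map R.subtype) ?_ (y := (y : Wq O)) ?_ (by rw [Subgroup.orderOf_coe]; exact hy5)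
  · rw [Subgroup.card_map_of_injective Subtype.coe_injective, hU, Subgroup.card_map_of_injective Subtype.coe_injective, hP2]
  · refine mem_norm_of fun w hw => ?_
    obtain ⟨w0, hw0, rfl⟩ := hw
    exact ⟨y * w0 * y⁻¹, (Subgroup.mem_normalizer_iff.1 hyN w0).1 hw0, by simp⟩

theorem orbit_six (T : Tri S a b) : Nat.card {w // ∃ u ∈ T.N, u * a 0 * u⁻¹ = w} = 6 := by
  have h := six_move.2.1
  simp only [List.all_eq_true, List.mem_range, List.any_eq_true, beq_iff_eq] at h
  have e0 : el3 a (six 0) = a 0 := el3_single (i := 0) (by norm_num)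
  let F : Fin 6 → {w // ∃ u ∈ T.N, u * a 0 * u⁻¹ = w} := fun s => ⟨el3 a (six s), by
    obtain ⟨k, hk, e⟩ := h s s.2
    exact ⟨rep b k, T.rep_mem hk, by rw [← e0, (T.prm_spec hk (show 0 < 6 by norm_num)).2, e]⟩⟩
  have : Function.Bijective F := by
    refine ⟨fun s t e => Fin.ext (six_inj _ s.2 _ t.2
      (T.el3_hat_inj (six_lt _ s.2) (six_lt _ t.2) (congrArg Subtype.val e))), fun ⟨w, u, hu, e⟩ => ?_⟩
    obtain ⟨j, hj, hje⟩ := T.N_six hu (show 0 < 6 by norm_num)
    exact ⟨⟨j, hj⟩, Subtype.ext (by show el3 a (six j) = w; rw [← hje, e0, e])⟩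
  rw [← Nat.card_eq_of_bijective _ this, Nat.card_fin]

theorem orbit_eq (x : G) (K : Subgroup G) :
    Nat.card K = Nat.card {w // ∃ u ∈ K, u * x * u⁻¹ = w} * Nat.card (cx K x) :=
  card_of_orbit K (cx K x) x _ (fun v => mem_cx) (fun _ hw => hw) (fun u hu => ⟨u, hu, rfl⟩)

/-- The normalizer of the rotations of the first plane has full three-part in that of the elementary group. -/
theorem pow_seven_dvd (H : OGrp T O) (M : Mdl S g) :
    3 ^ 7 ∣ Nat.card (nz (Subgroup.normalizer (O : Set G)) (a 0)) := by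
  classical
  haveI : Fact (Nat.Prime 3) := ⟨Nat.prime_three⟩
  have e0 : el3 a (six 0) = a 0 := el3_single (i := 0) (by norm_num)
  have ha1 : a 0 ≠ 1 := fun e => by
    have := T.el3_hat_inj (n := 1) (m := 0) (by norm_num) (by norm_num)
      (by rw [show el3 a 1 = a 0 from el3_single (i := 0) (by norm_num), el3_zero, e])
    omega
  have hord : orderOf (a 0) = 3 := orderOf_eq_prime (T.a3 0 (by norm_num)) ha1
  set NO := Subgroup.normalizer (O : Set G)
  have hb0 := (T.b_mem_N (show 0 < 4 by norm_num))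
  have hbinv : b 0 * a 0 * (b 0)⁻¹ = a 0 * a 0 := by
    have := (T.prm_spec (show 6 < 24 by norm_num) (show 0 < 6 by norm_num)).2
    rw [T.rep_six.1, six_move.2.2, e0] at this
    rw [this, show six 1 = add (six 0) (six 0) from rfl,
      ← (T.el3_mul (by decide : six 0 < 27) (by decide : six 0 < 27)).2, e0]
  have two : ∀ K : Subgroup G, b 0 ∈ K → Nat.card (nz K (a 0)) = Nat.card (cx K (a 0)) * 2 := by
    intro K hK
    obtain ⟨e, he, hnz⟩ := index_cx (H := K) hord
    rcases (Nat.dvd_prime Nat.prime_two).1 he with rfl | rfl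
    · exfalso
      have hmem : b 0 ∈ nz K (a 0) := mem_nz_of hord hK (by
        rw [hbinv]; exact mul_mem (Subgroup.mem_zpowers _) (Subgroup.mem_zpowers _))
      rw [mul_one] at hnz
      rw [← Subgroup.eq_of_le_of_card_ge (cx_le_nz K (a 0)) hnz.le] at hmem
      have h2 := (mem_cx.1 hmem).2
      rw [mul_inv_eq_iff_eq_mul, h2] at hbinv
      exact ha1 (mul_eq_left.1 (mul_right_cancel hbinv).symm)
    · exact hnz
  -- the part in the centralizer
  have h432 : Nat.card (nz T.N (a 0)) = 432 := by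
    have h := orbit_eq (a 0) T.N
    rw [T.card_N, orbit_six T] at h
    rw [two T.N hb0]
    omega
  have hle : nz T.N (a 0) ≤ nz NO (a 0) := inf_le_inf_right _ H.N_le_norm
  -- the orbit
  set X := {w // ∃ u ∈ NO, u * a 0 * u⁻¹ = w}
  have hX : Nat.card X ≤ 242 := by
    have h243 := (H.card_O M).1
    have : Nat.card {w : O // w ≠ 1} = 242 := by
      haveI := Fintype.ofFinite O
      rw [Nat.card_eq_fintype_card, Fintype.card_subtype_compl, Fintype.card_subtype_eq, ← Nat.card_eq_fintype_card, h243]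
    rw [← this]
    refine Nat.card_le_card_of_injective (fun w : X => (⟨⟨w.1, ?_⟩, ?_⟩ : {w : O // w ≠ 1})) fun w w' e =>
      Subtype.ext (congrArg (fun v : {w : O // w ≠ 1} => (v.1 : G)) e)
    · obtain ⟨u, hu, e⟩ := w.2
      rw [← e]
      exact (Subgroup.mem_normalizer_iff.1 hu _).1 (H.A0_le (T.a_mem (by norm_num)))
    · intro e'
      obtain ⟨u, hu, e⟩ := w.2
      rw [show w.1 = 1 from congrArg Subtype.val e'] at e
      exact ha1 (conj_eq_one_iff.1 e)
  have hNO : Nat.card NO = 7920 * 243 := by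
    rw [Subgroup.card_eq_card_quotient_mul_card_subgroup (O.subgroupOf NO),
      Nat.card_congr (Subgroup.subgroupOfEquivOfLe (Subgroup.le_normalizer (H := O))).toEquiv, (H.card_O M).1]
    rw [show Nat.card (↥NO ⧸ O.subgroupOf NO) = 7920 from (H.m11 M).2]
  have hOle : O ≤ nz NO (a 0) := fun x hx => cx_le_nz _ _ (mem_cx.2 ⟨Subgroup.le_normalizer hx,
    H.comm hx (T.a_mem (by norm_num))⟩)
  -- the image in the quotient
  set R := ((nz NO (a 0)).subgroupOf NO).map (toW O) with hR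
  have hRc : Nat.card (nz NO (a 0)) = 243 * Nat.card R := by
    have hcm : R.comap (toW O) = (nz NO (a 0)).subgroupOf NO := by
      rw [hR, Subgroup.comap_map_eq_self]
      rw [QuotientGroup.ker_mk']
      exact fun x hx => hOle hx
    have := card_comap_mk (O.subgroupOf NO) R
    rw [show R.comap (QuotientGroup.mk' (O.subgroupOf NO)) = (nz NO (a 0)).subgroupOf NO from hcm,
      Nat.card_congr (Subgroup.subgroupOfEquivOfLe (inf_le_left : nz NO (a 0) ≤ NO)).toEquiv,
      Nat.card_congr (Subgroup.subgroupOfEquivOfLe (Subgroup.le_normalizer (H := O))).toEquiv, (H.card_O M).1] at this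
    exact this
  have h16 : 16 ∣ Nat.card R := by
    have := Subgroup.card_dvd_of_le hle
    rw [h432, hRc] at this
    exact (Nat.Coprime.dvd_of_dvd_mul_left (by norm_num : Nat.Coprime 16 243) ((show 16 ∣ 432 by norm_num).trans this))
  have h66 : 66 ≤ Nat.card R := by
    have h : Nat.card NO = Nat.card X * Nat.card (cx NO (a 0)) := orbit_eq (a 0) NO
    rw [hNO] at h
    have h2 := two NO (H.N_le_norm hb0)
    rw [hRc] at h2
    by_contra hlt
    have h3 : Nat.card X * Nat.card (cx NO (a 0)) ≤ 242 * Nat.card (cx NO (a 0)) := Nat.mul_le_mul_right _ hX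
    omega
  rw [hRc]
  rw [show (3 : ℕ) ^ 7 = 243 * 9 by norm_num]
  exact mul_dvd_mul (dvd_refl 243) (H.nine_dvd M R h16 h66)

end Tri.OGrp

end Cfsg.Agent.Invol.Suz.Loc.Three
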