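import Cfsg.Agent.Lib.Invol.Suz.Loc.ThreeQ
import Cfsg.Agent.Lib.Invol.GLTwoThreeEmbed

/-!
# The centralizer of the image of `z` in the normalizer of the elementary group
-/

set_option autoImplicit false
set_option linter.unusedSectionVars false
set_option linter.style.haveILetI false

namespace Cfsg.Agent.Invol.Suz.Loc.Three

open Cfsg Cfsg.Agent.Classical.BinCoc Cfsg.Agent.Invol.Big Cfsg.Agent.Invol.Big.Code Cfsg.Agent.Invol.Suz.Loc

variable {G : Type*} [Group G] [Finite G] {z : G} {Q : Subgroup G} {cd : G → ℕ}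
variable {S : Setting z Q cd} {g : ℕ → G} {a b : ℕ → G}

theorem wit_ok : ((List.range 24).all fun k => k == 0 || (List.range 24).any fun k1 => (List.range 24).any fun k2 =>
    ((List.range 6).all fun s => prm k2 (prm k (prm k1 s)) == prm 6 (prm k2 (prm k1 (prm k s)))) &&
    (List.range 6).all fun t => (List.range 6).any fun s => prm k2 (prm k1 (prm k s)) == t) = true := by
  decide +kernel

theorem pow_zval {x : G} (h : x ^ 3 = 1) (a b : ZMod 3) :
    x ^ (a + b).val = x ^ a.val * x ^ b.val ∧ (x ^ a.val) ^ b.val = x ^ (a * b).val := by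
  rw [← pow_add, ← pow_mul, pow_eq_pow_mod (a.val + b.val) h, pow_eq_pow_mod (a.val * b.val) h, ← ZMod.val_add,
    ← ZMod.val_mul]
  exact ⟨rfl, rfl⟩

theorem sq_one_zmod : ∀ x : ZMod 3, x ≠ 0 → x * x = 1 := by decide

/-- The elementary group is normal in its normalizer. -/
instance normal_in_norm (O : Subgroup G) : (O.subgroupOf (Subgroup.normalizer (O : Set G))).Normal :=
  Subgroup.normal_in_normalizer

/-- The quotient of the normalizer. -/
abbrev Wq (O : Subgroup G) : Type _ :=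
  ↥(Subgroup.normalizer (O : Set G)) ⧸ O.subgroupOf (Subgroup.normalizer (O : Set G))

/-- The projection. -/
abbrev toW (O : Subgroup G) : ↥(Subgroup.normalizer (O : Set G)) →* Wq O := QuotientGroup.mk' _

theorem toW_eq_one {O : Subgroup G} {u : Subgroup.normalizer (O : Set G)} : toW O u = 1 ↔ (u : G) ∈ O :=
  (QuotientGroup.eq_one_iff u).trans Subgroup.mem_subgroupOf

namespace Tri.OGrp

variable {T : Tri S a b} {O : Subgroup G}

theorem inf_C (H : OGrp T O) {x : G} (hx : x ∈ O) (hz : x * z = z * x) : x ∈ T.A0 := H.fix_z hx hz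

theorem N_le_norm (H : OGrp T O) : T.N ≤ Subgroup.normalizer (O : Set G) := fun _ hu => H.norm_mem hu.2

/-- The map from the normalizer in the centralizer to the quotient. -/
def toWN (H : OGrp T O) : T.N →* Wq O := (toW O).comp (Subgroup.inclusion H.N_le_norm)

/-- The image of `z`. -/
def zW (H : OGrp T O) : Wq O := H.toWN ⟨z, T.z_mem_N⟩

theorem toWN_eq_one (H : OGrp T O) {u : T.N} : H.toWN u = 1 ↔ (u : G) ∈ T.A0 := by
  rw [toWN, MonoidHom.comp_apply, toW_eq_one]
  exact ⟨fun h => H.fix_z h (T.mem_N.1 u.2).1, fun h => H.A0_le h⟩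

theorem card_ker_N (H : OGrp T O) : Nat.card H.toWN.ker = 27 := by
  have : H.toWN.ker = T.A0.subgroupOf T.N := by
    ext u
    rw [MonoidHom.mem_ker, H.toWN_eq_one, Subgroup.mem_subgroupOf]
  rw [this, Nat.card_congr (Subgroup.subgroupOfEquivOfLe T.A0_le_N).toEquiv, T.card_A0]

theorem orderOf_zW (H : OGrp T O) : orderOf H.zW = 2 := by
  refine orderOf_eq_prime ?_ fun e => ?_
  · rw [zW, ← map_pow, ← map_one H.toWN]
    exact congrArg _ (Subtype.ext (by simp [pow_two, S.code.ext.zz]))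
  · have := H.odd (H.A0_le (H.toWN_eq_one.1 e))
    rw [S.code.ord] at this
    exact absurd this (by decide)

theorem range_eq (H : OGrp T O) : H.toWN.range = Subgroup.centralizer ({H.zW} : Set (Wq O)) := by
  refine le_antisymm ?_ fun w hw => ?_
  · rintro _ ⟨u, rfl⟩
    rw [Subgroup.mem_centralizer_singleton_iff, zW, ← map_mul, ← map_mul]
    exact congrArg _ (Subtype.ext (T.mem_N.1 u.2).1)
  obtain ⟨v, rfl⟩ := QuotientGroup.mk'_surjective _ w
  rw [Subgroup.mem_centralizer_singleton_iff] at hw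
  set v' : G := (v : G)
  have hc : v' * z * v'⁻¹ * z⁻¹ ∈ O := by
    have h1 : toW O (v * ⟨z, H.N_le_norm T.z_mem_N⟩ * v⁻¹ * ⟨z, H.N_le_norm T.z_mem_N⟩⁻¹) = 1 := by
      rw [map_mul, map_mul, map_mul, map_inv, map_inv]
      calc toW O v * toW O ⟨z, _⟩ * (toW O v)⁻¹ * (toW O ⟨z, _⟩)⁻¹
          = toW O ⟨z, H.N_le_norm T.z_mem_N⟩ * toW O v * (toW O v)⁻¹ * (toW O ⟨z, H.N_le_norm T.z_mem_N⟩)⁻¹ := by
            rw [show toW O v * toW O ⟨z, H.N_le_norm T.z_mem_N⟩ =
              toW O ⟨z, H.N_le_norm T.z_mem_N⟩ * toW O v from hw]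
        _ = 1 := by group
    exact toW_eq_one.1 h1
  set c := v' * z * v'⁻¹ * z⁻¹ with hcdef
  have hzz := S.code.ext.zz
  have hcz : z * c * z = c⁻¹ := by
    rw [hcdef, S.code.zinv]
    calc z * (v' * z * v'⁻¹ * z) * z = z * v' * z * v'⁻¹ * (z * z) := by group
      _ = (v' * z * v'⁻¹ * z)⁻¹ := by
        rw [hzz, mul_one, mul_inv_rev, mul_inv_rev, mul_inv_rev, inv_inv, S.code.zinv]; simp only [mul_assoc]
  obtain ⟨m, hm⟩ := exists_half (H.odd hc)
  set d := c ^ m with hd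
  have hdO : d ∈ O := pow_mem hc m
  have hdz : z * d * z = d⁻¹ := by rw [hd, H.zpow', hcz, inv_pow]
  have hconj : d * z * d⁻¹ = v' * z * v'⁻¹ := by
    calc d * z * d⁻¹ = d * (z * d⁻¹ * z) * z⁻¹ := by group
      _ = c * z := by rw [H.inv_inv' hdz, inv_inv, S.code.zinv, ← pow_two, hm]
      _ = v' * z * v'⁻¹ := by rw [hcdef]; group
  set u := d⁻¹ * v' with hu
  have huz : u * z = z * u := by
    rw [← mul_inv_eq_iff_eq_mul, hu]
    calc d⁻¹ * v' * z * (d⁻¹ * v')⁻¹ = d⁻¹ * (v' * z * v'⁻¹) * d := by group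
      _ = z := by rw [← hconj]; group
  have hun : u ∈ Subgroup.normalizer (O : Set G) := mul_mem (inv_mem (Subgroup.le_normalizer hdO)) v.2
  have huN : u ∈ T.N := T.mem_N.2 ⟨huz, mem_norm_of fun x hx => H.fix_z
    ((Subgroup.mem_normalizer_iff.1 hun x).1 (H.A0_le hx)) (by
      calc u * x * u⁻¹ * z = u * x * (z * u⁻¹) := by rw [mul_assoc (u * x), comm_inv huz]
        _ = u * (x * z) * u⁻¹ := by group
        _ = u * (z * x) * u⁻¹ := by rw [Subgroup.mem_centralizer_singleton_iff.1 (T.A0_le hx)]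
        _ = u * z * x * u⁻¹ := by group
        _ = _ := by rw [huz]; group)⟩
  refine ⟨⟨u, huN⟩, ?_⟩
  have e : (⟨u, hun⟩ : Subgroup.normalizer (O : Set G)) = ⟨d, Subgroup.le_normalizer hdO⟩⁻¹ * v := Subtype.ext rfl
  show toW O ⟨u, hun⟩ = toW O v
  rw [e, map_mul, map_inv, toW_eq_one.2 hdO, inv_one, one_mul]

theorem card_range_N (H : OGrp T O) : Nat.card H.toWN.range = 48 := by
  have h := Subgroup.card_eq_card_quotient_mul_card_subgroup H.toWN.ker
  rw [T.card_N, H.card_ker_N, Nat.card_congr (QuotientGroup.quotientKerEquivRange H.toWN).toEquiv] at h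
  omega

theorem N_inv (H : OGrp T O) {u x : G} (hu : u ∈ T.N) (hxz : z * x * z = x⁻¹) :
    z * (u * x * u⁻¹) * z = (u * x * u⁻¹)⁻¹ := by
  have hc := (T.mem_N.1 hu).1
  calc z * (u * x * u⁻¹) * z = (z * u) * x * (u⁻¹ * z) := by group
    _ = (u * z) * x * (z * u⁻¹) := by rw [hc, comm_inv hc]
    _ = u * (z * x * z) * u⁻¹ := by group
    _ = _ := by rw [hxz]; group

/-- A combination of a vector and its image under the first sign change. -/
def vec (b : ℕ → G) (i : G) (p : ZMod 3 × ZMod 3) : G := i ^ p.1.val * (b 0 * i * (b 0)⁻¹) ^ p.2.val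

theorem vec_mem (H : OGrp T O) (M : Mdl S g) {i : G} (hi : i ∈ O) (hiz : z * i * z = i⁻¹) (p : ZMod 3 × ZMod 3) :
    vec b i p ∈ O ∧ z * vec b i p * z = (vec b i p)⁻¹ := by
  have hj := H.b0_mem hi
  refine ⟨mul_mem (pow_mem hi _) (pow_mem hj _), ?_⟩
  rw [vec, H.zc, H.zpow', H.zpow', hiz, H.b0_inv hiz, inv_pow, inv_pow, mul_inv_rev]
  exact H.abelian M (inv_mem (pow_mem hi _)) (inv_mem (pow_mem hj _))

theorem vec_add (H : OGrp T O) (M : Mdl S g) {i : G} (hi : i ∈ O) (p q : ZMod 3 × ZMod 3) :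
    vec b i (p + q) = vec b i p * vec b i q := by
  have hj := H.b0_mem hi
  simp only [vec, Prod.fst_add, Prod.snd_add]
  rw [(pow_zval (H.cube M hi) p.1 q.1).1, (pow_zval (H.cube M hj) p.2 q.2).1]
  exact ((show Commute (i ^ q.1.val) ((b 0 * i * (b 0)⁻¹) ^ p.2.val) from
    H.abelian M (pow_mem hi _) (pow_mem hj _))).mul_mul_mul_comm _ _

theorem vec_smul (H : OGrp T O) (M : Mdl S g) {i : G} (hi : i ∈ O) (p : ZMod 3 × ZMod 3) (k : ZMod 3) :
    vec b i (p.1 * k, p.2 * k) = vec b i p ^ k.val := by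
  have hj := H.b0_mem hi
  simp only [vec]
  rw [(show Commute (i ^ p.1.val) ((b 0 * i * (b 0)⁻¹) ^ p.2.val) from
    H.abelian M (pow_mem hi _) (pow_mem hj _)).mul_pow, (pow_zval (H.cube M hi) p.1 k).2,
    (pow_zval (H.cube M hj) p.2 k).2]

/-- A basis of the inverted elements. -/
theorem exists_basis (H : OGrp T O) (M : Mdl S g) : ∃ i : G, i ∈ O ∧ z * i * z = i⁻¹ ∧ i ≠ 1 ∧
    Function.Injective (vec b i) ∧ ∀ x ∈ O, z * x * z = x⁻¹ → ∃ p, vec b i p = x := by
  classical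
  obtain ⟨-, hI⟩ := H.card_O M
  obtain ⟨d, hd1⟩ : ∃ d : H.Inv, d.1 ≠ 1 := by
    by_contra hcon
    push Not at hcon
    haveI : Subsingleton H.Inv := ⟨fun u v => Subtype.ext ((hcon u).trans (hcon v).symm)⟩
    have := Finite.card_le_one_iff_subsingleton.2 ‹Subsingleton H.Inv›
    omega
  obtain ⟨i, hi, hiz⟩ := d
  replace hd1 : i ≠ 1 := hd1
  haveI : Fact (Nat.Prime 3) := ⟨Nat.prime_three⟩
  have ho : orderOf i = 3 := orderOf_eq_prime (H.cube M hi) hd1
  have hinj : Function.Injective (vec b i) := by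
    have key : ∀ p : ZMod 3 × ZMod 3, vec b i p = 1 → p = 0 := by
      intro p hp
      have hb : p.2 = 0 := by
        by_contra hne
        have h2 := H.vec_smul M hi p p.2
        rw [hp, one_pow, show p.2 * p.2 = 1 from sq_one_zmod _ hne] at h2
        simp only [vec, ZMod.val_one, pow_one] at h2
        exact hd1 (H.no_invariant hi hiz (H.cube M hi) (m := (-(p.1 * p.2)).val) (by
          rw [← mul_right_inj (i ^ (p.1 * p.2).val), h2, ← (pow_zval (H.cube M hi) _ _).1]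
          simp))
      refine Prod.ext ?_ hb
      simp only [vec, hb, ZMod.val_zero, pow_zero, mul_one] at hp
      have := orderOf_dvd_of_pow_eq_one hp
      rw [ho] at this
      exact (ZMod.val_eq_zero p.1).1 (Nat.eq_zero_of_dvd_of_lt this (ZMod.val_lt p.1))
    intro p q e
    refine sub_eq_zero.1 (key _ ?_)
    have h := H.vec_add M hi (p - q) q
    rw [sub_add_cancel, e] at h
    exact mul_eq_right.1 h.symm
  refine ⟨i, hi, hiz, hd1, hinj, fun x hx hxz => ?_⟩
  let F : ZMod 3 × ZMod 3 → H.Inv := fun p => ⟨vec b i p, H.vec_mem M hi hiz p⟩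
  obtain ⟨p, hp⟩ := ((Nat.bijective_iff_injective_and_card F).2
    ⟨fun p q e => hinj (congrArg Subtype.val e), by rw [hI, Nat.card_prod, Nat.card_zmod]⟩).2 ⟨x, hx, hxz⟩
  exact ⟨p, congrArg Subtype.val hp⟩

/-- Trivial action on the inverted elements. -/
theorem ker_I (H : OGrp T O) (M : Mdl S g) {i : G} (hi : i ∈ O) (hiz : z * i * z = i⁻¹) (hi1 : i ≠ 1)
    (φ : T.N →* GL (Fin 2) (ZMod 3))
    (hφ : ∀ u : T.N, φ u = 1 ↔ (u : G) * i * (u : G)⁻¹ = i ∧
      (u : G) * (b 0 * i * (b 0)⁻¹) * (u : G)⁻¹ = b 0 * i * (b 0)⁻¹)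
    {u : T.N} (hu : φ u = 1) : (u : G) ∈ T.A0 := by
  obtain ⟨k, hk, n, hn, e, he, hue⟩ := T.exists_rep u.2
  have hj := H.b0_mem hi
  have hcA : ∀ x ∈ T.A0, ∀ y ∈ O, x * y * x⁻¹ = y := fun x hx y hy =>
    mul_inv_eq_iff_eq_mul.2 (H.comm hy hx).symm
  by_cases hk0 : k = 0
  · subst hk0
    have hr : rep b 0 = 1 := by simp [rep, sEl, pEl]
    rw [hr, one_mul] at hue
    interval_cases e
    · rw [hue, pow_zero, mul_one]; exact T.el3_mem hn
    · exfalso
      have h := ((hφ u).1 hu).1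
      rw [hue, pow_one] at h
      have h' : el3 a n * (z * i * z⁻¹) * (el3 a n)⁻¹ = i := Eq.trans (by group) h
      rw [S.code.zinv, hiz, hcA _ (T.el3_mem hn) _ (inv_mem hi)] at h'
      refine hi1 (sq_inj (H.odd hi) (by simp) ?_)
      rw [mul_one]
      nth_rw 1 [← h']
      rw [inv_mul_cancel]
  exfalso
  have hw := wit_ok
  simp only [List.all_eq_true, List.mem_range, Bool.or_eq_true, beq_iff_eq, List.any_eq_true, Bool.and_eq_true] at hw
  obtain ⟨k1, hk1, k2, hk2, hp, hsur⟩ := (hw k hk).resolve_left hk0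
  set r1 : T.N := ⟨rep b k1, T.rep_mem hk1⟩
  set r2 : T.N := ⟨rep b k2, T.rep_mem hk2⟩
  set w : T.N := r2 * (u * r1 * u⁻¹ * r1⁻¹) * r2⁻¹ with hwdef
  have hw1 : φ w = 1 := by
    rw [hwdef]; simp [hu]
  have cu : ∀ {s}, s < 6 → (u : G) * el3 a (six s) * (u : G)⁻¹ = el3 a (six (prm k s)) := fun {s} hs => by
    rw [hue]; exact T.conj_six hk hn hs
  set v : G := (b 0)⁻¹ * (w : G) with hv
  have hvs : ∀ t, t < 6 → v * el3 a (six t) * v⁻¹ = el3 a (six t) := by
    intro t ht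
    obtain ⟨s, hs, hst⟩ := hsur t ht
    have s1 := (T.prm_spec hk1 hs).1
    have s2 := (T.prm_spec hk hs).1
    have s3 := (T.prm_spec hk1 s2).1
    have e1 : rep b k2 * (rep b k1 * (u : G)) * el3 a (six s) * (rep b k2 * (rep b k1 * (u : G)))⁻¹ =
        el3 a (six t) := by
      calc _ = rep b k2 * (rep b k1 * ((u : G) * el3 a (six s) * (u : G)⁻¹) * (rep b k1)⁻¹) * (rep b k2)⁻¹ := by
            group
        _ = _ := by rw [cu hs, (T.prm_spec hk1 s2).2, (T.prm_spec hk2 s3).2, hst]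
    have e2 : rep b k2 * ((u : G) * rep b k1) * el3 a (six s) * (rep b k2 * ((u : G) * rep b k1))⁻¹ =
        el3 a (six (prm 6 t)) := by
      calc _ = rep b k2 * ((u : G) * (rep b k1 * el3 a (six s) * (rep b k1)⁻¹) * (u : G)⁻¹) * (rep b k2)⁻¹ := by
            group
        _ = _ := by rw [(T.prm_spec hk1 hs).2, cu s1, (T.prm_spec hk2 (T.prm_spec hk s1).1).2, hp s hs, hst]
    have e3 : b 0 * el3 a (six t) * (b 0)⁻¹ = el3 a (six (prm 6 t)) := by
      rw [← T.rep_six.1]; exact (T.prm_spec (show 6 < 24 by norm_num) ht).2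
    have hwe : (w : G) = rep b k2 * ((u : G) * rep b k1) * (rep b k2 * (rep b k1 * (u : G)))⁻¹ := by
      show rep b k2 * ((u : G) * rep b k1 * (u : G)⁻¹ * (rep b k1)⁻¹) * (rep b k2)⁻¹ = _
      group
    calc v * el3 a (six t) * v⁻¹ = (b 0)⁻¹ * ((w : G) * el3 a (six t) * (w : G)⁻¹) * b 0 := by rw [hv]; group
      _ = (b 0)⁻¹ * (rep b k2 * ((u : G) * rep b k1) * el3 a (six s) * (rep b k2 * ((u : G) * rep b k1))⁻¹) * b 0 := by
          rw [← e1, hwe]; group
      _ = _ := by rw [e2, ← e3]; group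
  have hva : ∀ l, l < 3 → Commute v (a l) := by
    intro l hl
    have := hvs (2 * l) (by omega)
    rw [show six (2 * l) = [1, 3, 9].getD l 0 by interval_cases l <;> rfl, el3_single hl] at this
    exact mul_inv_eq_iff_eq_mul.1 this
  have hvA : ∀ x ∈ T.A0, v * x = x * v := by
    rintro x ⟨m, -, rfl⟩
    exact (T.commute_all hva m).eq
  have hvz : v * z = z * v := comm_mul (comm_inv (T.hb 0 (by norm_num)).comm) (T.mem_N.1 w.2).1
  obtain ⟨m, hm, e', he', hve⟩ := T.cent_A0 hvz hvA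
  have hwi := ((hφ w).1 hw1).1
  rw [show (w : G) = b 0 * v by rw [hv]; group, hve] at hwi
  have key : b 0 * (z ^ e' * i * (z ^ e')⁻¹) * (b 0)⁻¹ = i := by
    refine Eq.trans ?_ hwi
    have hy : z ^ e' * i * (z ^ e')⁻¹ ∈ O := H.conj (pow_mem T.z_mem_N e').2 hi
    calc b 0 * (z ^ e' * i * (z ^ e')⁻¹) * (b 0)⁻¹
        = b 0 * (el3 a m * (z ^ e' * i * (z ^ e')⁻¹) * (el3 a m)⁻¹) * (b 0)⁻¹ := by rw [hcA _ (T.el3_mem hm) _ hy]
      _ = _ := by group
  interval_cases e'
  · simp only [pow_zero, one_mul, inv_one, mul_one] at key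
    exact hi1 (H.no_invariant hi hiz (H.cube M hi) (m := 1) (by rw [pow_one]; exact key))
  · rw [pow_one, S.code.zinv, hiz] at key
    refine hi1 (H.no_invariant hi hiz (H.cube M hi) (m := 2) ?_)
    have : b 0 * i * (b 0)⁻¹ = i⁻¹ := by
      calc b 0 * i * (b 0)⁻¹ = (b 0 * i⁻¹ * (b 0)⁻¹)⁻¹ := by group
        _ = i⁻¹ := by rw [key]
    rw [this]
    exact inv_eq_of_mul_eq_one_right (by rw [← pow_succ']; exact H.cube M hi)

/-- The centralizer of the image of `z` is `GL(2,3)`. -/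
theorem cent_iso (H : OGrp T O) (M : Mdl S g) :
    Nonempty (↥(Subgroup.centralizer ({H.zW} : Set (Wq O))) ≃* GL (Fin 2) (ZMod 3)) := by
  classical
  haveI : Fact (Nat.Prime 3) := ⟨Nat.prime_three⟩
  obtain ⟨i, hi, hiz, hi1, hinj, hsur⟩ := H.exists_basis M
  have hj := H.b0_mem hi
  have hjz := H.b0_inv hiz
  set j := b 0 * i * (b 0)⁻¹
  choose ci hci using fun u : T.N => hsur _ (H.conj u.2.2 hi) (H.N_inv u.2 hiz)
  choose cj hcj using fun u : T.N => hsur _ (H.conj u.2.2 hj) (H.N_inv u.2 hjz)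
  let mat : T.N → Matrix (Fin 2) (Fin 2) (ZMod 3) := fun u => !![(ci u).1, (cj u).1; (ci u).2, (cj u).2]
  have act : ∀ (u : T.N) (p : ZMod 3 × ZMod 3), (u : G) * vec b i p * (u : G)⁻¹ =
      vec b i ((ci u).1 * p.1 + (cj u).1 * p.2, (ci u).2 * p.1 + (cj u).2 * p.2) := by
    intro u p
    have e : (u : G) * vec b i p * (u : G)⁻¹ =
        ((u : G) * i * (u : G)⁻¹) ^ p.1.val * ((u : G) * j * (u : G)⁻¹) ^ p.2.val := by
      rw [conj_pow, conj_pow]
      show (u : G) * (i ^ p.1.val * j ^ p.2.val) * (u : G)⁻¹ = _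
      group
    rw [e, ← hci u, ← hcj u, ← H.vec_smul M hi, ← H.vec_smul M hi, ← H.vec_add M hi]
    rfl
  have hone : ∀ u : T.N, mat u = 1 ↔ (u : G) * i * (u : G)⁻¹ = i ∧ (u : G) * j * (u : G)⁻¹ = j := by
    intro u
    have vi : vec b i (1, 0) = i := by simp [vec, ZMod.val_one]
    have vj : vec b i (0, 1) = j := by simp [vec, ZMod.val_one, j]
    rw [← hci u, ← hcj u]
    rw [hinj.eq_iff' vi, hinj.eq_iff' vj]
    constructor
    · intro h
      exact ⟨Prod.ext (congrFun (congrFun h 0) 0) (congrFun (congrFun h 1) 0),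
        Prod.ext (congrFun (congrFun h 0) 1) (congrFun (congrFun h 1) 1)⟩
    · rintro ⟨h1, h2⟩
      simp only [mat, h1, h2]
      exact Matrix.one_fin_two.symm
  let fM : T.N →* Matrix (Fin 2) (Fin 2) (ZMod 3) :=
    { toFun := mat
      map_one' := (hone 1).2 ⟨by simp, by simp⟩
      map_mul' := fun u v => by
        have e1 : ci (u * v) = ((ci u).1 * (ci v).1 + (cj u).1 * (ci v).2, (ci u).2 * (ci v).1 + (cj u).2 * (ci v).2) := by
          refine hinj ?_
          rw [← act, hci v, hci (u * v), Subgroup.coe_mul]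
          group
        have e2 : cj (u * v) = ((ci u).1 * (cj v).1 + (cj u).1 * (cj v).2, (ci u).2 * (cj v).1 + (cj u).2 * (cj v).2) := by
          refine hinj ?_
          rw [← act, hcj v, hcj (u * v), Subgroup.coe_mul]
          group
        simp only [mat, e1, e2, Matrix.mul_fin_two] }
  let φ := fM.toHomUnits
  have hφ : ∀ u : T.N, φ u = 1 ↔ (u : G) * i * (u : G)⁻¹ = i ∧ (u : G) * j * (u : G)⁻¹ = j := fun u => by
    rw [← Units.val_inj, MonoidHom.coe_toHomUnits, Units.val_one]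
    exact hone u
  have hker : φ.ker = H.toWN.ker := by
    ext u
    rw [MonoidHom.mem_ker, MonoidHom.mem_ker, H.toWN_eq_one]
    refine ⟨H.ker_I M hi hiz hi1 φ hφ, fun hu => (hφ u).2 ?_⟩
    exact ⟨mul_inv_eq_iff_eq_mul.2 (H.comm hi hu).symm, mul_inv_eq_iff_eq_mul.2 (H.comm hj hu).symm⟩
  have hsurj : Function.Surjective φ := by
    refine MonoidHom.range_eq_top.1 (Subgroup.eq_top_of_card_eq _ ?_)
    have h := Subgroup.card_eq_card_quotient_mul_card_subgroup φ.ker
    rw [T.card_N, Nat.card_congr (QuotientGroup.quotientKerEquivRange φ).toEquiv, hker, H.card_ker_N] at h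
    rw [show Nat.card (GL (Fin 2) (ZMod 3)) = 48 from GL23.card_Q]
    omega
  exact ⟨(MulEquiv.subgroupCongr H.range_eq.symm).trans
    ((QuotientGroup.quotientKerEquivRange H.toWN).symm.trans
      ((QuotientGroup.quotientMulEquivOfEq hker.symm).trans
        (QuotientGroup.quotientKerEquivOfSurjective φ hsurj)))⟩

end Tri.OGrp

end Cfsg.Agent.Invol.Suz.Loc.Three
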