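import Cfsg.Agent.Lib.Invol.Suz.Loc.ThreeM

/-!
# Elements of order three with a small commutator and their normalizers
-/

set_option autoImplicit false
set_option linter.unusedSectionVars false
set_option linter.style.haveILetI false

namespace Cfsg.Agent.Invol.Suz.Loc.Three

open Cfsg Cfsg.Agent.Classical.BinCoc Cfsg.Agent.Invol.Big Cfsg.Agent.Invol.Big.Code Cfsg.Agent.Invol.Suz.Loc

variable {G : Type*} [Group G] [Finite G] {z : G} {Q : Subgroup G} {cd : G → ℕ}
variable {S : Setting z Q cd} {g : ℕ → G} {a b : ℕ → G}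

theorem six_move : ((List.range 6).all fun s => (List.range 24).any fun k => decide (prm k s < 2)) = true ∧
    ((List.range 6).all fun s => (List.range 24).any fun k => prm k 0 == s) = true ∧ prm 6 0 = 1 := by
  decide +kernel

/-- The codes of the commutators with an element. -/
noncomputable def imC (h : Code K6 z Q cd) (x : G) : Finset ℕ :=
  (Finset.range 64).image fun v => v ^^^ h.act x v

theorem imC_conj (h : Code K6 z Q cd) {c x : G} (hc : c * z = z * c) (hx : x * z = z * x) :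
    (imC h (c * x * c⁻¹)).card ≤ (imC h x).card := by
  refine le_trans (Finset.card_le_card ?_) (Finset.card_image_le (f := h.act c))
  intro m hm
  simp only [imC, Finset.mem_image, Finset.mem_range] at hm ⊢
  obtain ⟨v, hv, rfl⟩ := hm
  have hv' : v < 2 ^ K6.n := hv
  set w := h.act c⁻¹ v with hw
  have hwl : w < 2 ^ K6.n := h.act_lt (comm_inv hc) v
  refine ⟨w ^^^ h.act x w, ⟨w, hwl, rfl⟩, ?_⟩
  rw [h.act_xor hc hwl (h.act_lt hx w), hw, h.act_inv_right hc hv', h.act_mul (comm_mul hc hx) (comm_inv hc) hv',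
    ← hw, h.act_mul hc hx hwl]

theorem ap_half (f : List ℕ) (x : ℕ) : ap K6 f x / 2 = ap K6 f (2 * (x / 2)) / 2 := by
  simp only [ap, Nat.xor_div_two, Nat.mul_div_cancel_left _ two_pos, Nat.mul_mod_right]
  rw [Nat.div_eq_of_lt (show x % 2 < 2 from Nat.mod_lt _ two_pos)]

namespace Tri

/-- An element of order three with few commutators is conjugate into the first plane's rotations. -/
theorem conj_small (T : Tri S a b) {x : G} (hx : x * z = z * x) (hx3 : orderOf x = 3)
    (him : (imC S.code x).card ≤ 4) : ∃ c, c * z = z * c ∧ c * x * c⁻¹ ∈ Subgroup.zpowers (a 0) := by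
  classical
  obtain ⟨R, hR, -, hRN, hconj⟩ := T.exists_R
  obtain ⟨c, hc, hcR⟩ := hconj (Subgroup.zpowers x)
    (IsPGroup.of_card (n := 1) (by rw [Nat.card_zpowers, hx3]; rfl))
    (Subgroup.zpowers_le.2 (Subgroup.mem_centralizer_singleton_iff.2 hx))
  set x' := c * x * c⁻¹ with hx'
  have hxR : x' ∈ R := hcR x (Subgroup.mem_zpowers x)
  have hx'3 : orderOf x' = 3 := by rw [hx', orderOf_conj', hx3]
  have h1 : x' ^ 3 = 1 := hx'3 ▸ pow_orderOf_eq_one x'
  have him' : (imC S.code x').card ≤ 4 := (imC_conj S.code hc hx).trans him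
  obtain ⟨k, hk, n, hn, e, he, hxe⟩ := T.exists_rep (hRN hxR)
  have hp : ∀ s < 6, prm k (prm k (prm k s)) = s := T.prm_cube (e := e) hk hn (by
    rw [← hxe, show (81 : ℕ) = 3 * 27 by norm_num, pow_mul, h1, one_pow])
  have hok := im_ok
  simp only [List.all_eq_true, List.mem_range, Bool.or_eq_true, Bool.and_eq_true, Bool.not_eq_true', beq_iff_eq,
    List.contains_iff_mem, List.mem_map, decide_eq_true_eq] at hok
  have hzc : z * x' = x' * z := (comm_mul (comm_mul hc hx) (comm_inv hc)).symm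
  rcases hok k hk with hcon | hall
  · rw [List.all_eq_false] at hcon
    obtain ⟨s, hs, hne⟩ := hcon
    rw [List.mem_range] at hs
    simp [hp s hs] at hne
  have hr0 : rep b 0 = 1 := by simp [rep, sEl, pEl]
  rcases hall n hn with (⟨rfl, s, hs, rfl⟩ | ⟨rfl, rfl⟩) | hbig
  · -- weight one
    rw [hr0, one_mul] at hxe
    have he0 : e = 0 := by
      interval_cases e
      · rfl
      · exfalso
        rw [hxe, pow_one, (show Commute (el3 a (six s)) z from T.z_comm_el3 hn).mul_pow, T.el3_cube, one_mul,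
          pow_three, S.code.ext.zz, mul_one] at h1
        exact S.code.ne h1
    subst he0
    rw [pow_zero, mul_one] at hxe
    have hm := six_move.1
    simp only [List.all_eq_true, List.mem_range, List.any_eq_true, decide_eq_true_eq] at hm
    obtain ⟨k', hk', hlt⟩ := hm s hs
    refine ⟨rep b k' * c, comm_mul (T.hat_rep hk').comm hc, ?_⟩
    rw [show rep b k' * c * x * (rep b k' * c)⁻¹ = rep b k' * x' * (rep b k')⁻¹ by rw [hx']; group, hxe,
      (T.prm_spec hk' hs).2]
    have e0 : el3 a (six 0) = a 0 := el3_single (i := 0) (by norm_num)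
    interval_cases prm k' s
    · rw [e0]; exact Subgroup.mem_zpowers _
    · rw [show six 1 = add (six 0) (six 0) from rfl, ← (T.el3_mul (by decide : six 0 < 27) (by decide : six 0 < 27)).2, e0]
      exact mul_mem (Subgroup.mem_zpowers _) (Subgroup.mem_zpowers _)
  · exfalso
    rw [hr0, el3_zero, one_mul, one_mul] at hxe
    interval_cases e
    · rw [hxe, pow_zero, orderOf_one] at hx'3; omega
    · rw [hxe, pow_one, S.code.ord] at hx'3; omega
  · exfalso
    have hzk := (T.hat_rep hk).comm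
    have hzn := T.z_comm_el3 hn
    have hz1 : ∀ v < 2 ^ K6.n, S.code.act (z ^ e) v = v := fun v hv =>
      ((S.code.mem_iff ((Commute.refl z).pow_left e).eq).1 (pow_mem S.code.ext.mem e) v hv)
    refine absurd him' (not_le.2 (lt_of_lt_of_le hbig ?_))
    rw [← List.card_toFinset]
    refine Finset.card_le_card fun m hm => ?_
    simp only [List.mem_toFinset, List.mem_map] at hm
    obtain ⟨v, hv, rfl⟩ := hm
    have hv64 : v < 2 ^ K6.n := (by decide : ∀ v ∈ imPts, v < 2 ^ K6.n) v hv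
    refine Finset.mem_image.2 ⟨v, Finset.mem_range.2 hv64, ?_⟩
    congr 1
    have hzee : z ^ e * z = z * z ^ e := ((Commute.refl z).pow_left e).eq
    rw [hxe, S.code.act_mul hzk (comm_mul hzn hzee) hv64, S.code.act_mul hzn hzee hv64, hz1 v hv64,
      (T.hat_rep hk).act_eq (S.code.act_lt hzn v), (T.hat_el3 hn).act_eq hv64, ← ap_half]

end Tri

theorem eleven_table : ∀ m : Fin 46, ∀ t : Fin 66, 45 % m.val = 0 → m.val % 9 ≠ 0 →
    16 * m.val % (11 * t.val + 1) = 0 → (11 * t.val + 1) % 8 ≠ 0 := by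
  decide +kernel

theorem eleven_arith {R c e n : ℕ} (hR : R ∣ 7920) (h16 : 16 ∣ R) (h9 : ¬ 9 ∣ R) (h11 : 11 ∣ R) (hc : ¬ 2 ∣ c)
    (hc11 : 11 ∣ c) (he : e ∣ 10) (hn : n % 11 = 1) (h : R = c * e * n) : False := by
  obtain ⟨m, rfl⟩ : 176 ∣ R := Nat.Coprime.mul_dvd_of_dvd_of_dvd (by norm_num : Nat.Coprime 16 11) h16 h11
  have hm45 : m ∣ 45 := Nat.dvd_of_mul_dvd_mul_left (show 0 < 176 by norm_num) hR
  have hm9 : ¬ 9 ∣ m := fun hd => h9 (hd.mul_left 176)
  obtain ⟨q, rfl⟩ := hc11
  have hq : ¬ 2 ∣ q := fun hq => hc (Dvd.dvd.mul_left hq 11)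
  have heq : 16 * m = q * e * n := Nat.eq_of_mul_eq_mul_left (show 0 < 11 by norm_num) (by linarith)
  have hn16 : n ∣ 16 * m := ⟨q * e, by rw [heq]; ring⟩
  have hm' := Nat.le_of_dvd (by norm_num) hm45
  have hmpos : 0 < m := Nat.pos_of_dvd_of_pos hm45 (by norm_num)
  have hnle := Nat.le_of_dvd (by omega) hn16
  have h10 : 16 ∣ 10 * n := by
    refine (Nat.Coprime.dvd_of_dvd_mul_left
      (Nat.Coprime.pow_left 4 ((Nat.Prime.coprime_iff_not_dvd Nat.prime_two).2 hq) : Nat.Coprime (2 ^ 4) q) ?_)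
    obtain ⟨f, hf⟩ := he
    exact ⟨m * f, by rw [hf]; calc q * (e * f * n) = (q * e * n) * f := by ring
                                _ = 16 * (m * f) := by rw [← heq]; ring⟩
  obtain ⟨t, rfl⟩ : ∃ t, n = 11 * t + 1 := ⟨n / 11, by omega⟩
  exact eleven_table ⟨m, by omega⟩ ⟨t, by omega⟩ (Nat.mod_eq_zero_of_dvd hm45) (fun e => hm9 (Nat.dvd_of_mod_eq_zero e))
    (Nat.mod_eq_zero_of_dvd hn16) (by show (11 * t + 1) % 8 = 0; omega)

end Cfsg.Agent.Invol.Suz.Loc.Three
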